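import Groth.Agent.Grass.K652.AffYoneda
import Groth.Prelude.Def_QuadGrp2
import Mathlib.AlgebraicGeometry.Morphisms.Smooth

/-!
# Schemes representing subgroup functors of linear automorphisms, and coordinate algebras
-/

set_option autoImplicit false

universe u v

open CategoryTheory AlgebraicGeometry TensorProduct QuadGrp MonObj

namespace K916.RepC

variable {R : Type u} [CommRing R]

/-- every morphism of spectra over `Spec R` comes from an algebra map -/
theorem exists_algHom {A C : Type u} [CommRing A] [Algebra R A] [CommRing C] [Algebra R C]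
    (g : specOver R A ⟶ specOver R C) : ∃ φ : C →ₐ[R] A, specOverMap R φ = g := by
  obtain ⟨ψ, hψ⟩ := Spec.map_surjective (R := CommRingCat.of C) (S := CommRingCat.of A) g.left
  have h1 : Spec.map (CommRingCat.ofHom (algebraMap R C) ≫ ψ) = Spec.map (CommRingCat.ofHom (algebraMap R A)) := by
    rw [Spec.map_comp, hψ]
    exact Over.w g
  have h2 := Spec.map_injective h1
  let φ : C →ₐ[R] A := { ψ.hom with commutes' := fun r => congr($(h2).hom r) }
  refine ⟨φ, ?_⟩
  ext1
  rw [← hψ]
  rfl

theorem specOverMap_injective {A C : Type u} [CommRing A] [Algebra R A] [CommRing C] [Algebra R C]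
    {φ ψ : C →ₐ[R] A} (h : specOverMap R φ = specOverMap R ψ) : φ = ψ := by
  have h1 : Spec.map (CommRingCat.ofHom φ.toRingHom) = Spec.map (CommRingCat.ofHom ψ.toRingHom) :=
    congrArg CommaMorphism.left h
  have h2 := Spec.map_injective h1
  ext x
  exact congr($(h2).hom x)

variable {M : Type u} [AddCommGroup M] [Module R M]
  {S : ∀ (A : Type u) [CommRing A] [Algebra R A], Subgroup ((A ⊗[R] M) ≃ₗ[A] (A ⊗[R] M))}

/-- `(C, γ)` is universal for the subgroup functor `S` -/
def IsUniv (S : ∀ (A : Type u) [CommRing A] [Algebra R A], Subgroup ((A ⊗[R] M) ≃ₗ[A] (A ⊗[R] M)))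
    (C : Type u) [CommRing C] [Algebra R C] (γ : ↥(S C)) : Prop :=
  ∀ (A : Type u) [CommRing A] [Algebra R A] (s : ↥(S A)), ∃! φ : C →ₐ[R] A, ∀ m : M,
    LinearMap.rTensor M φ.toLinearMap ((γ : (C ⊗[R] M) ≃ₗ[C] (C ⊗[R] M)) (1 ⊗ₜ m)) =
      (s : (A ⊗[R] M) ≃ₗ[A] (A ⊗[R] M)) (1 ⊗ₜ m)

theorem ext_one_tmul {A : Type u} [CommRing A] [Algebra R A] {s t : (A ⊗[R] M) ≃ₗ[A] (A ⊗[R] M)}
    (h : ∀ m : M, s (1 ⊗ₜ m) = t (1 ⊗ₜ m)) : s = t := by
  apply LinearEquiv.toLinearMap_injective
  apply AlgebraTensorModule.ext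
  intro a m
  have : (a ⊗ₜ[R] m : A ⊗[R] M) = a • ((1 : A) ⊗ₜ[R] m) := by rw [smul_tmul', smul_eq_mul, _root_.mul_one]
  rw [this, map_smul, map_smul]
  congr 1
  exact h m

/-- a scheme representing the functor is the spectrum of a universal algebra -/
theorem exists_iso {G : Over (Spec (CommRingCat.of R))} [GrpObj G] (D : LinRep R M S G)
    (C : Type u) [CommRing C] [Algebra R C] (γ : ↥(S C)) (hγ : IsUniv S C γ) : Nonempty (specOver R C ≅ G) := by
  let y : specOver R C ⟶ G := (D.pts C).symm γ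
  have hy : D.pts C y = γ := (D.pts C).apply_symm_apply γ
  have hnat : ∀ (A : Type u) [CommRing A] [Algebra R A] (φ : C →ₐ[R] A) (m : M),
      ((D.pts A (specOverMap R φ ≫ y) : ↥(S A)) : (A ⊗[R] M) ≃ₗ[A] (A ⊗[R] M)) (1 ⊗ₜ[R] m) =
      LinearMap.rTensor M φ.toLinearMap ((γ : (C ⊗[R] M) ≃ₗ[C] (C ⊗[R] M)) (1 ⊗ₜ[R] m)) := by
    intro A _ _ φ m
    rw [D.natural C A φ y m, hy]
  have hbij : ∀ A : CommAlgCat.{u} R, Function.Bijective
      (fun g : Grass.specOver R A ⟶ specOver R C => (g ≫ y : Grass.specOver R A ⟶ G)) := by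
    intro A
    constructor
    · intro g g' hgg
      obtain ⟨φ, rfl⟩ := exists_algHom (A := A) g
      obtain ⟨φ', rfl⟩ := exists_algHom (A := A) g'
      have h1 : specOverMap R φ ≫ y = specOverMap R φ' ≫ y := hgg
      obtain ⟨ψ, -, hψ⟩ := hγ A (D.pts A (specOverMap R φ ≫ y))
      have e1 := hψ φ fun m => (hnat A φ m).symm
      have e2 := hψ φ' fun m => by rw [h1]; exact (hnat A φ' m).symm
      rw [e1, e2]
    · intro t
      obtain ⟨φ, hφ, -⟩ := hγ A (D.pts A t)
      refine ⟨specOverMap R φ, ?_⟩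
      apply (D.pts A).injective
      apply Subtype.ext
      apply ext_one_tmul
      intro m
      exact (hnat A φ m).trans (hφ m)
  obtain ⟨i, -⟩ := K652.AffYoneda.exists_iso (X := specOver R C) (Y := G)
    (τ := fun A => Equiv.ofBijective _ (hbij A)) (by
      intro A B φ g g' h
      change (g' ≫ y).left = _ ≫ (g ≫ y).left
      rw [Over.comp_left, Over.comp_left, h, Category.assoc])
  exact ⟨i⟩

/-- smoothness of the representing scheme is smoothness of the universal algebra -/
theorem smooth_iff {G : Over (Spec (CommRingCat.of R))} [GrpObj G] (D : LinRep R M S G)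
    (C : Type u) [CommRing C] [Algebra R C] (γ : ↥(S C)) (hγ : IsUniv S C γ) :
    AlgebraicGeometry.Smooth G.hom ↔ Algebra.Smooth R C := by
  obtain ⟨i⟩ := exists_iso D C γ hγ
  have h1 : AlgebraicGeometry.Smooth (specOver R C).hom ↔ Algebra.Smooth R C := by
    change AlgebraicGeometry.Smooth (Spec.map (CommRingCat.ofHom (algebraMap R C))) ↔ _
    rw [HasRingHomProperty.Spec_iff (P := @AlgebraicGeometry.Smooth), CommRingCat.hom_ofHom, RingHom.smooth_algebraMap]
  rw [← h1]
  have e1 : G.hom = i.inv.left ≫ (specOver R C).hom := (Over.w i.inv).symm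
  have e2 : (specOver R C).hom = i.hom.left ≫ G.hom := (Over.w i.hom).symm
  have i1 : IsIso i.hom.left := inferInstanceAs (IsIso ((Over.forget _).map i.hom))
  have i2 : IsIso i.inv.left := inferInstanceAs (IsIso ((Over.forget _).map i.inv))
  constructor
  · intro h
    rw [e2]
    infer_instance
  · intro h
    rw [e1]
    infer_instance

end K916.RepC
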