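import Groth.Agent.QuadGrp.K916.Coord
import Mathlib.Tactic.NoncommRing

/-!
# Infinitesimal lifting of isometries of a regular form
-/

set_option autoImplicit false

universe u v

open Matrix

namespace K916.LiftEven

open Coord

variable {B : Type u} [CommRing B] {n : ℕ}

/-- the quadratic form of a matrix: its diagonal and symmetrisation -/
def qf (P : Matrix (Fin n) (Fin n) B) : (Fin n → B) × Matrix (Fin n) (Fin n) B := (P.diag, P + Pᵀ)

theorem qf_add (P P' : Matrix (Fin n) (Fin n) B) : qf (P + P') = qf P + qf P' := by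
  rw [qf, qf, qf, Matrix.diag_add, Matrix.transpose_add, Prod.mk_add_mk]
  congr 1
  abel

theorem qf_neg (P : Matrix (Fin n) (Fin n) B) : qf (-P) = -qf P := by
  rw [qf, qf, Matrix.diag_neg, Matrix.transpose_neg, Prod.neg_mk]
  congr 1
  abel

theorem qf_sub (P P' : Matrix (Fin n) (Fin n) B) : qf (P - P') = qf P - qf P' := by
  rw [sub_eq_add_neg, qf_add, qf_neg, sub_eq_add_neg]

theorem qf_transpose (P : Matrix (Fin n) (Fin n) B) : qf Pᵀ = qf P := by
  rw [qf, qf, Matrix.diag_transpose, Matrix.transpose_transpose, add_comm Pᵀ]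

theorem qf_zero : qf (0 : Matrix (Fin n) (Fin n) B) = 0 := by
  rw [qf]; simp

theorem isIso_iff (c g : Matrix (Fin n) (Fin n) B) : IsIso c g ↔ qf (gᵀ * c * g) = qf c := by
  rw [IsIso, qf, qf, Prod.mk_inj]
  constructor
  · rintro ⟨h1, h2⟩
    refine ⟨funext h1, ?_⟩
    ext i j
    rw [Matrix.add_apply, Matrix.add_apply, Matrix.transpose_apply, Matrix.transpose_apply, h2]
  · rintro ⟨h1, h2⟩
    refine ⟨fun i => congrFun h1 i, fun i j => ?_⟩
    have := congrFun (congrFun h2 i) j
    rwa [Matrix.add_apply, Matrix.add_apply, Matrix.transpose_apply, Matrix.transpose_apply] at this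

/-- the lower triangular representative of the quadratic form of a matrix -/
def low (E : Matrix (Fin n) (Fin n) B) : Matrix (Fin n) (Fin n) B :=
  Matrix.of fun i j => if i = j then E i i else if j < i then E i j + E j i else 0

theorem qf_low (E : Matrix (Fin n) (Fin n) B) : qf (low E) = qf E := by
  rw [qf, qf, Prod.mk_inj]
  constructor
  · funext i
    simp [low]
  · ext i j
    rw [Matrix.add_apply, Matrix.add_apply, Matrix.transpose_apply, Matrix.transpose_apply]
    simp only [low, Matrix.of_apply]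
    rcases lt_trichotomy i j with h | h | h
    · rw [if_neg h.ne, if_neg h.not_gt, if_neg h.ne', if_pos h, zero_add, add_comm]
    · subst h; simp
    · rw [if_neg h.ne', if_pos h, if_neg h.ne, if_neg h.not_gt, add_zero]

/-- matrices with entries in an ideal -/
def InI (I : Ideal B) (P : Matrix (Fin n) (Fin n) B) : Prop := ∀ i j, P i j ∈ I

theorem InI.mul_left {I : Ideal B} {P : Matrix (Fin n) (Fin n) B} (h : InI I P) (N : Matrix (Fin n) (Fin n) B) :
    InI I (N * P) := by
  intro i j
  rw [Matrix.mul_apply]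
  exact Ideal.sum_mem _ fun k _ => I.mul_mem_left _ (h k j)

theorem InI.mul_right {I : Ideal B} {P : Matrix (Fin n) (Fin n) B} (h : InI I P) (N : Matrix (Fin n) (Fin n) B) :
    InI I (P * N) := by
  intro i j
  rw [Matrix.mul_apply]
  exact Ideal.sum_mem _ fun k _ => I.mul_mem_right _ (h i k)

theorem InI.transpose {I : Ideal B} {P : Matrix (Fin n) (Fin n) B} (h : InI I P) : InI I Pᵀ := fun i j => h j i

theorem InI.add {I : Ideal B} {P P' : Matrix (Fin n) (Fin n) B} (h : InI I P) (h' : InI I P') : InI I (P + P') :=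
  fun i j => I.add_mem (h i j) (h' i j)

theorem InI.neg {I : Ideal B} {P : Matrix (Fin n) (Fin n) B} (h : InI I P) : InI I (-P) :=
  fun i j => I.neg_mem (h i j)

theorem mul_eq_zero_of_sq {I : Ideal B} (hI : I ^ 2 = ⊥) {a b : B} (ha : a ∈ I) (hb : b ∈ I) : a * b = 0 := by
  have h : a * b ∈ I ^ 2 := by rw [pow_two]; exact Ideal.mul_mem_mul ha hb
  rw [hI] at h
  exact h

theorem InI.mul_eq_zero {I : Ideal B} (hI : I ^ 2 = ⊥) {P P' : Matrix (Fin n) (Fin n) B} (h : InI I P)
    (h' : InI I P') : P * P' = 0 := by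
  ext i j
  rw [Matrix.mul_apply, Matrix.zero_apply]
  exact Finset.sum_eq_zero fun k _ => mul_eq_zero_of_sq hI (h i k) (h' k j)

theorem inI_low {I : Ideal B} {c g : Matrix (Fin n) (Fin n) B}
    (h : IsIso (c.map (Ideal.Quotient.mk I)) (g.map (Ideal.Quotient.mk I))) : InI I (low (c - gᵀ * c * g)) := by
  have h1 : (g.map (Ideal.Quotient.mk I))ᵀ * c.map (Ideal.Quotient.mk I) * g.map (Ideal.Quotient.mk I) =
      (gᵀ * c * g).map (Ideal.Quotient.mk I) := by
    rw [Matrix.map_mul, Matrix.map_mul, Matrix.transpose_map]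
  intro i j
  rw [low, Matrix.of_apply]
  split_ifs with h2 h3
  · have := h.1 i
    rw [h1, Matrix.map_apply, Matrix.map_apply, Ideal.Quotient.eq] at this
    rw [Matrix.sub_apply]
    have h4 := I.neg_mem this
    rwa [neg_sub] at h4
  · have := h.2 i j
    rw [h1, Matrix.map_apply, Matrix.map_apply, Matrix.map_apply, Matrix.map_apply, ← map_add, ← map_add,
      Ideal.Quotient.eq] at this
    rw [Matrix.sub_apply, Matrix.sub_apply]
    have h4 := I.neg_mem this
    rw [neg_sub] at h4
    convert h4 using 1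
    ring
  · exact I.zero_mem

/-- first order change of an isometry: if `X` has entries in a square-zero ideal then
`Q(g (1 + X)) = Q(g) + (D X)` with `D` the polar matrix, for `g` an isometry modulo the ideal. -/
theorem qf_change {I : Ideal B} (hI : I ^ 2 = ⊥) {c g X : Matrix (Fin n) (Fin n) B}
    (h : IsIso (c.map (Ideal.Quotient.mk I)) (g.map (Ideal.Quotient.mk I))) (hX : InI I X) :
    qf ((g * (1 + X))ᵀ * c * (g * (1 + X))) = qf (gᵀ * c * g) + qf ((c + cᵀ) * X) := by
  have e1 : (g * (1 + X))ᵀ * c * (g * (1 + X)) =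
      gᵀ * c * g + Xᵀ * (gᵀ * c * g) + (gᵀ * c * g) * X + (Xᵀ * (gᵀ * c * g)) * X := by
    rw [Matrix.transpose_mul, Matrix.transpose_add, Matrix.transpose_one]
    noncomm_ring
  have e2 : (Xᵀ * (gᵀ * c * g)) * X = 0 := (hX.transpose.mul_right _).mul_eq_zero hI hX
  rw [e1, e2, add_zero, qf_add, qf_add, add_assoc]
  congr 1
  rw [← qf_transpose (Xᵀ * (gᵀ * c * g)), Matrix.transpose_mul, Matrix.transpose_transpose, ← qf_add,
    ← Matrix.add_mul]
  congr 1
  -- `N + Nᵀ` and `c + cᵀ` agree modulo `I`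
  have h3 : InI I (((gᵀ * c * g)ᵀ + gᵀ * c * g) - (c + cᵀ)) := by
    intro i j
    have := h.2 i j
    have h1 : (g.map (Ideal.Quotient.mk I))ᵀ * c.map (Ideal.Quotient.mk I) * g.map (Ideal.Quotient.mk I) =
        (gᵀ * c * g).map (Ideal.Quotient.mk I) := by
      rw [Matrix.map_mul, Matrix.map_mul, Matrix.transpose_map]
    rw [h1, Matrix.map_apply, Matrix.map_apply, Matrix.map_apply, Matrix.map_apply, ← map_add, ← map_add,
      Ideal.Quotient.eq] at this
    rw [Matrix.sub_apply, Matrix.add_apply, Matrix.add_apply, Matrix.transpose_apply, Matrix.transpose_apply,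
      add_comm ((gᵀ * c * g) j i)]
    exact this
  have h4 := h3.mul_eq_zero hI hX
  rw [Matrix.sub_mul, sub_eq_zero] at h4
  exact h4

theorem conj_polar {c g : Matrix (Fin n) (Fin n) B} (h : IsIso c g) : gᵀ * (c + cᵀ) * g = c + cᵀ := by
  have h2 : gᵀ * c * g + (gᵀ * c * g)ᵀ = c + cᵀ := congrArg Prod.snd ((isIso_iff c g).1 h)
  refine Eq.trans ?_ h2
  rw [Matrix.transpose_mul, Matrix.transpose_mul, Matrix.transpose_transpose, Matrix.mul_add, Matrix.add_mul,
    Matrix.mul_assoc gᵀ cᵀ g]

theorem det_mul_det_of_isIso {c g : Matrix (Fin n) (Fin n) B} (hc : IsUnit (c + cᵀ).det) (h : IsIso c g) :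
    g.det * g.det = 1 := by
  have h3 := congrArg Matrix.det (conj_polar h)
  rw [Matrix.det_mul, Matrix.det_mul, Matrix.det_transpose] at h3
  have h4 : (c + cᵀ).det * (g.det * g.det - 1) = 0 := by linear_combination h3
  rw [hc.mul_right_eq_zero, sub_eq_zero] at h4
  exact h4

/-- Isometries of a regular form lift along square-zero ideals. -/
theorem exists_lift {I : Ideal B} (hI : I ^ 2 = ⊥) {c g : Matrix (Fin n) (Fin n) B} (hc : IsUnit (c + cᵀ).det)
    (h : IsIso (c.map (Ideal.Quotient.mk I)) (g.map (Ideal.Quotient.mk I))) :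
    ∃ X : Matrix (Fin n) (Fin n) B, InI I X ∧ IsIso c (g * (1 + X)) := by
  have hE := inI_low h
  refine ⟨(c + cᵀ)⁻¹ * low (c - gᵀ * c * g), hE.mul_left _, ?_⟩
  rw [isIso_iff, qf_change hI h (hE.mul_left _), ← mul_assoc, Matrix.mul_nonsing_inv _ hc, one_mul, qf_low, qf_sub]
  abel

theorem map_mul_one_add {I : Ideal B} {g X : Matrix (Fin n) (Fin n) B} (hX : InI I X) :
    (g * (1 + X)).map (Ideal.Quotient.mk I) = g.map (Ideal.Quotient.mk I) := by
  ext i j
  rw [Matrix.map_apply, Matrix.map_apply, Ideal.Quotient.eq, Matrix.mul_add, Matrix.mul_one, Matrix.add_apply,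
    add_sub_cancel_left]
  exact hX.mul_left g i j

theorem det_map_sub_mem {I : Ideal B} {g h : Matrix (Fin n) (Fin n) B}
    (e : g.map (Ideal.Quotient.mk I) = h.map (Ideal.Quotient.mk I)) : g.det - h.det ∈ I := by
  rw [← Ideal.Quotient.eq, RingHom.map_det, RingHom.map_det]
  exact congrArg Matrix.det e

variable {R : Type u} [CommRing R]

/-- the lifting property for regular forms -/
theorem lifts_of_isUnit_det (c : Matrix (Fin n) (Fin n) R) (hc : IsUnit (c + cᵀ).det) : Lifts c false := by
  intro B _ _ I hI g g' h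
  have hc' : IsUnit (c.map (algebraMap R B) + (c.map (algebraMap R B))ᵀ).det := by
    have h1 : c.map (algebraMap R B) + (c.map (algebraMap R B))ᵀ = (algebraMap R B).mapMatrix (c + cᵀ) := by
      ext i j; simp
    rw [h1, ← RingHom.map_det]
    exact hc.map _
  obtain ⟨X, hX, hX'⟩ := exists_lift hI hc' h.iso
  have hdet := det_mul_det_of_isIso hc' hX'
  have hu : IsUnit (g * (1 + X)).det := IsUnit.of_mul_eq_one _ hdet
  refine ⟨g * (1 + X), (g * (1 + X))⁻¹, ⟨Matrix.mul_nonsing_inv _ hu, Matrix.nonsing_inv_mul _ hu, hX', ?_⟩,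
    map_mul_one_add hX⟩
  intro h; exact absurd h (by decide)

/-- the lifting property for the isometries of determinant one of a regular form when two is invertible -/
theorem lifts_of_isUnit_two (h2 : IsUnit (2 : R)) (c : Matrix (Fin n) (Fin n) R) (hc : IsUnit (c + cᵀ).det) :
    Lifts c true := by
  intro B _ _ I hI g g' h
  obtain ⟨k, k', hk, e⟩ := lifts_of_isUnit_det c hc B I hI g g' ⟨h.mul_inv, h.inv_mul, h.iso, by intro h; cases h⟩
  have hc' : IsUnit (c.map (algebraMap R B) + (c.map (algebraMap R B))ᵀ).det := by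
    have h1 : c.map (algebraMap R B) + (c.map (algebraMap R B))ᵀ = (algebraMap R B).mapMatrix (c + cᵀ) := by
      ext i j; simp
    rw [h1, ← RingHom.map_det]
    exact hc.map _
  refine ⟨k, k', ⟨hk.mul_inv, hk.inv_mul, hk.iso, fun _ => ?_⟩, e⟩
  have h3 := det_mul_det_of_isIso hc' hk.iso
  have h4 : k.det - 1 ∈ I := by
    have h5 := h.det rfl
    have h6 := RingHom.map_det (Ideal.Quotient.mk I) k
    have h7 : (Ideal.Quotient.mk I).mapMatrix k = k.map (Ideal.Quotient.mk I) := rfl
    rw [h7, e, h5] at h6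
    rw [← Ideal.Quotient.eq, h6, map_one]
  have h8 := mul_eq_zero_of_sq hI h4 h4
  have h9 : (2 : B) * (k.det - 1) = 0 := by linear_combination h3 - h8
  have h10 : IsUnit (2 : B) := by
    have := h2.map (algebraMap R B)
    rwa [map_ofNat] at this
  rw [h10.mul_right_eq_zero, sub_eq_zero] at h9
  exact h9

end K916.LiftEven
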