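import Groth.Agent.QuadGrp.K916.LiftEven
import Groth.Agent.QuadGrp.K917.Coef

/-!
# Isometries of a quadratic form on `R^n` and isometry matrices
-/

set_option autoImplicit false

universe u v

open Matrix

namespace K916.Bridge

open Coord K917.Coef QuadraticMap

variable {A : Type u} [CommRing A] {n : ℕ}

/-- the upper triangular matrix with given coefficients -/
def cm (a : Sym2 (Fin n) → A) : Matrix (Fin n) (Fin n) A := Matrix.of fun i j => if i ≤ j then a s(i, j) else 0

theorem cm_map {B : Type v} [CommRing B] (φ : A →+* B) (a : Sym2 (Fin n) → A) : (cm a).map φ = cm (φ ∘ a) := by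
  ext i j
  rw [Matrix.map_apply, cm, cm, Matrix.of_apply, Matrix.of_apply]
  split_ifs
  · rfl
  · exact map_zero φ

theorem qf_eq_dot (a : Sym2 (Fin n) → A) (x : Fin n → A) : qf a x = x ⬝ᵥ (cm a *ᵥ x) := by
  rw [qf_apply, dotProduct]
  refine Finset.sum_congr rfl fun i _ => ?_
  rw [Matrix.mulVec, dotProduct, Finset.mul_sum]
  refine Finset.sum_congr rfl fun j _ => ?_
  rw [cm, Matrix.of_apply]
  split_ifs <;> ring

theorem dot_single_add (P : Matrix (Fin n) (Fin n) A) (i j : Fin n) :
    (Pi.single i 1 : Fin n → A) ⬝ᵥ (P *ᵥ Pi.single j 1) = P i j := by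
  rw [Matrix.mulVec_single_one, single_one_dotProduct]
  rfl

/-- a matrix is alternating iff its quadratic form vanishes -/
theorem qf_eq_iff (P P' : Matrix (Fin n) (Fin n) A) :
    LiftEven.qf P = LiftEven.qf P' ↔ ∀ x : Fin n → A, x ⬝ᵥ (P *ᵥ x) = x ⬝ᵥ (P' *ᵥ x) := by
  constructor
  · intro h x
    rw [← sub_eq_zero, ← dotProduct_sub, ← Matrix.sub_mulVec]
    set N := P - P' with hN
    have h1 : LiftEven.qf N = 0 := by rw [hN, LiftEven.qf_sub, h, sub_self]
    have h2 : N.diag = 0 := congrArg Prod.fst h1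
    have h3 : N + Nᵀ = 0 := congrArg Prod.snd h1
    -- `N = L - Lᵀ` with `L` strictly lower triangular
    let L : Matrix (Fin n) (Fin n) A := Matrix.of fun i j => if j < i then N i j else 0
    have h4 : N = L - Lᵀ := by
      ext i j
      rw [Matrix.sub_apply, Matrix.transpose_apply]
      simp only [L, Matrix.of_apply]
      rcases lt_trichotomy i j with hij | hij | hij
      · rw [if_neg hij.not_gt, if_pos hij, zero_sub]
        have := congrFun (congrFun h3 i) j
        rw [Matrix.add_apply, Matrix.transpose_apply, Matrix.zero_apply] at this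
        exact eq_neg_of_add_eq_zero_left this
      · subst hij
        rw [if_neg (lt_irrefl _), sub_zero]
        exact congrFun h2 i
      · rw [if_pos hij, if_neg hij.not_gt, sub_zero]
    rw [h4, Matrix.sub_mulVec, dotProduct_sub, Matrix.mulVec_transpose, dotProduct_mulVec, dotProduct_comm (x ᵥ* L) x,
      sub_self]
  · intro h
    rw [LiftEven.qf, LiftEven.qf, Prod.mk_inj]
    constructor
    · funext i
      have := h (Pi.single i 1)
      rw [dot_single_add, dot_single_add] at this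
      exact this
    · ext i j
      have h1 := h (Pi.single i 1)
      have h2 := h (Pi.single j 1)
      have h3 := h (Pi.single i 1 + Pi.single j 1)
      rw [Matrix.mulVec_add, Matrix.mulVec_add, add_dotProduct, add_dotProduct, dotProduct_add, dotProduct_add,
        dotProduct_add, dotProduct_add] at h3
      simp only [dot_single_add] at h1 h2 h3
      rw [Matrix.add_apply, Matrix.add_apply, Matrix.transpose_apply, Matrix.transpose_apply]
      linear_combination h3 - h1 - h2

theorem isIso_iff_forall (c g : Matrix (Fin n) (Fin n) A) :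
    IsIso c g ↔ ∀ x : Fin n → A, (g *ᵥ x) ⬝ᵥ (c *ᵥ (g *ᵥ x)) = x ⬝ᵥ (c *ᵥ x) := by
  rw [LiftEven.isIso_iff, qf_eq_iff]
  refine forall_congr' fun x => ?_
  have : x ⬝ᵥ ((gᵀ * c * g) *ᵥ x) = (g *ᵥ x) ⬝ᵥ (c *ᵥ (g *ᵥ x)) := by
    rw [← Matrix.mulVec_mulVec, ← Matrix.mulVec_mulVec, dotProduct_mulVec x gᵀ, Matrix.vecMul_transpose]
  rw [this]

theorem isIso_cm_iff (a : Sym2 (Fin n) → A) (g : Matrix (Fin n) (Fin n) A) :
    IsIso (cm a) g ↔ ∀ x : Fin n → A, qf a (g *ᵥ x) = qf a x := by
  rw [isIso_iff_forall]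
  refine forall_congr' fun x => ?_
  rw [qf_eq_dot, qf_eq_dot]

/-- the linear automorphism of `A^n` given by a matrix and its inverse -/
def lin (g g' : Matrix (Fin n) (Fin n) A) (h : g * g' = 1) (h' : g' * g = 1) : (Fin n → A) ≃ₗ[A] (Fin n → A) :=
  LinearEquiv.ofLinearMap (Matrix.toLin' g) (Matrix.toLin' g')
    (by rw [← Matrix.toLin'_mul, h, Matrix.toLin'_one]) (by rw [← Matrix.toLin'_mul, h', Matrix.toLin'_one])

theorem lin_apply (g g' : Matrix (Fin n) (Fin n) A) (h : g * g' = 1) (h' : g' * g = 1) (x : Fin n → A) :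
    lin g g' h h' x = g *ᵥ x := rfl

theorem toLinearMap_lin (g g' : Matrix (Fin n) (Fin n) A) (h : g * g' = 1) (h' : g' * g = 1) :
    (lin g g' h h' : (Fin n → A) →ₗ[A] (Fin n → A)) = Matrix.toLin' g := rfl

theorem det_lin (g g' : Matrix (Fin n) (Fin n) A) (h : g * g' = 1) (h' : g' * g = 1) :
    LinearMap.det (lin g g' h h' : (Fin n → A) →ₗ[A] (Fin n → A)) = g.det := by
  rw [toLinearMap_lin, LinearMap.det_toLin']

theorem lin_mem_O {Q : QuadraticForm A (Fin n → A)} {g g' : Matrix (Fin n) (Fin n) A} (h : g * g' = 1) (h' : g' * g = 1)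
    (hg : IsIso (cm (cf Q)) g) : lin g g' h h' ∈ QuadGrp.O Q := by
  intro x
  have := (isIso_cm_iff (cf Q) g).1 hg x
  rw [qf_cf] at this
  exact this

/-- the matrix of an isometry -/
noncomputable def mt (g : (Fin n → A) ≃ₗ[A] (Fin n → A)) : Matrix (Fin n) (Fin n) A := LinearMap.toMatrix' (g : (Fin n → A) →ₗ[A] (Fin n → A))

theorem mt_mulVec (g : (Fin n → A) ≃ₗ[A] (Fin n → A)) (x : Fin n → A) : mt g *ᵥ x = g x := by
  rw [mt, ← Matrix.toLin'_apply, Matrix.toLin'_toMatrix']
  rfl

theorem mt_mul_mt_symm (g : (Fin n → A) ≃ₗ[A] (Fin n → A)) : mt g * mt g.symm = 1 := by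
  rw [mt, mt, ← LinearMap.toMatrix'_comp]
  have : (g : (Fin n → A) →ₗ[A] (Fin n → A)) ∘ₗ (g.symm : (Fin n → A) →ₗ[A] (Fin n → A)) = LinearMap.id := by
    ext1; simp
  rw [this, LinearMap.toMatrix'_id]

theorem mt_symm_mul_mt (g : (Fin n → A) ≃ₗ[A] (Fin n → A)) : mt g.symm * mt g = 1 := by
  rw [mt, mt, ← LinearMap.toMatrix'_comp]
  have : (g.symm : (Fin n → A) →ₗ[A] (Fin n → A)) ∘ₗ (g : (Fin n → A) →ₗ[A] (Fin n → A)) = LinearMap.id := by
    ext1; simp
  rw [this, LinearMap.toMatrix'_id]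

theorem det_mt (g : (Fin n → A) ≃ₗ[A] (Fin n → A)) :
    (mt g).det = LinearMap.det (g : (Fin n → A) →ₗ[A] (Fin n → A)) := by
  rw [mt, LinearMap.det_toMatrix']

theorem isIso_mt {Q : QuadraticForm A (Fin n → A)} {g : (Fin n → A) ≃ₗ[A] (Fin n → A)} (hg : g ∈ QuadGrp.O Q) :
    IsIso (cm (cf Q)) (mt g) := by
  rw [isIso_cm_iff, qf_cf]
  intro x
  rw [mt_mulVec]
  exact hg x

theorem cond_mt {Q : QuadraticForm A (Fin n → A)} {g : (Fin n → A) ≃ₗ[A] (Fin n → A)} (hg : g ∈ QuadGrp.O Q) :
    Cond (cm (cf Q)) false (mt g) (mt g.symm) where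
  mul_inv := mt_mul_mt_symm g
  inv_mul := mt_symm_mul_mt g
  iso := isIso_mt hg
  det h := absurd h (by decide)

/-- the polar matrix -/
theorem cm_add_transpose (Q : QuadraticForm A (Fin n → A)) :
    cm (cf Q) + (cm (cf Q))ᵀ = Matrix.of fun i j => polar Q (Pi.single i 1) (Pi.single j 1) := by
  ext i j
  rw [Matrix.add_apply, Matrix.transpose_apply, cm, Matrix.of_apply, Matrix.of_apply, Matrix.of_apply, cf_mk, cf_mk]
  rcases lt_trichotomy i j with h | h | h
  · rw [if_pos h.le, if_neg h.not_ge, add_zero, if_neg h.ne]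
  · subst h
    rw [if_pos le_rfl, if_pos rfl, polar_self, two_smul]
  · rw [if_neg h.not_ge, if_pos h.le, zero_add, if_neg h.ne, polar_comm]

theorem isUnit_det_of_isRegular (Q : QuadraticForm A (Fin n → A)) (hQ : QuadGrp.IsRegular Q) :
    IsUnit (cm (cf Q) + (cm (cf Q))ᵀ).det := by
  rw [cm_add_transpose]
  have := (K917.Base.isRegular_iff (Pi.basisFun A (Fin n)) Q).1 hQ
  rw [K917.Base.disc_eq_det] at this
  simpa only [Pi.basisFun_apply] using this

/-- the split form of even rank is regular -/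
theorem isRegular_splitForm_even (m : ℕ) : QuadGrp.IsRegular (QuadGrp.splitForm A (2 * m)) := by
  obtain ⟨T, hT⟩ := K917.Split.exists_dual A (2 * m)
  have h0 : ¬ ((2 * m) % 2 = 1) := by omega
  rw [K917.Base.isRegular_iff (Pi.basisFun A (Fin (2 * m))), K917.Base.disc_eq_det]
  set P : Matrix (Fin (2 * m)) (Fin (2 * m)) A := Matrix.of fun i j =>
    polar (QuadGrp.splitForm A (2 * m)) (Pi.basisFun A (Fin (2 * m)) i) (Pi.basisFun A (Fin (2 * m)) j) with hP
  have h1 : P * LinearMap.toMatrix' T = 1 := by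
    ext i j
    have h2 := hT (Pi.single i 1) (Pi.single j 1)
    rw [if_neg h0, sub_zero] at h2
    have h3 : T (Pi.single j 1) = ∑ k, LinearMap.toMatrix' T k j • (Pi.single k 1 : Fin (2 * m) → A) := by
      funext l
      rw [Finset.sum_apply, Finset.sum_eq_single l]
      · simp [LinearMap.toMatrix'_apply]
      · intro b _ hb
        simp [hb.symm]
      · intro h; exact absurd (Finset.mem_univ l) h
    rw [Matrix.mul_apply]
    have h4 : polar (QuadGrp.splitForm A (2 * m)) (Pi.single i 1) (T (Pi.single j 1)) =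
        ∑ k, P i k * LinearMap.toMatrix' T k j := by
      rw [h3]
      have h5 : ∀ (s : Finset (Fin (2 * m))) (f : Fin (2 * m) → Fin (2 * m) → A),
          polar (QuadGrp.splitForm A (2 * m)) (Pi.single i 1) (∑ k ∈ s, f k) =
          ∑ k ∈ s, polar (QuadGrp.splitForm A (2 * m)) (Pi.single i 1) (f k) := by
        intro s f
        have := map_sum (QuadraticMap.polarBilin (QuadGrp.splitForm A (2 * m)) (Pi.single i 1)) f s
        simpa only [QuadraticMap.polarBilin_apply_apply] using this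
      rw [h5]
      refine Finset.sum_congr rfl fun k _ => ?_
      rw [polar_smul_right, smul_eq_mul, mul_comm, hP, Matrix.of_apply, Pi.basisFun_apply, Pi.basisFun_apply]
    rw [← h4, h2, Matrix.one_apply, Finset.sum_eq_single j]
    · rw [Pi.single_eq_same, mul_one, Pi.single_apply]
      simp only [eq_comm]
    · intro b _ hb
      rw [Pi.single_eq_of_ne hb, mul_zero]
    · intro h; exact absurd (Finset.mem_univ j) h
  exact IsUnit.of_mul_eq_one _ (by rw [← Matrix.det_mul, h1, Matrix.det_one])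

end K916.Bridge
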