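import Groth.Agent.QuadGrp.K916.RepC
import Groth.Agent.QuadGrp.K916.Bridge
import Groth.Agent.QuadGrp.K917.Centralizer

/-!
# The coordinate algebra of isometries represents the orthogonal group and the naive special orthogonal group
-/

set_option autoImplicit false

universe u v

open TensorProduct QuadGrp Matrix

namespace K916.CoordRep

open RepC Coord Bridge K917.Coef

variable {R : Type u} [CommRing R] {n : ℕ}

section Equiv

variable (A : Type u) [CommRing A] [Algebra R A]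

/-- `A ⊗ R^n = A^n` -/
noncomputable def eA : A ⊗[R] (Fin n → R) ≃ₗ[A] (Fin n → A) := TensorProduct.piScalarRight R A A (Fin n)

theorem eA_one_tmul (m : Fin n → R) : eA A (1 ⊗ₜ[R] m) = algebraMap R A ∘ m := by
  rw [eA, TensorProduct.piScalarRight_apply, TensorProduct.piScalarRightHom_tmul]
  funext j
  exact (Algebra.algebraMap_eq_smul_one _).symm

theorem eA_rTensor {A C : Type u} [CommRing A] [Algebra R A] [CommRing C] [Algebra R C] (φ : C →ₐ[R] A)
    (t : C ⊗[R] (Fin n → R)) : eA A (LinearMap.rTensor (Fin n → R) φ.toLinearMap t) = φ ∘ eA C t := by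
  induction t with
  | zero => rw [map_zero, map_zero, map_zero]; funext j; exact (map_zero φ).symm
  | tmul c m =>
    rw [LinearMap.rTensor_tmul, eA, eA, TensorProduct.piScalarRight_apply, TensorProduct.piScalarRight_apply,
      TensorProduct.piScalarRightHom_tmul, TensorProduct.piScalarRightHom_tmul]
    funext j
    exact (map_smul φ (m j) c).symm
  | add x y hx hy =>
    rw [map_add, map_add, map_add, hx, hy]
    funext j
    exact (map_add φ _ _).symm

theorem baseChangeForm_eq (Q : QuadraticForm R (Fin n → R)) (t : A ⊗[R] (Fin n → R)) :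
    baseChangeForm A Q t = qf (algebraMap R A ∘ cf Q) (eA A t) := by
  have h := K917.Base.eq_baseChangeForm A Q ((qf (algebraMap R A ∘ cf Q)).comp (eA A).toLinearMap) fun m => by
    change qf (algebraMap R A ∘ cf Q) (eA A (1 ⊗ₜ m)) = _
    rw [eA_one_tmul, ← map_qf, qf_cf]
  rw [← h]
  rfl

/-- transport of a linear automorphism to `A^n` -/
noncomputable def tr (s : (A ⊗[R] (Fin n → R)) ≃ₗ[A] (A ⊗[R] (Fin n → R))) : (Fin n → A) ≃ₗ[A] (Fin n → A) :=
  (eA A).symm ≪≫ₗ s ≪≫ₗ eA A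

variable {A}

theorem tr_apply (s : (A ⊗[R] (Fin n → R)) ≃ₗ[A] (A ⊗[R] (Fin n → R))) (t : A ⊗[R] (Fin n → R)) :
    tr A s (eA A t) = eA A (s t) := by
  rw [tr, LinearEquiv.trans_apply, LinearEquiv.trans_apply, LinearEquiv.symm_apply_apply]

theorem det_tr (s : (A ⊗[R] (Fin n → R)) ≃ₗ[A] (A ⊗[R] (Fin n → R))) :
    LinearMap.det (tr A s : (Fin n → A) →ₗ[A] (Fin n → A)) = LinearMap.det (s : (A ⊗[R] (Fin n → R)) →ₗ[A] (A ⊗[R] (Fin n → R))) := by
  have h1 : (tr A s : (Fin n → A) →ₗ[A] (Fin n → A)) =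
      (eA (R := R) (n := n) A : A ⊗[R] (Fin n → R) →ₗ[A] (Fin n → A)) ∘ₗ (s : (A ⊗[R] (Fin n → R)) →ₗ[A] (A ⊗[R] (Fin n → R))) ∘ₗ ((eA (R := R) (n := n) A).symm : (Fin n → A) →ₗ[A] A ⊗[R] (Fin n → R)) := by
    ext x
    rfl
  rw [h1, LinearMap.det_conj]

theorem tr_mem_O {Q : QuadraticForm R (Fin n → R)} {s : (A ⊗[R] (Fin n → R)) ≃ₗ[A] (A ⊗[R] (Fin n → R))}
    (hs : ∀ x, baseChangeForm A Q (s x) = baseChangeForm A Q x) : tr A s ∈ O (qf (algebraMap R A ∘ cf Q)) := by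
  intro x
  obtain ⟨t, rfl⟩ := (eA (R := R) (n := n) A).surjective x
  rw [tr_apply, ← baseChangeForm_eq A Q, ← baseChangeForm_eq A Q, hs]

theorem cond_of {Q : QuadraticForm R (Fin n → R)} {s : (A ⊗[R] (Fin n → R)) ≃ₗ[A] (A ⊗[R] (Fin n → R))}
    (hs : ∀ x, baseChangeForm A Q (s x) = baseChangeForm A Q x) (b : Bool)
    (hd : b = true → LinearMap.det (s : (A ⊗[R] (Fin n → R)) →ₗ[A] (A ⊗[R] (Fin n → R))) = 1) :
    Cond ((cm (cf Q)).map (algebraMap R A)) b (mt (tr A s)) (mt (tr A s).symm) where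
  mul_inv := mt_mul_mt_symm _
  inv_mul := mt_symm_mul_mt _
  iso := by
    have h := isIso_mt (tr_mem_O hs)
    rw [cf_qf] at h
    rw [cm_map]
    exact h
  det hb := by rw [det_mt, det_tr, hd hb]

/-- the automorphism of `A ⊗ R^n` attached to a matrix -/
noncomputable def auto (g g' : Matrix (Fin n) (Fin n) A) (h : g * g' = 1) (h' : g' * g = 1) :
    (A ⊗[R] (Fin n → R)) ≃ₗ[A] (A ⊗[R] (Fin n → R)) :=
  eA A ≪≫ₗ lin g g' h h' ≪≫ₗ (eA A).symm

theorem eA_auto (g g' : Matrix (Fin n) (Fin n) A) (h : g * g' = 1) (h' : g' * g = 1) (t : A ⊗[R] (Fin n → R)) :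
    eA A (auto g g' h h' t) = g *ᵥ eA A t := by
  rw [auto, LinearEquiv.trans_apply, LinearEquiv.trans_apply, LinearEquiv.apply_symm_apply, lin_apply]

theorem auto_mem {Q : QuadraticForm R (Fin n → R)} {b : Bool} {g g' : Matrix (Fin n) (Fin n) A}
    (hc : Cond ((cm (cf Q)).map (algebraMap R A)) b g g') (x : A ⊗[R] (Fin n → R)) :
    baseChangeForm A Q (auto g g' hc.mul_inv hc.inv_mul x) = baseChangeForm A Q x := by
  rw [baseChangeForm_eq, baseChangeForm_eq, eA_auto]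
  have h := hc.iso
  rw [cm_map, isIso_cm_iff] at h
  exact h _

theorem det_auto (g g' : Matrix (Fin n) (Fin n) A) (h : g * g' = 1) (h' : g' * g = 1) :
    LinearMap.det ((auto g g' h h' : (A ⊗[R] (Fin n → R)) ≃ₗ[A] (A ⊗[R] (Fin n → R))) : (A ⊗[R] (Fin n → R)) →ₗ[A] (A ⊗[R] (Fin n → R))) = g.det := by
  have h1 : ((auto g g' h h' : (A ⊗[R] (Fin n → R)) ≃ₗ[A] (A ⊗[R] (Fin n → R))) : (A ⊗[R] (Fin n → R)) →ₗ[A] (A ⊗[R] (Fin n → R))) =
      ((eA (R := R) (n := n) A).symm : (Fin n → A) →ₗ[A] A ⊗[R] (Fin n → R)) ∘ₗ (lin g g' h h' : (Fin n → A) →ₗ[A] (Fin n → A)) ∘ₗ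
        ((eA (R := R) (n := n) A).symm.symm : A ⊗[R] (Fin n → R) →ₗ[A] (Fin n → A)) := by
    ext x
    rfl
  rw [h1, LinearMap.det_conj, det_lin]

end Equiv

variable (Q : QuadraticForm R (Fin n → R)) (b : Bool)

/-- core of the universal property -/
theorem existsUnique (A : Type u) [CommRing A] [Algebra R A] (s : (A ⊗[R] (Fin n → R)) ≃ₗ[A] (A ⊗[R] (Fin n → R)))
    (hs : ∀ x, baseChangeForm A Q (s x) = baseChangeForm A Q x) (hd : b = true → LinearMap.det (s : (A ⊗[R] (Fin n → R)) →ₗ[A] (A ⊗[R] (Fin n → R))) = 1) :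
    ∃! φ : Alg (cm (cf Q)) b →ₐ[R] A, ∀ m : Fin n → R,
      LinearMap.rTensor (Fin n → R) φ.toLinearMap
        (auto (gen (cm (cf Q)) b) (geni (cm (cf Q)) b) (cond_gen (cm (cf Q)) b).mul_inv
          (cond_gen (cm (cf Q)) b).inv_mul (1 ⊗ₜ m)) = s (1 ⊗ₜ m) := by
  have key : ∀ (φ : Alg (cm (cf Q)) b →ₐ[R] A) (m : Fin n → R),
      eA A (LinearMap.rTensor (Fin n → R) φ.toLinearMap
        (auto (gen (cm (cf Q)) b) (geni (cm (cf Q)) b) (cond_gen (cm (cf Q)) b).mul_inv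
          (cond_gen (cm (cf Q)) b).inv_mul (1 ⊗ₜ m))) = ((gen (cm (cf Q)) b).map φ) *ᵥ (algebraMap R A ∘ m) := by
    intro φ m
    rw [eA_rTensor, eA_auto, eA_one_tmul]
    funext i
    simp only [Matrix.mulVec, dotProduct, Matrix.map_apply, Function.comp_apply, map_sum, map_mul, AlgHom.commutes]
  have key2 : ∀ m : Fin n → R, eA A (s (1 ⊗ₜ m)) = mt (tr A s) *ᵥ (algebraMap R A ∘ m) := by
    intro m
    rw [mt_mulVec, ← eA_one_tmul, tr_apply]
  refine ⟨lift (cond_of hs b hd), fun m => ?_, fun ψ hψ => ?_⟩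
  · apply (eA A).injective
    rw [key, key2, gen_map_lift]
  · refine algHom_ext ?_
    rw [gen_map_lift]
    have h1 : ∀ m : Fin n → R, ((gen (cm (cf Q)) b).map ψ) *ᵥ (algebraMap R A ∘ m) =
        mt (tr A s) *ᵥ (algebraMap R A ∘ m) := fun m => by rw [← key, ← key2, hψ]
    ext i j
    have h2 := congrFun (h1 (Pi.single j 1)) i
    have h3 : (algebraMap R A ∘ (Pi.single j 1 : Fin n → R)) = Pi.single j 1 := by
      funext k
      rw [Function.comp_apply, Pi.single_apply, Pi.single_apply]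
      split_ifs <;> simp
    rw [h3, Matrix.mulVec_single_one, Matrix.mulVec_single_one] at h2
    exact h2

/-- the universal isometry -/
noncomputable def univO : ↥(orth Q (Alg (cm (cf Q)) false)) :=
  ⟨auto (gen (cm (cf Q)) false) (geni (cm (cf Q)) false) (cond_gen (cm (cf Q)) false).mul_inv
    (cond_gen (cm (cf Q)) false).inv_mul, by
    rw [K917.Centralizer.orth_eq]
    exact auto_mem (cond_gen (cm (cf Q)) false)⟩

theorem isUniv_O : IsUniv (fun A _ _ => orth Q A) (Alg (cm (cf Q)) false) (univO Q) := by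
  intro A _ _ s
  have hs : s.1 ∈ orth Q A := s.2
  rw [K917.Centralizer.orth_eq] at hs
  exact existsUnique Q false A s.1 hs (fun h => absurd h (by decide))

/-- the universal isometry of determinant one -/
noncomputable def univSO : ↥(sorth' Q (Alg (cm (cf Q)) true)) :=
  ⟨auto (gen (cm (cf Q)) true) (geni (cm (cf Q)) true) (cond_gen (cm (cf Q)) true).mul_inv
    (cond_gen (cm (cf Q)) true).inv_mul, by
    rw [K917.Centralizer.mem_sorth'_iff]
    refine ⟨auto_mem (cond_gen (cm (cf Q)) true), ?_⟩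
    rw [det_auto]
    exact (cond_gen (cm (cf Q)) true).det rfl⟩

theorem isUniv_SO : IsUniv (fun A _ _ => sorth' Q A) (Alg (cm (cf Q)) true) (univSO Q) := by
  intro A _ _ s
  have hs : s.1 ∈ sorth' Q A := s.2
  rw [K917.Centralizer.mem_sorth'_iff] at hs
  exact existsUnique Q true A s.1 hs.1 (fun _ => hs.2)

end K916.CoordRep
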