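import Groth.Agent.QuadGrp.K916.Dickson
import Mathlib.LinearAlgebra.Alternating.Basic
import Mathlib.LinearAlgebra.Determinant
import Mathlib.GroupTheory.Perm.Sign

/-!
# Products of orthogonal vectors and the determinant
-/

set_option autoImplicit false

universe u v w u'

open CliffordAlgebra

namespace K916.Alt

theorem prod_swap {A : Type*} [Ring A] : ∀ {n : ℕ} (i : Fin n) (a : Fin (n + 1) → A)
    (_ : a i.castSucc * a i.succ = -(a i.succ * a i.castSucc)),
    (List.ofFn (a ∘ Equiv.swap i.castSucc i.succ)).prod = -(List.ofFn a).prod := by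
  intro n
  induction n with
  | zero => intro i; exact i.elim0
  | succ n ih =>
    intro i
    refine Fin.cases (fun a ha => ?_) (fun j a ha => ?_) i
    · rw [List.ofFn_succ, List.ofFn_succ, List.prod_cons, List.prod_cons, List.ofFn_succ, List.ofFn_succ,
        List.prod_cons, List.prod_cons]
      have h0 : (a ∘ Equiv.swap (0 : Fin (n + 1)).castSucc (0 : Fin (n + 1)).succ) 0 = a 1 := by
        simp
      have h1 : (a ∘ Equiv.swap (0 : Fin (n + 1)).castSucc (0 : Fin (n + 1)).succ) (Fin.succ 0) = a 0 := by
        simp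
      have h2 : (fun i : Fin n => (a ∘ Equiv.swap (0 : Fin (n + 1)).castSucc (0 : Fin (n + 1)).succ) i.succ.succ) =
          fun i => a i.succ.succ := by
        funext k
        rw [Function.comp_apply, Equiv.swap_apply_of_ne_of_ne]
        · exact Fin.succ_ne_zero _
        · rw [Ne, Fin.succ_inj]
          exact Fin.succ_ne_zero _
      rw [h0, h1, h2, ← mul_assoc, ← mul_assoc]
      have h3 : a 0 * a 1 = -(a 1 * a 0) := ha
      have h4 : a 0 * a (Fin.succ 0) = -(a 1 * a 0) := ha
      rw [h4, neg_mul, neg_neg]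
    · rw [List.ofFn_succ, List.prod_cons, List.ofFn_succ (f := a), List.prod_cons]
      have h0 : (a ∘ Equiv.swap j.succ.castSucc j.succ.succ) 0 = a 0 := by
        rw [Function.comp_apply, Equiv.swap_apply_of_ne_of_ne]
        · rw [Fin.castSucc_succ]; exact (Fin.succ_ne_zero _).symm
        · exact (Fin.succ_ne_zero _).symm
      have h1 : (fun i : Fin (n + 1) => (a ∘ Equiv.swap j.succ.castSucc j.succ.succ) i.succ) =
          (fun i : Fin (n + 1) => a i.succ) ∘ Equiv.swap j.castSucc j.succ := by
        funext k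
        simp only [Function.comp_apply]
        congr 1
        rw [Fin.castSucc_succ]
        by_cases hk1 : k = j.castSucc
        · subst hk1
          rw [Equiv.swap_apply_left, Equiv.swap_apply_left]
        · by_cases hk2 : k = j.succ
          · subst hk2
            rw [Equiv.swap_apply_right, Equiv.swap_apply_right]
          · rw [Equiv.swap_apply_of_ne_of_ne (by rwa [Ne, Fin.succ_inj]) (by rwa [Ne, Fin.succ_inj]),
              Equiv.swap_apply_of_ne_of_ne hk1 hk2]
      rw [h0, h1, ih j (fun i => a i.succ) ha, mul_neg]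

/-- the product of pairwise anticommuting elements in permuted order -/
theorem prod_perm {A : Type*} [Ring A] {n : ℕ} (σ : Equiv.Perm (Fin n)) : ∀ (a : Fin n → A)
    (_ : ∀ i j, i ≠ j → a i * a j = -(a j * a i)),
    (List.ofFn (a ∘ σ)).prod = (Equiv.Perm.sign σ : ℤ) • (List.ofFn a).prod := by
  cases n with
  | zero => intro a _; rw [Subsingleton.elim σ 1]; simp
  | succ n =>
    have hσ : σ ∈ Submonoid.closure (Set.range fun i : Fin n ↦ Equiv.swap i.castSucc i.succ) := by
      rw [Equiv.Perm.mclosure_swap_castSucc_succ]; trivial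
    induction hσ using Submonoid.closure_induction with
    | mem x hx =>
      obtain ⟨i, rfl⟩ := hx
      intro a ha
      have hne : i.castSucc ≠ i.succ := Fin.castSucc_lt_succ.ne
      rw [prod_swap i a (ha _ _ hne), Equiv.Perm.sign_swap hne]
      simp
    | one => intro a _; simp
    | mul x y hx hy ihx ihy =>
      intro a ha
      have h1 : (a ∘ (x * y : Equiv.Perm (Fin (n + 1)))) = (a ∘ x) ∘ y := rfl
      rw [h1, ihy (a ∘ x) (fun i j hij => ha _ _ fun h => hij (x.injective h)), ihx a ha, smul_smul, Equiv.Perm.sign_mul]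
      congr 1
      push_cast
      ring

variable {R : Type u} [CommRing R] {M : Type v} [AddCommGroup M] [Module R M] (Q : QuadraticForm R M)

/-- the antisymmetrised product of vectors in the Clifford algebra -/
noncomputable def om (n : ℕ) : M [⋀^Fin n]→ₗ[R] CliffordAlgebra Q :=
  MultilinearMap.alternatization ((MultilinearMap.mkPiAlgebraFin R n (CliffordAlgebra Q)).compLinearMap fun _ => ι Q)

theorem om_apply {n : ℕ} (v : Fin n → M) :
    om Q n v = ∑ σ : Equiv.Perm (Fin n), (Equiv.Perm.sign σ : ℤ) • (List.ofFn fun i => ι Q (v (σ i))).prod := by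
  rw [om, MultilinearMap.alternatization_apply]
  refine Finset.sum_congr rfl fun σ _ => ?_
  rw [MultilinearMap.domDomCongr_apply, MultilinearMap.compLinearMap_apply, MultilinearMap.mkPiAlgebraFin_apply]
  rfl

theorem anticomm_of_ortho {v w : M} (h : QuadraticMap.polar Q v w = 0) : ι Q v * ι Q w = -(ι Q w * ι Q v) := by
  rw [eq_neg_iff_add_eq_zero, ι_mul_ι_add_swap, h, map_zero]

/-- on an orthogonal family, the antisymmetrised product is `n!` times the product -/
theorem om_of_ortho {n : ℕ} (v : Fin n → M) (hv : ∀ i j, i ≠ j → QuadraticMap.polar Q (v i) (v j) = 0) :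
    om Q n v = (n.factorial : ℤ) • (List.ofFn fun i => ι Q (v i)).prod := by
  rw [om_apply]
  have h : ∀ σ : Equiv.Perm (Fin n), (Equiv.Perm.sign σ : ℤ) • (List.ofFn fun i => ι Q (v (σ i))).prod =
      (List.ofFn fun i => ι Q (v i)).prod := by
    intro σ
    have h1 := prod_perm σ (fun i => ι Q (v i)) fun i j hij => anticomm_of_ortho Q (hv i j hij)
    have h2 : ((fun i => ι Q (v i)) ∘ σ) = fun i => ι Q (v (σ i)) := rfl
    rw [h2] at h1
    rw [h1, smul_smul]
    have h3 : ((Equiv.Perm.sign σ : ℤ) * (Equiv.Perm.sign σ : ℤ)) = 1 := by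
      rw [← Units.val_mul, Int.units_mul_self, Units.val_one]
    rw [h3, one_smul]
  rw [Finset.sum_congr rfl fun σ _ => h σ, Finset.sum_const, Finset.card_univ, Fintype.card_perm, Fintype.card_fin,
    ← natCast_zsmul]

/-- an alternating map of full degree is multiplied by the determinant -/
theorem alternating_comp {n : ℕ} (b : Module.Basis (Fin n) R M) {N : Type*} [AddCommGroup N] [Module R N]
    (f : M [⋀^Fin n]→ₗ[R] N) (g : M →ₗ[R] M) (v : Fin n → M) : f (g ∘ v) = LinearMap.det g • f v := by
  have h : f = (LinearMap.toSpanSingleton R N (f b)).compAlternatingMap b.det := by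
    refine Module.Basis.ext_alternating b fun w hw => ?_
    have hb : Function.Bijective w := Finite.injective_iff_bijective.1 hw
    have h1 : (fun i => b (w i)) = b ∘ (Equiv.ofBijective w hb) := rfl
    rw [h1, LinearMap.compAlternatingMap_apply, AlternatingMap.map_perm, AlternatingMap.map_perm, Module.Basis.det_self,
      LinearMap.toSpanSingleton_apply, Units.smul_def, Units.smul_def, smul_assoc, one_smul]
  rw [h, LinearMap.compAlternatingMap_apply, LinearMap.compAlternatingMap_apply, Module.Basis.det_comp,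
    LinearMap.toSpanSingleton_apply, LinearMap.toSpanSingleton_apply, smul_smul]

/-- An isometry multiplies the product of an orthogonal family of full length by its determinant, up to `n!`. -/
theorem factorial_smul_cg {n : ℕ} (b : Module.Basis (Fin n) R M) (v : Fin n → M)
    (hv : ∀ i j, i ≠ j → QuadraticMap.polar Q (v i) (v j) = 0) (g : M ≃ₗ[R] M) (hg : g ∈ QuadGrp.O Q) :
    (n.factorial : ℤ) • Dickson.cg g hg (List.ofFn fun i => ι Q (v i)).prod =
      (n.factorial : ℤ) • LinearMap.det (g : M →ₗ[R] M) • (List.ofFn fun i => ι Q (v i)).prod := by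
  have hv' : ∀ i j, i ≠ j → QuadraticMap.polar Q ((g : M →ₗ[R] M) (v i)) ((g : M →ₗ[R] M) (v j)) = 0 := by
    intro i j hij
    have h1 : ∀ x y, QuadraticMap.polar Q ((g : M →ₗ[R] M) x) ((g : M →ₗ[R] M) y) = QuadraticMap.polar Q x y := by
      intro x y
      change Q (g x + g y) - Q (g x) - Q (g y) = _
      rw [← map_add, (QuadGrp.mem_O Q g).1 hg, (QuadGrp.mem_O Q g).1 hg, (QuadGrp.mem_O Q g).1 hg]
      rfl
    rw [h1, hv i j hij]
  have h1 := alternating_comp b (om Q n) (g : M →ₗ[R] M) v
  rw [om_of_ortho Q v hv] at h1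
  have h2 := om_of_ortho Q (fun i => (g : M →ₗ[R] M) (v i)) hv'
  have h3 : (⇑(g : M →ₗ[R] M) ∘ v) = fun i => (g : M →ₗ[R] M) (v i) := rfl
  rw [h3, h2] at h1
  have h4 : Dickson.cg g hg (List.ofFn fun i => ι Q (v i)).prod = (List.ofFn fun i => ι Q ((g : M →ₗ[R] M) (v i))).prod := by
    rw [map_list_prod, List.map_ofFn]
    congr 2
    funext i
    exact Dickson.cg_ι g hg (v i)
  rw [h4, h1, smul_comm]

end K916.Alt
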