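import Mathlib.RingTheory.IsTensorProduct
import Mathlib.RingTheory.Flat.Equalizer
import Mathlib.RingTheory.Flat.FaithfullyFlat.Basic
import Mathlib.RingTheory.Flat.FaithfullyFlat.Algebra
import Mathlib.LinearAlgebra.TensorProduct.Pi
import Mathlib.LinearAlgebra.TensorProduct.Submodule

/-!
# Flat base change of kernels and faithfully flat descent of membership, for `IsBaseChange`
-/

set_option autoImplicit false

universe u u' v w

open TensorProduct

namespace K916.Desc

variable {R : Type u} [CommRing R] (A : Type u') [CommRing A] [Algebra R A]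

section

variable {N : Type*} [AddCommGroup N] [Module R N] {N' : Type*} [AddCommGroup N'] [Module R N'] [Module A N']
  [IsScalarTower R A N'] {L : Type*} [AddCommGroup L] [Module R L] {L' : Type*} [AddCommGroup L'] [Module R L']
  [Module A L'] [IsScalarTower R A L'] {f : N →ₗ[R] N'} (hf : IsBaseChange A f) {l : L →ₗ[R] L'} (hl : IsBaseChange A l)

include hf in
theorem injective_of_faithfullyFlat [Module.FaithfullyFlat R A] : Function.Injective f := by
  intro x y hxy
  have h := congrArg hf.equiv.symm hxy
  rw [hf.equiv_symm_apply, hf.equiv_symm_apply] at h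
  exact Module.FaithfullyFlat.tensorProduct_mk_injective (A := R) (B := A) N h

theorem map_equiv_symm_span (P : Set N) :
    (Submodule.span A (f '' P)).map (hf.equiv.symm : N' →ₗ[A] A ⊗[R] N) =
      Submodule.span A ((fun x => (1 : A) ⊗ₜ[R] x) '' P) := by
  rw [Submodule.map_span, ← Set.image_comp]
  congr 1
  refine Set.image_congr fun x _ => ?_
  exact hf.equiv_symm_apply x

include hf in
/-- faithfully flat descent of membership in a submodule -/
theorem mem_of_mem_span [Module.FaithfullyFlat R A] (P : Submodule R N) {x : N}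
    (hx : f x ∈ Submodule.span A (f '' (P : Set N))) : x ∈ P := by
  have h1 : (1 : A) ⊗ₜ[R] x ∈ P.baseChange A := by
    have h2 := Submodule.mem_map_of_mem (f := (hf.equiv.symm : N' →ₗ[A] A ⊗[R] N)) hx
    rw [map_equiv_symm_span] at h2
    change hf.equiv.symm (f x) ∈ _ at h2
    rw [hf.equiv_symm_apply] at h2
    refine Submodule.span_le.2 ?_ h2
    rintro _ ⟨y, hy, rfl⟩
    exact Submodule.tmul_mem_baseChange_of_mem 1 hy
  have h3 : (Submodule.span R {x}).baseChange A ≤ P.baseChange A := by
    rw [Submodule.baseChange_span]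
    rw [Submodule.span_le]
    rintro _ ⟨y, hy, rfl⟩
    rw [Set.mem_singleton_iff] at hy
    subst hy
    exact h1
  rw [Submodule.baseChange_le_iff] at h3
  exact h3 (Submodule.mem_span_singleton_self x)

include hf hl in
/-- flat base change of kernels -/
theorem ker_eq_span [Module.Flat R A] (g : N →ₗ[R] L) (g' : N' →ₗ[A] L') (comm : ∀ x, g' (f x) = l (g x)) :
    LinearMap.ker g' = Submodule.span A (f '' (LinearMap.ker g : Set N)) := by
  apply le_antisymm
  · intro y hy
    have hcomm : ∀ z : A ⊗[R] N, hl.equiv (AlgebraTensorModule.lTensor A A g z) = g' (hf.equiv z) := by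
      intro z
      induction z with
      | zero => simp
      | tmul a x =>
        rw [AlgebraTensorModule.lTensor_tmul, hl.equiv_tmul, hf.equiv_tmul, map_smul, comm]
      | add a b ha hb => rw [map_add, map_add, ha, hb, map_add, map_add]
    have h1 : hf.equiv.symm y ∈ LinearMap.ker (AlgebraTensorModule.lTensor A A g) := by
      rw [LinearMap.mem_ker]
      apply hl.equiv.injective
      rw [hcomm, LinearEquiv.apply_symm_apply, map_zero]
      exact hy
    rw [Module.Flat.ker_lTensor_eq] at h1
    obtain ⟨z, hz⟩ := h1
    have h2 : y = hf.equiv (AlgebraTensorModule.lTensor A A (LinearMap.ker g).subtype z) := by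
      rw [hz, LinearEquiv.apply_symm_apply]
    rw [h2]
    clear h2 hz
    induction z with
    | zero => simp
    | tmul a x =>
      rw [AlgebraTensorModule.lTensor_tmul, hf.equiv_tmul]
      exact Submodule.smul_mem _ _ (Submodule.subset_span ⟨_, x.2, rfl⟩)
    | add a b ha hb =>
      rw [map_add, map_add]
      exact Submodule.add_mem _ ha hb
  · rw [Submodule.span_le]
    rintro _ ⟨x, hx, rfl⟩
    change g' (f x) = 0
    rw [comm, LinearMap.mem_ker.1 hx, map_zero]

include hl in
theorem isBaseChange_pi {ι : Type w} [Finite ι] :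
    IsBaseChange A (LinearMap.pi (fun i : ι => l ∘ₗ LinearMap.proj i) : (ι → L) →ₗ[R] (ι → L')) := by
  classical
  cases nonempty_fintype ι
  refine IsBaseChange.of_equiv
    ((TensorProduct.piRight R A A (fun _ : ι => L)).trans (LinearEquiv.piCongrRight fun _ => hl.equiv)) ?_
  intro x
  funext i
  change hl.equiv (TensorProduct.piRight R A A (fun _ : ι => L) (1 ⊗ₜ x) i) = l (x i)
  rw [TensorProduct.piRight_apply, TensorProduct.piRightHom_tmul, hl.equiv_tmul, one_smul]

include hf hl in
/-- flat base change of finite intersections of kernels -/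
theorem iInf_ker_eq_span [Module.Flat R A] {ι : Type w} [Finite ι] (g : ι → N →ₗ[R] L) (g' : ι → N' →ₗ[A] L')
    (comm : ∀ i x, g' i (f x) = l (g i x)) :
    (⨅ i, LinearMap.ker (g' i)) = Submodule.span A (f '' ((⨅ i, LinearMap.ker (g i) : Submodule R N) : Set N)) := by
  rw [← LinearMap.ker_pi, ← LinearMap.ker_pi]
  refine ker_eq_span A hf (isBaseChange_pi A hl) (LinearMap.pi g) (LinearMap.pi g') ?_
  intro x
  funext i
  exact comm i x

end

end K916.Desc
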