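import Groth.Agent.QuadGrp.K916.Basic
import Groth.Agent.QuadGrp.K916.Desc

/-!
# Base change of Clifford algebras without the hypothesis that two is invertible

`IsBC A Q Q' f`: `f : M → M'` is a base change of modules along `R → A` with `Q' (f m) = Q m`.  Then
`cmap Q Q' f : CliffordAlgebra Q →ₐ[R] CliffordAlgebra Q'` is a base change.
-/

set_option autoImplicit false

universe u v w u'

open CliffordAlgebra TensorProduct

namespace K916.BC

variable {R : Type u} [CommRing R] {M : Type v} [AddCommGroup M] [Module R M]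
variable (A : Type u') [CommRing A] [Algebra R A] {M' : Type w} [AddCommGroup M'] [Module R M'] [Module A M']
  [IsScalarTower R A M']

/-- `f` is compatible with the quadratic forms. -/
def Compat (Q : QuadraticForm R M) (Q' : QuadraticForm A M') (f : M →ₗ[R] M') : Prop :=
  ∀ m, Q' (f m) = algebraMap R A (Q m)

/-- `(M', Q')` is the base change of `(M, Q)` along `R → A`, by `f`. -/
structure IsBC (Q : QuadraticForm R M) (Q' : QuadraticForm A M') (f : M →ₗ[R] M') : Prop where
  isBaseChange : IsBaseChange A f
  compat : Compat A Q Q' f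

variable {A}
variable {Q : QuadraticForm R M} {Q' : QuadraticForm A M'} {f : M →ₗ[R] M'}

omit [IsScalarTower R A M'] in
theorem Compat.polar (h : Compat A Q Q' f) (x y : M) :
    QuadraticMap.polar Q' (f x) (f y) = algebraMap R A (QuadraticMap.polar Q x y) := by
  rw [QuadraticMap.polar, QuadraticMap.polar, ← map_add, h, h, h, map_sub, map_sub]

/-- The algebra map on Clifford algebras induced by a compatible map. -/
noncomputable def cmap (h : Compat A Q Q' f) : CliffordAlgebra Q →ₐ[R] CliffordAlgebra Q' :=
  CliffordAlgebra.lift Q ⟨(ι Q').restrictScalars R ∘ₗ f, fun m => by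
    rw [LinearMap.comp_apply, LinearMap.restrictScalars_apply, ι_sq_scalar, h m,
      ← IsScalarTower.algebraMap_apply]⟩

@[simp] theorem cmap_ι (h : Compat A Q Q' f) (m : M) : cmap h (ι Q m) = ι Q' (f m) := by
  rw [cmap, lift_ι_apply]
  rfl

theorem cmap_algebraMap (h : Compat A Q Q' f) (r : R) :
    cmap h (algebraMap R _ r) = algebraMap A _ (algebraMap R A r) := by
  rw [AlgHom.commutes, ← IsScalarTower.algebraMap_apply]

/-- the inverse direction, on `C(Q')` -/
noncomputable def toBC (h : IsBC A Q Q' f) : CliffordAlgebra Q' →ₐ[A] A ⊗[R] CliffordAlgebra Q :=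
  CliffordAlgebra.lift Q' ⟨AlgebraTensorModule.lTensor A A (ι Q) ∘ₗ (h.isBaseChange.equiv.symm : M' →ₗ[A] A ⊗[R] M), by
    intro m'
    obtain ⟨x, rfl⟩ := h.isBaseChange.equiv.surjective m'
    rw [LinearMap.comp_apply]
    change AlgebraTensorModule.lTensor A A (ι Q) (h.isBaseChange.equiv.symm (h.isBaseChange.equiv x)) *
      AlgebraTensorModule.lTensor A A (ι Q) (h.isBaseChange.equiv.symm (h.isBaseChange.equiv x)) = _
    rw [LinearEquiv.symm_apply_apply]
    have hpol : ∀ x y : A ⊗[R] M, AlgebraTensorModule.lTensor A A (ι Q) x * AlgebraTensorModule.lTensor A A (ι Q) y +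
        AlgebraTensorModule.lTensor A A (ι Q) y * AlgebraTensorModule.lTensor A A (ι Q) x =
        algebraMap A _ (QuadraticMap.polar Q' (h.isBaseChange.equiv x) (h.isBaseChange.equiv y)) := by
      intro x y
      induction x with
      | zero => simp
      | tmul a v =>
        induction y with
        | zero => simp
        | tmul b w =>
          rw [AlgebraTensorModule.lTensor_tmul, AlgebraTensorModule.lTensor_tmul,
            Algebra.TensorProduct.tmul_mul_tmul, Algebra.TensorProduct.tmul_mul_tmul, mul_comm b a,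
            ← tmul_add, ι_mul_ι_add_swap, h.isBaseChange.equiv_tmul, h.isBaseChange.equiv_tmul,
            QuadraticMap.polar_smul_left, QuadraticMap.polar_smul_right, h.compat.polar,
            Algebra.algebraMap_eq_smul_one, ← smul_tmul, Algebra.TensorProduct.algebraMap_apply,
            Algebra.algebraMap_self_apply, Algebra.smul_def, smul_eq_mul, smul_eq_mul]
          congr 1
          ring
        | add y z hy hz =>
          rw [map_add, mul_add, add_mul, map_add, QuadraticMap.polar_add_right, map_add, ← hy, ← hz]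
          abel
      | add x z hx hz =>
        rw [map_add, mul_add, add_mul, map_add, QuadraticMap.polar_add_left, map_add, ← hx, ← hz]
        abel
    induction x with
    | zero => simp
    | tmul a v =>
      rw [AlgebraTensorModule.lTensor_tmul, Algebra.TensorProduct.tmul_mul_tmul, ι_sq_scalar,
        h.isBaseChange.equiv_tmul, QuadraticMap.map_smul, h.compat v, Algebra.algebraMap_eq_smul_one, ← smul_tmul,
        Algebra.TensorProduct.algebraMap_apply, Algebra.algebraMap_self_apply, Algebra.smul_def, smul_eq_mul]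
      congr 1
      ring
    | add x y hx hy =>
      have h1 : Q' (h.isBaseChange.equiv (x + y)) = Q' (h.isBaseChange.equiv x) + Q' (h.isBaseChange.equiv y) +
          QuadraticMap.polar Q' (h.isBaseChange.equiv x) (h.isBaseChange.equiv y) := by
        rw [QuadraticMap.polar, map_add]
        abel
      rw [h1, map_add (algebraMap A _), map_add (algebraMap A _), ← hx, ← hy, ← hpol, map_add, mul_add, add_mul,
        add_mul]
      abel⟩

theorem toBC_ι (h : IsBC A Q Q' f) (m : M) : toBC h (ι Q' (f m)) = 1 ⊗ₜ ι Q m := by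
  rw [toBC, lift_ι_apply, LinearMap.comp_apply]
  change AlgebraTensorModule.lTensor A A (ι Q) (h.isBaseChange.equiv.symm (f m)) = _
  rw [h.isBaseChange.equiv_symm_apply, AlgebraTensorModule.lTensor_tmul]

/-- the base change isomorphism -/
noncomputable def ofBC (h : Compat A Q Q' f) : A ⊗[R] CliffordAlgebra Q →ₐ[A] CliffordAlgebra Q' :=
  Algebra.TensorProduct.lift (Algebra.ofId _ _) (cmap h) fun _a _x => Algebra.commutes _ _

theorem ofBC_tmul (h : Compat A Q Q' f) (a : A) (x : CliffordAlgebra Q) : ofBC h (a ⊗ₜ x) = a • cmap h x := by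
  rw [Algebra.smul_def]
  rfl

/-- the base change isomorphism of Clifford algebras -/
noncomputable def equivBC (h : IsBC A Q Q' f) : A ⊗[R] CliffordAlgebra Q ≃ₐ[A] CliffordAlgebra Q' :=
  AlgEquiv.ofAlgHom (ofBC h.compat) (toBC h)
    (by
      apply CliffordAlgebra.hom_ext
      refine h.isBaseChange.algHom_ext _ _ fun m => ?_
      change ofBC h.compat (toBC h (ι Q' (f m))) = ι Q' (f m)
      rw [toBC_ι, ofBC_tmul, one_smul, cmap_ι])
    (by
      apply Algebra.TensorProduct.ext
      · ext
      · apply CliffordAlgebra.hom_ext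
        ext m
        change toBC h (ofBC h.compat (1 ⊗ₜ ι Q m)) = 1 ⊗ₜ ι Q m
        rw [ofBC_tmul, one_smul, cmap_ι, toBC_ι])

theorem equivBC_tmul (h : IsBC A Q Q' f) (a : A) (x : CliffordAlgebra Q) : equivBC h (a ⊗ₜ x) = a • cmap h.compat x :=
  ofBC_tmul h.compat a x

/-- `C(Q) → C(Q')` is a base change of modules. -/
theorem isBaseChange_cmap (h : IsBC A Q Q' f) : IsBaseChange A (cmap h.compat).toLinearMap :=
  IsBaseChange.of_equiv (equivBC h).toLinearEquiv fun x => by
    change equivBC h (1 ⊗ₜ x) = cmap h.compat x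
    rw [equivBC_tmul, one_smul]

/-! ### the grading and the involutions -/

theorem cmap_mem_evenOdd (h : Compat A Q Q' f) (i : ZMod 2) {x : CliffordAlgebra Q} (hx : x ∈ evenOdd Q i) :
    cmap h x ∈ evenOdd Q' i := by
  refine evenOdd_induction Q i (motive := fun x _ => cmap h x ∈ evenOdd Q' i) ?_ ?_ ?_ x hx
  · intro x hx
    have h1 : ∀ (n : ℕ) (x : CliffordAlgebra Q), x ∈ LinearMap.range (ι Q) ^ n →
        cmap h x ∈ LinearMap.range (ι Q') ^ n := by
      intro n
      induction n with
      | zero =>
        intro x hx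
        rw [pow_zero, Submodule.mem_one] at hx ⊢
        obtain ⟨r, rfl⟩ := hx
        exact ⟨algebraMap R A r, (cmap_algebraMap h r).symm⟩
      | succ n ih =>
        intro x hx
        rw [pow_succ] at hx ⊢
        refine Submodule.mul_induction_on hx ?_ ?_
        · rintro y hy _ ⟨m, rfl⟩
          rw [map_mul, cmap_ι]
          exact Submodule.mul_mem_mul (ih y hy) ⟨_, rfl⟩
        · intro y z hy hz
          rw [map_add]
          exact Submodule.add_mem _ hy hz
    have h2 := h1 _ x hx
    refine (le_iSup (fun j : { n : ℕ // (n : ZMod 2) = i } => LinearMap.range (ι Q') ^ (j : ℕ)) ⟨i.val, by simp⟩) h2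
  · intro x y hx hy hx' hy'
    rw [map_add]
    exact Submodule.add_mem _ hx' hy'
  · intro m₁ m₂ x hx hx'
    rw [map_mul, map_mul, cmap_ι, cmap_ι]
    have := SetLike.mul_mem_graded (ι_mul_ι_mem_evenOdd_zero Q' (f m₁) (f m₂)) hx'
    rwa [zero_add] at this

theorem evenOdd_eq_span (h : IsBC A Q Q' f) (i : ZMod 2) :
    evenOdd Q' i = Submodule.span A (cmap h.compat '' (evenOdd Q i : Set (CliffordAlgebra Q))) := by
  have hle : ∀ j : ZMod 2, Submodule.span A (cmap h.compat '' (evenOdd Q j : Set (CliffordAlgebra Q))) ≤ evenOdd Q' j := by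
    intro j
    rw [Submodule.span_le]
    rintro _ ⟨x, hx, rfl⟩
    exact cmap_mem_evenOdd h.compat j hx
  refine le_antisymm ?_ (hle i)
  have hsup : ∀ y : CliffordAlgebra Q', ∃ y0 ∈ Submodule.span A (cmap h.compat '' (evenOdd Q i : Set (CliffordAlgebra Q))),
      ∃ y1 ∈ Submodule.span A (cmap h.compat '' (evenOdd Q (i + 1) : Set (CliffordAlgebra Q))), y = y0 + y1 := by
    intro y
    induction y using (isBaseChange_cmap h).inductionOn with
    | zero => exact ⟨0, Submodule.zero_mem _, 0, Submodule.zero_mem _, (add_zero 0).symm⟩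
    | tmul x =>
      have hx : x ∈ evenOdd Q i ⊔ evenOdd Q (i + 1) := by
        have h1 : evenOdd Q i ⊔ evenOdd Q (i + 1) = ⊤ := by
          fin_cases i
          · exact (evenOdd_isCompl Q).sup_eq_top
          · rw [sup_comm]; exact (evenOdd_isCompl Q).sup_eq_top
        rw [h1]; trivial
      obtain ⟨x0, h0, x1, h1, rfl⟩ := Submodule.mem_sup.1 hx
      refine ⟨_, Submodule.subset_span ⟨x0, h0, rfl⟩, _, Submodule.subset_span ⟨x1, h1, rfl⟩, ?_⟩
      exact map_add _ _ _
    | smul a y hy =>
      obtain ⟨y0, h0, y1, h1, rfl⟩ := hy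
      exact ⟨_, Submodule.smul_mem _ a h0, _, Submodule.smul_mem _ a h1, smul_add _ _ _⟩
    | add y z hy hz =>
      obtain ⟨y0, h0, y1, h1, rfl⟩ := hy
      obtain ⟨z0, k0, z1, k1, rfl⟩ := hz
      exact ⟨_, Submodule.add_mem _ h0 k0, _, Submodule.add_mem _ h1 k1, by abel⟩
  intro y hy
  obtain ⟨y0, h0, y1, h1, e⟩ := hsup y
  have hdis : Disjoint (evenOdd Q' i) (evenOdd Q' (i + 1)) := by
    fin_cases i
    · exact (evenOdd_isCompl Q').disjoint
    · exact (evenOdd_isCompl Q').disjoint.symm
  have hy1 : y1 = 0 := by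
    have h2 : y1 ∈ evenOdd Q' i := by
      rw [show y1 = y - y0 by rw [e]; abel]
      exact Submodule.sub_mem _ hy (hle i h0)
    exact Submodule.disjoint_def.1 hdis y1 h2 (hle _ h1)
  rw [e, hy1, add_zero]
  exact h0

theorem cmap_involute (h : Compat A Q Q' f) (x : CliffordAlgebra Q) :
    cmap h (involute x) = involute (cmap h x) := by
  have h1 : (cmap h).comp involute = ((involute (Q := Q')).restrictScalars R).comp (cmap h) := by
    apply CliffordAlgebra.hom_ext
    ext m
    change cmap h (involute (ι Q m)) = involute (cmap h (ι Q m))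
    rw [involute_ι, map_neg, cmap_ι, involute_ι]
  exact DFunLike.congr_fun h1 x

theorem cmap_reverse (h : Compat A Q Q' f) (x : CliffordAlgebra Q) :
    cmap h (reverse x) = reverse (cmap h x) := by
  induction x using CliffordAlgebra.induction with
  | algebraMap r => rw [reverse.commutes, cmap_algebraMap, reverse.commutes]
  | ι m => rw [reverse_ι, cmap_ι, reverse_ι]
  | mul a b ha hb => rw [reverse.map_mul, map_mul, ha, hb, map_mul, reverse.map_mul]
  | add a b ha hb => rw [map_add, map_add, ha, hb, map_add, map_add]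

theorem cmap_star (h : Compat A Q Q' f) (x : CliffordAlgebra Q) :
    cmap h (star x) = star (cmap h x) := by
  rw [star_def, star_def, cmap_reverse, cmap_involute]

/-! ### composition and isometries -/

/-- uniqueness of ring homomorphisms out of the Clifford algebra -/
theorem ringHom_ext {S : Type*} [Ring S] {F G : CliffordAlgebra Q →+* S} (h1 : ∀ m, F (ι Q m) = G (ι Q m))
    (h2 : ∀ r, F (algebraMap R _ r) = G (algebraMap R _ r)) (x : CliffordAlgebra Q) : F x = G x := by
  induction x using CliffordAlgebra.induction with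
  | algebraMap r => exact h2 r
  | ι m => exact h1 m
  | mul a b ha hb => rw [map_mul, map_mul, ha, hb]
  | add a b ha hb => rw [map_add, map_add, ha, hb]

end K916.BC
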