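import Groth.Prelude.Def_QuadGrp
import Mathlib.LinearAlgebra.CliffordAlgebra.Contraction
import Mathlib.LinearAlgebra.ExteriorAlgebra.Basis
import Mathlib.LinearAlgebra.Dimension.StrongRankCondition
import Mathlib.Order.Extension.Linear

/-!
# The module structure of the Clifford algebra of a quadratic form on a free module (any characteristic)
-/

set_option autoImplicit false

universe u v w u'

open CliffordAlgebra

namespace K916.Basic

variable {R : Type u} [CommRing R] {M : Type v} [AddCommGroup M] [Module R M]

/-- The Clifford algebra of a form on a free module is linearly isomorphic to the exterior algebra, by an isomorphism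
which is the identity on scalars and vectors. -/
theorem exists_equivExterior [Module.Free R M] (Q : QuadraticForm R M) :
    ∃ e : CliffordAlgebra Q ≃ₗ[R] ExteriorAlgebra R M,
      (∀ r : R, e (algebraMap R _ r) = algebraMap R _ r) ∧ ∀ m, e (ι Q m) = ExteriorAlgebra.ι R m := by
  have h : (-(QuadGrp.bilinLift Q)).toQuadraticMap = (0 : QuadraticForm R M) - Q := by
    rw [LinearMap.BilinMap.toQuadraticMap_neg, QuadGrp.bilinLift_spec, zero_sub]
  exact ⟨changeFormEquiv h, fun r => changeForm_algebraMap h r, fun m => changeForm_ι h m⟩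

variable (Q : QuadraticForm R M)

theorem ι_injective [Module.Free R M] : Function.Injective (ι Q) := by
  obtain ⟨e, -, he⟩ := exists_equivExterior Q
  intro x y hxy
  have := congrArg e hxy
  rw [he, he] at this
  exact (ExteriorAlgebra.ι_inj R x y).1 this

/-- the structure map has an `R`-linear retraction killing vectors, and there is a linear retraction of `ι`
killing scalars. -/
theorem exists_retractions [Module.Free R M] :
    ∃ (r : CliffordAlgebra Q →ₗ[R] R) (p : CliffordAlgebra Q →ₗ[R] M),
      (∀ a : R, r (algebraMap R _ a) = a) ∧ (∀ m, r (ι Q m) = 0) ∧ (∀ a : R, p (algebraMap R _ a) = 0) ∧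
        ∀ m, p (ι Q m) = m := by
  obtain ⟨e, he1, he2⟩ := exists_equivExterior Q
  refine ⟨ExteriorAlgebra.algebraMapInv.toLinearMap ∘ₗ e.toLinearMap, ExteriorAlgebra.ιInv ∘ₗ e.toLinearMap,
    fun a => ?_, fun m => ?_, fun a => ?_, fun m => ?_⟩
  · change ExteriorAlgebra.algebraMapInv (e _) = a
    rw [he1]
    exact ExteriorAlgebra.algebraMap_leftInverse M a
  · change ExteriorAlgebra.algebraMapInv (e _) = 0
    rw [he2]
    simp [ExteriorAlgebra.algebraMapInv]
  · change ExteriorAlgebra.ιInv (e _) = 0
    rw [he1]
    let : Module Rᵐᵒᵖ M := Module.compHom _ ((RingHom.id R).fromOpposite mul_comm)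
    have : IsCentralScalar R M := ⟨fun r m => rfl⟩
    change (TrivSqZeroExt.sndHom R M) (ExteriorAlgebra.toTrivSqZeroExt _) = 0
    rw [AlgHom.commutes]
    rfl
  · change ExteriorAlgebra.ιInv (e _) = m
    rw [he2]
    exact ExteriorAlgebra.ι_leftInverse m

theorem algebraMap_injective [Module.Free R M] : Function.Injective (algebraMap R (CliffordAlgebra Q)) := by
  obtain ⟨r, p, h1, -⟩ := exists_retractions Q
  intro a b h
  rw [← h1 a, ← h1 b, h]

theorem nontrivial [Module.Free R M] [Nontrivial R] : Nontrivial (CliffordAlgebra Q) :=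
  (algebraMap_injective Q).nontrivial

/-- `ι` identifies the module with a direct summand. -/
theorem exists_isCompl_range_ι [Module.Free R M] :
    ∃ W : Submodule R (CliffordAlgebra Q), IsCompl (LinearMap.range (ι Q)) W := by
  obtain ⟨r, p, -, -, -, h⟩ := exists_retractions Q
  refine ⟨LinearMap.ker p, ?_, ?_⟩
  · rw [Submodule.disjoint_def]
    rintro _ ⟨m, rfl⟩ hm
    rw [LinearMap.mem_ker, h] at hm
    rw [hm, map_zero]
  · rw [codisjoint_iff, eq_top_iff]
    intro x _
    refine Submodule.mem_sup.2 ⟨ι Q (p x), ⟨_, rfl⟩, x - ι Q (p x), ?_, by abel⟩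
    rw [LinearMap.mem_ker, map_sub, h, sub_self]

/-- the basis of the Clifford algebra transported from the exterior algebra. -/
theorem exists_basis {ι' : Type w} [Finite ι'] (b : Module.Basis ι' R M) :
    Nonempty (Module.Basis (Finset ι') R (CliffordAlgebra Q)) := by
  have : Module.Free R M := Module.Free.of_basis b
  obtain ⟨e, -, -⟩ := exists_equivExterior Q
  classical
  let : LinearOrder ι' := linearOrderOfSTO WellOrderingRel
  exact ⟨b.ExteriorAlgebra.map e.symm⟩

theorem module_free [Module.Free R M] : Module.Free R (CliffordAlgebra Q) := by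
  obtain ⟨e, -, -⟩ := exists_equivExterior Q
  classical
  let : LinearOrder (Module.Free.ChooseBasisIndex R M) := linearOrderOfSTO WellOrderingRel
  exact Module.Free.of_basis ((Module.Free.chooseBasis R M).ExteriorAlgebra.map e.symm)

theorem module_finite [Module.Free R M] [Module.Finite R M] : Module.Finite R (CliffordAlgebra Q) := by
  obtain ⟨b⟩ := exists_basis Q (Module.Free.chooseBasis R M)
  exact Module.Finite.of_basis b

theorem finrank_eq [Nontrivial R] [Module.Free R M] [Module.Finite R M] :
    Module.finrank R (CliffordAlgebra Q) = 2 ^ Module.finrank R M := by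
  obtain ⟨b⟩ := exists_basis Q (Module.Free.chooseBasis R M)
  rw [Module.finrank_eq_card_basis b, Fintype.card_finset, Module.finrank_eq_card_basis (Module.Free.chooseBasis R M)]

end K916.Basic
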