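import Groth.Agent.QuadGrp.K916.Split

/-!
# The centre of the even part of a graded matrix Clifford algebra, and the Dickson invariant of an isometry
-/

set_option autoImplicit false

universe u v w u'

open CliffordAlgebra

namespace K916.Center

open Split

attribute [local instance] MatCl.fin MatCl.dec

variable {R : Type u} [CommRing R] {M : Type v} [AddCommGroup M] [Module R M] {Q : QuadraticForm R M} {m : ℕ}

theorem exists_decomp (Q : QuadraticForm R M) (x : CliffordAlgebra Q) :
    ∃ x0 ∈ evenOdd Q 0, ∃ x1 ∈ evenOdd Q 1, x = x0 + x1 := by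
  have hx : x ∈ evenOdd Q 0 ⊔ evenOdd Q 1 := by
    rw [(evenOdd_isCompl Q).sup_eq_top]; trivial
  obtain ⟨x0, h0, x1, h1, rfl⟩ := Submodule.mem_sup.1 hx
  exact ⟨x0, h0, x1, h1, rfl⟩

variable (E : MatCl Q m)

include E in
theorem nonempty_idx : Nonempty E.idx := by
  rw [← Fintype.card_pos_iff, E.card_eq]
  positivity

include E in
/-- the centre of a matrix Clifford algebra consists of the scalars -/
theorem mem_range_of_forall_commute {z : CliffordAlgebra Q} (hz : ∀ x, z * x = x * z) :
    ∃ a : R, z = algebraMap R _ a := by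
  obtain ⟨i0⟩ := nonempty_idx E
  have h : ∀ i j p q, (E.Φ z * (Matrix.single i j 1 : Matrix E.idx E.idx R)) p q =
      ((Matrix.single i j 1 : Matrix E.idx E.idx R) * E.Φ z) p q := by
    intro i j p q
    have h1 := congrArg E.Φ (hz (E.Φ.symm (Matrix.single i j 1)))
    rw [map_mul, map_mul, AlgEquiv.apply_symm_apply] at h1
    rw [h1]
  refine ⟨E.Φ z i0 i0, ?_⟩
  apply E.Φ.injective
  rw [AlgEquiv.commutes]
  ext p q
  rw [Matrix.algebraMap_matrix_apply]
  have h2 := h q i0 p i0
  rw [Matrix.mul_single_apply_same, mul_one] at h2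
  rw [h2]
  split_ifs with hpq
  · subst hpq
    rw [Matrix.single_mul_apply_same, one_mul]
    rfl
  · rw [Matrix.single_mul_apply_of_ne _ _ _ _ _ (Ne.symm (Ne.symm hpq))]

/-- the idempotent of the centre of the even part attached to the matrix structure -/
noncomputable def eps : CliffordAlgebra Q := E.Φ.symm (Matrix.diagonal fun i => if E.s i = 0 then 1 else 0)

theorem Φ_eps : E.Φ (eps E) = Matrix.diagonal fun i => if E.s i = 0 then 1 else 0 := by
  rw [eps, AlgEquiv.apply_symm_apply]

theorem Φ_lin (a b : R) : E.Φ (a • eps E + b • (1 - eps E)) = Matrix.diagonal fun i => if E.s i = 0 then a else b := by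
  rw [map_add, map_smul, map_smul, map_sub, map_one, Φ_eps]
  ext i j
  by_cases h : i = j
  · subst h
    by_cases h2 : E.s i = 0 <;> simp [h2]
  · simp [Matrix.diagonal_apply_ne _ h, Matrix.one_apply_ne h]

theorem eps_mem : eps E ∈ evenOdd Q 0 := by
  rw [E.mem_iff, Φ_eps]
  intro i j h
  rw [Matrix.diagonal_apply_ne]
  rintro rfl
  simp at h

theorem eps_mul_self : eps E * eps E = eps E := by
  apply E.Φ.injective
  rw [map_mul, Φ_eps, Matrix.diagonal_mul_diagonal]
  congr 1
  funext i
  split_ifs <;> simp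

theorem eps_comm {x : CliffordAlgebra Q} (hx : x ∈ evenOdd Q 0) : x * eps E = eps E * x := by
  apply E.Φ.injective
  rw [map_mul, map_mul, Φ_eps]
  ext i j
  rw [Matrix.mul_diagonal, Matrix.diagonal_mul]
  by_cases h : E.s i = E.s j
  · rw [h, mul_comm]
  · have := E.map_mem hx i j (by rwa [add_zero])
    rw [this, mul_zero, zero_mul]

theorem odd_mul_eps {x : CliffordAlgebra Q} (hx : x ∈ evenOdd Q 1) : x * eps E = (1 - eps E) * x := by
  apply E.Φ.injective
  rw [map_mul, map_mul, map_sub, map_one, Φ_eps]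
  ext i j
  rw [Matrix.mul_diagonal, Matrix.sub_mul, Matrix.one_mul, Matrix.sub_apply, Matrix.diagonal_mul]
  by_cases h : E.s i = E.s j + 1
  · rw [h]
    have h3 : ∀ a : ZMod 2, (a = 0 → ¬ (a + 1 = 0)) ∧ (a ≠ 0 → a + 1 = 0) := by decide
    by_cases h2 : E.s j = 0
    · rw [if_pos h2, if_neg ((h3 _).1 h2)]
      ring
    · rw [if_neg h2, if_pos ((h3 _).2 h2)]
      ring
  · have := E.map_mem hx i j h
    rw [this]
    ring

/-- elements of the centre of the even part -/
theorem exists_of_central {z : CliffordAlgebra Q}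
    (hz : ∀ x ∈ evenOdd Q 0, z * x = x * z) : ∃ a b : R, z = a • eps E + b • (1 - eps E) := by
  classical
  have h : ∀ i j p q, E.s i = E.s j →
      (E.Φ z * (Matrix.single i j 1 : Matrix E.idx E.idx R)) p q =
      ((Matrix.single i j 1 : Matrix E.idx E.idx R) * E.Φ z) p q := by
    intro i j p q hij
    have hmem : E.Φ.symm (Matrix.single i j 1) ∈ evenOdd Q 0 := by
      rw [E.mem_iff, AlgEquiv.apply_symm_apply]
      exact single_mem_gmat (by rw [hij, add_zero]) 1
    have h1 := congrArg E.Φ (hz _ hmem)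
    rw [map_mul, map_mul, AlgEquiv.apply_symm_apply] at h1
    rw [h1]
  have hdiag : ∀ p q, p ≠ q → E.Φ z p q = 0 := by
    intro p q hpq
    have h2 := h q q p q rfl
    rw [Matrix.mul_single_apply_same, mul_one, Matrix.single_mul_apply_of_ne _ _ _ _ _ (Ne.symm (Ne.symm hpq))] at h2
    exact h2
  have hsame : ∀ i j, E.s i = E.s j → E.Φ z i i = E.Φ z j j := by
    intro i j hij
    have h2 := h i j i j hij
    rw [Matrix.mul_single_apply_same, mul_one, Matrix.single_mul_apply_same, one_mul] at h2
    exact h2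
  have hval : ∀ k : ZMod 2, ∃ a : R, ∀ i, E.s i = k → E.Φ z i i = a := by
    intro k
    by_cases hk : ∃ i, E.s i = k
    · obtain ⟨i, hi⟩ := hk
      exact ⟨E.Φ z i i, fun j hj => hsame _ _ (by rw [hi, hj])⟩
    · exact ⟨0, fun i hi => absurd ⟨i, hi⟩ hk⟩
  obtain ⟨a, ha⟩ := hval 0
  obtain ⟨b, hb⟩ := hval 1
  refine ⟨a, b, E.Φ.injective ?_⟩
  rw [Φ_lin]
  ext i j
  by_cases hij : i = j
  · subst hij
    rw [Matrix.diagonal_apply_eq]
    split_ifs with h0
    · exact ha i h0
    · refine hb i ?_
      have : ∀ a : ZMod 2, a ≠ 0 → a = 1 := by decide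
      exact this _ h0
  · rw [Matrix.diagonal_apply_ne _ hij, hdiag i j hij]

theorem lin_injective (hm : m ≠ 0) {a b a' b' : R}
    (h : a • eps E + b • (1 - eps E) = a' • eps E + b' • (1 - eps E)) : a = a' ∧ b = b' := by
  have h1 := congrArg E.Φ h
  rw [Φ_lin, Φ_lin] at h1
  obtain ⟨i0, hi0⟩ := E.exists_idx hm 0
  obtain ⟨i1, hi1⟩ := E.exists_idx hm 1
  constructor
  · have := congrFun (congrFun h1 i0) i0
    simpa [hi0] using this
  · have := congrFun (congrFun h1 i1) i1
    simpa [hi1] using this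

theorem lin_mul (a b a' b' : R) : (a • eps E + b • (1 - eps E)) * (a' • eps E + b' • (1 - eps E)) =
    (a * a') • eps E + (b * b') • (1 - eps E) := by
  have h := eps_mul_self E
  have h1 : eps E * (1 - eps E) = 0 := by rw [mul_sub, mul_one, h, sub_self]
  have h2 : (1 - eps E) * eps E = 0 := by rw [sub_mul, one_mul, h, sub_self]
  have h3 : (1 - eps E) * (1 - eps E) = 1 - eps E := by rw [mul_sub, mul_one, h2, sub_zero]
  rw [add_mul, mul_add, mul_add, smul_mul_smul_comm, smul_mul_smul_comm, smul_mul_smul_comm, smul_mul_smul_comm,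
    h, h1, h2, h3, smul_zero, smul_zero, add_zero, zero_add]

theorem one_eq_lin : (1 : CliffordAlgebra Q) = (1 : R) • eps E + (1 : R) • (1 - eps E) := by
  rw [one_smul, one_smul]; abel

theorem lin_mem (a b : R) : a • eps E + b • (1 - eps E) ∈ evenOdd Q 0 :=
  Submodule.add_mem _ (Submodule.smul_mem _ _ (eps_mem E))
    (Submodule.smul_mem _ _ (Submodule.sub_mem _ (SetLike.one_mem_graded _) (eps_mem E)))

theorem lin_comm (a b : R) {x : CliffordAlgebra Q} (hx : x ∈ evenOdd Q 0) :
    (a • eps E + b • (1 - eps E)) * x = x * (a • eps E + b • (1 - eps E)) := by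
  rw [add_mul, mul_add, smul_mul_assoc, smul_mul_assoc, mul_smul_comm, mul_smul_comm, eps_comm E hx, sub_mul, mul_sub,
    eps_comm E hx, one_mul, mul_one]

/-- an element commuting with the idempotent is even -/
theorem mem_even_of_comm {x : CliffordAlgebra Q} (hx : x * eps E = eps E * x) : x ∈ evenOdd Q 0 := by
  obtain ⟨x0, h0, x1, h1, rfl⟩ := exists_decomp Q x
  rw [add_mul, mul_add, eps_comm E h0, odd_mul_eps E h1] at hx
  have h2 := add_left_cancel hx
  have h3 : eps E * x1 = 0 := by
    have := congrArg (fun y => eps E * y) h2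
    simp only [← mul_assoc] at this
    rw [mul_sub, mul_one, eps_mul_self, sub_self, zero_mul] at this
    exact this.symm
  have h4 : x1 = 0 := by
    rw [sub_mul, one_mul, h3, sub_zero] at h2
    exact h2
  rw [h4, add_zero]
  exact h0

end K916.Center
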