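import Groth.Agent.QuadGrp.K916.WFam
import Groth.Agent.QuadGrp.K918.LocalEven
import Mathlib.Algebra.Polynomial.Roots

/-!
# Isometries of the split form over an infinite field are products of reflections
-/

set_option autoImplicit false

universe u v w

open QuadraticMap K918.Cliff

namespace K916.Refl

section Ring

variable {R : Type u} [CommRing R] {M : Type v} [AddCommGroup M] [Module R M] (Q : QuadraticForm R M)

/-- the subgroup generated by reflections -/
noncomputable def RG : Subgroup (M ≃ₗ[R] M) :=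
  Subgroup.closure {σ | ∃ (v : M) (c : R) (hc : c * Q v = 1), σ = reflection v c hc}

variable {Q}

theorem reflection_mem (v : M) (c : R) (hc : c * Q v = 1) : reflection v c hc ∈ RG Q :=
  Subgroup.subset_closure ⟨v, c, hc, rfl⟩

theorem RG_le : RG Q ≤ QuadGrp.O Q := by
  rw [RG, Subgroup.closure_le]
  rintro _ ⟨v, c, hc, rfl⟩
  exact fun x => reflection_isometry v c hc x

theorem reflection_of_polar {v : M} {c : R} (hc : c * Q v = 1) {e : M} (h : polar Q v e = 0) : reflection v c hc e = e := by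
  rw [reflection_apply, h, zero_smul, sub_zero]

theorem polar_sub_left (x y z : M) : polar Q (x - y) z = polar Q x z - polar Q y z := by
  rw [sub_eq_add_neg, polar_add_left, polar_neg_left, sub_eq_add_neg]

theorem polar_self_mul (x : M) : polar Q x x = 2 * Q x := by
  rw [polar_self, two_smul, two_mul]

theorem map_sub (x y : M) : Q (x - y) = Q x + Q y - polar Q x y := by
  have h := QuadraticMap.map_add Q x (-y)
  rw [QuadraticMap.map_neg, polar_neg_right] at h
  rw [sub_eq_add_neg, h]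
  ring

theorem reflection_sub {v v' : M} (h : Q v' = Q v) {c : R} (hc : c * Q (v' - v) = 1) : reflection (v' - v) c hc v' = v := by
  have h1 : polar Q (v' - v) v' = Q (v' - v) := by
    rw [polar_sub_left, polar_self_mul, map_sub, h, polar_comm Q v v']
    ring
  rw [reflection_apply, h1, smul_smul, mul_comm, hc, one_smul, sub_sub_cancel]

end Ring

section Field

variable {K : Type u} [Field K] {M : Type v} [AddCommGroup M] [Module K M] {Q : QuadraticForm K M}

theorem move1 {v v' : M} (h : Q v' = Q v) (hne : Q (v' - v) ≠ 0) :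
    ∃ σ ∈ RG Q, σ v' = v ∧ ∀ e, polar Q (v' - v) e = 0 → σ e = e :=
  ⟨reflection (v' - v) _ (inv_mul_cancel₀ hne), reflection_mem _ _ _, reflection_sub h _, fun _ he => reflection_of_polar _ he⟩

theorem move2 {v v' u : M} (h : Q v' = Q v) (hu : Q u ≠ 0) (h1 : polar Q u v ≠ 0) (h2 : polar Q u v' ≠ 0) :
    ∃ σ ∈ RG Q, σ v' = v ∧ ∀ e, polar Q u e = 0 → polar Q (v' - v) e = 0 → σ e = e := by
  by_cases hne : Q (v' - v) = 0
  · let τ := reflection u (Q u)⁻¹ (inv_mul_cancel₀ hu)
    have hτ : ∀ x, τ x = x - (polar Q u x * (Q u)⁻¹) • u := fun x => by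
      rw [← smul_smul]
      rfl
    have e1 : Q (τ v' - v) = polar Q u v' * (Q u)⁻¹ * polar Q u v := by
      rw [hτ, sub_right_comm, map_sub (v' - v), hne, QuadraticMap.map_smul, polar_smul_right, smul_eq_mul, smul_eq_mul,
        polar_sub_left, polar_comm Q v' u, polar_comm Q v u]
      field_simp
      ring
    have e2 : Q (τ v' - v) ≠ 0 := by
      rw [e1]
      exact mul_ne_zero (mul_ne_zero h2 (inv_ne_zero hu)) h1
    obtain ⟨σ, hσ, hσ1, hσ2⟩ := move1 (v := v) (v' := τ v') ((reflection_isometry u _ _ v').trans h) e2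
    refine ⟨σ * τ, (RG Q).mul_mem hσ (reflection_mem _ _ _), hσ1, fun e he1 he2 => ?_⟩
    have e3 : τ e = e := reflection_of_polar _ he1
    change σ (τ e) = e
    rw [e3]
    refine hσ2 e ?_
    rw [hτ, sub_right_comm, polar_sub_left, he2, polar_smul_left, he1, smul_zero, sub_zero]
  · obtain ⟨σ, hσ, hσ1, hσ2⟩ := move1 h hne
    exact ⟨σ, hσ, hσ1, fun e _ he => hσ2 e he⟩

end Field

section Infinite

variable {K : Type u} [Field K] [Infinite K] {M : Type v} [AddCommGroup M] [Module K M] {Q : QuadraticForm K M}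

theorem exists_eval_ne_zero {p : Polynomial K} (hp : p ≠ 0) : ∃ t, p.eval t ≠ 0 := by
  by_contra h
  push Not at h
  exact hp (Polynomial.funext fun t => by rw [h t, Polynomial.eval_zero])

open Polynomial in
theorem exists_add_smul {z x : M} {l1 l2 : M →ₗ[K] K} (hz : Q z ≠ 0) (h1 : l1 z ≠ 0) (h2 : l2 x ≠ 0) :
    ∃ t : K, Q (z + t • x) ≠ 0 ∧ l1 (z + t • x) ≠ 0 ∧ l2 (z + t • x) ≠ 0 := by
  let p1 : K[X] := C (Q z) + C (polar Q z x) * X + C (Q x) * X ^ 2
  let p2 : K[X] := C (l1 z) + C (l1 x) * X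
  let p3 : K[X] := C (l2 z) + C (l2 x) * X
  have hp1 : p1 ≠ 0 := fun h => hz (by simpa [p1] using congrArg (Polynomial.eval 0) h)
  have hp2 : p2 ≠ 0 := fun h => h1 (by simpa [p2] using congrArg (Polynomial.eval 0) h)
  have hp3 : p3 ≠ 0 := fun h => h2 (by
    have := congrArg (fun p : K[X] => p.coeff 1) h
    simpa [p3, Polynomial.coeff_C] using this)
  obtain ⟨t, ht⟩ := exists_eval_ne_zero (mul_ne_zero (mul_ne_zero hp1 hp2) hp3)
  rw [eval_mul, eval_mul] at ht
  have e1 : p1.eval t = Q (z + t • x) := by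
    rw [QuadraticMap.map_add Q, QuadraticMap.map_smul, polar_smul_right]
    simp only [p1, eval_add, eval_mul, eval_C, eval_X, eval_pow, smul_eq_mul]
    ring
  have e2 : p2.eval t = l1 (z + t • x) := by
    rw [_root_.map_add, _root_.map_smul]
    simp only [p2, eval_add, eval_mul, eval_C, eval_X, smul_eq_mul]
    ring
  have e3 : p3.eval t = l2 (z + t • x) := by
    rw [_root_.map_add, _root_.map_smul]
    simp only [p3, eval_add, eval_mul, eval_C, eval_X, smul_eq_mul]
    ring
  rw [e1, e2, e3] at ht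
  exact ⟨t, fun h => ht (by rw [h, zero_mul, zero_mul]), fun h => ht (by rw [h, mul_zero, zero_mul]), fun h => ht (by rw [h, mul_zero])⟩

theorem exists_avoid {l1 l2 : M →ₗ[K] K} (hQ : ∃ z, Q z ≠ 0) (h1 : ∃ x, l1 x ≠ 0) (h2 : ∃ x, l2 x ≠ 0) :
    ∃ u, Q u ≠ 0 ∧ l1 u ≠ 0 ∧ l2 u ≠ 0 := by
  obtain ⟨z, hz⟩ := hQ
  obtain ⟨x, hx⟩ := h1
  obtain ⟨y, hy⟩ := h2
  obtain ⟨t, ht1, ht2, -⟩ : ∃ t : K, Q (z + t • x) ≠ 0 ∧ l1 (z + t • x) ≠ 0 ∧ l1 (z + t • x) ≠ 0 := by
    by_cases hz1 : l1 z = 0
    · have hp : (Polynomial.C (Q z) + Polynomial.C (polar Q z x) * Polynomial.X + Polynomial.C (Q x) * Polynomial.X ^ 2) *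
          (Polynomial.X : Polynomial K) ≠ 0 := by
        refine mul_ne_zero (fun h => hz ?_) Polynomial.X_ne_zero
        simpa using congrArg (Polynomial.eval 0) h
      obtain ⟨t, ht⟩ := exists_eval_ne_zero hp
      rw [Polynomial.eval_mul, Polynomial.eval_X] at ht
      have ht0 : t ≠ 0 := right_ne_zero_of_mul ht
      have hl : l1 (z + t • x) ≠ 0 := by
        rw [_root_.map_add, _root_.map_smul, hz1, zero_add]
        exact mul_ne_zero ht0 hx
      refine ⟨t, fun h => left_ne_zero_of_mul ht ?_, hl, hl⟩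
      rw [QuadraticMap.map_add Q, QuadraticMap.map_smul, polar_smul_right] at h
      simp only [Polynomial.eval_add, Polynomial.eval_mul, Polynomial.eval_C, Polynomial.eval_X, Polynomial.eval_pow]
      rw [← h]
      simp only [smul_eq_mul]
      ring
    · exact exists_add_smul hz hz1 hx
  obtain ⟨s, hs1, hs2, hs3⟩ := exists_add_smul (l2 := l2) ht1 ht2 hy
  exact ⟨_, hs1, hs2, hs3⟩

end Infinite

section Hyp

open Mat2

variable {R : Type u} [CommRing R] {M : Type v} [AddCommGroup M] [Module R M] {Q : QuadraticForm R M}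

/-- extension of an automorphism by the identity on a hyperbolic plane -/
noncomputable def ext (M : Type v) [AddCommGroup M] [Module R M] : (M ≃ₗ[R] M) →* ((M × R × R) ≃ₗ[R] (M × R × R)) where
  toFun h := h.prodCongr (LinearEquiv.refl R (R × R))
  map_one' := rfl
  map_mul' _ _ := rfl

theorem ext_apply (h : M ≃ₗ[R] M) (w : M) (p : R × R) : ext M h (w, p) = (h w, p) := rfl

theorem polar_addH (w w' : M) (a b a' b' : R) : polar (addH Q) (w, a, b) (w', a', b') = polar Q w w' + (a * b' + b * a') := by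
  rw [WFam.polar_H]
  ring

theorem ext_mem {h : M ≃ₗ[R] M} (hh : h ∈ RG Q) : ext M h ∈ RG (addH Q) := by
  rw [RG] at hh
  induction hh using Subgroup.closure_induction with
  | mem x hx =>
    obtain ⟨v, c, hc, rfl⟩ := hx
    have hc' : c * addH Q (v, 0, 0) = 1 := by rw [addH_apply, mul_zero, add_zero, hc]
    have : ext M (reflection v c hc) = reflection (v, (0 : R), (0 : R)) c hc' := by
      ext1 ⟨w, a, b⟩
      rw [ext_apply, reflection_apply, reflection_apply, polar_addH]
      simp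
    rw [this]
    exact reflection_mem _ _ _
  | one => rw [map_one]; exact Subgroup.one_mem _
  | mul x y _ _ hx hy => rw [map_mul]; exact Subgroup.mul_mem _ hx hy
  | inv x _ hx => rw [map_inv]; exact Subgroup.inv_mem _ hx

end Hyp

section Step

open Mat2

variable {K : Type u} [Field K] [Infinite K] {M : Type v} [AddCommGroup M] [Module K M] {Q : QuadraticForm K M}

omit [Infinite K] in
/-- an isometry fixing a hyperbolic pair comes from the complement -/
theorem exists_ext_eq {g : (M × K × K) ≃ₗ[K] (M × K × K)} (hg : g ∈ QuadGrp.O (addH Q)) (he : g (0, 1, 0) = (0, 1, 0))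
    (hf : g (0, 0, 1) = (0, 0, 1)) : ∃ h ∈ QuadGrp.O Q, ext M h = g := by
  have hpol : ∀ x y, polar (addH Q) (g x) (g y) = polar (addH Q) x y := by
    intro x y
    rw [polar, polar, ← _root_.map_add, hg, hg, hg]
  have key : ∀ (k : (M × K × K) ≃ₗ[K] (M × K × K)) (_ : ∀ x y, polar (addH Q) (k x) (k y) = polar (addH Q) x y)
      (_ : k (0, 1, 0) = (0, 1, 0)) (_ : k (0, 0, 1) = (0, 0, 1)) (w : M), k (w, 0, 0) = ((k (w, 0, 0)).1, 0, 0) := by
    intro k hk ke kf w
    obtain ⟨w', a, b⟩ : ∃ p : M × K × K, p = k (w, 0, 0) := ⟨_, rfl⟩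
    have h1 := hk (w, 0, 0) (0, 1, 0)
    have h2 := hk (w, 0, 0) (0, 0, 1)
    rcases hkw : k (w, 0, 0) with ⟨w', a, b⟩
    rw [hkw, ke, polar_addH, polar_addH, polar_zero_right, polar_zero_right] at h1
    rw [hkw, kf, polar_addH, polar_addH, polar_zero_right, polar_zero_right] at h2
    have hb : b = 0 := by linear_combination h1
    have ha : a = 0 := by linear_combination h2
    rw [hb, ha]
  have hinv : g⁻¹ ∈ QuadGrp.O (addH Q) := (QuadGrp.O (addH Q)).inv_mem hg
  have hpol' : ∀ x y, polar (addH Q) (g⁻¹ x) (g⁻¹ y) = polar (addH Q) x y := by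
    intro x y
    rw [polar, polar, ← _root_.map_add, hinv, hinv, hinv]
  have he' : g⁻¹ (0, 1, 0) = (0, 1, 0) := (LinearEquiv.symm_apply_eq g).2 he.symm
  have hf' : g⁻¹ (0, 0, 1) = (0, 0, 1) := (LinearEquiv.symm_apply_eq g).2 hf.symm
  have k1 := key g hpol he hf
  have k2 := key g⁻¹ hpol' he' hf'
  let h : M ≃ₗ[K] M := LinearEquiv.ofLinearMap
    (LinearMap.fst K M (K × K) ∘ₗ (g : (M × K × K) →ₗ[K] (M × K × K)) ∘ₗ LinearMap.inl K M (K × K))
    (LinearMap.fst K M (K × K) ∘ₗ (g⁻¹ : (M × K × K) ≃ₗ[K] (M × K × K)).toLinearMap ∘ₗ LinearMap.inl K M (K × K))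
    (by
      ext w
      change (g ((g⁻¹ (w, 0, 0)).1, 0, 0)).1 = w
      rw [← k2]
      change (g (g.symm _)).1 = w
      rw [g.apply_symm_apply])
    (by
      ext w
      change (g⁻¹ ((g (w, 0, 0)).1, 0, 0)).1 = w
      rw [← k1]
      change (g.symm (g _)).1 = w
      rw [g.symm_apply_apply])
  have hh : ∀ w, h w = (g (w, 0, 0)).1 := fun w => rfl
  refine ⟨h, fun w => ?_, ?_⟩
  · have h1 := hg (w, 0, 0)
    rw [k1, addH_apply, addH_apply, mul_zero, add_zero, add_zero] at h1
    exact h1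
  · ext1 ⟨w, a, b⟩
    have h1 : ((w, a, b) : M × K × K) = (w, 0, 0) + a • (0, 1, 0) + b • (0, 0, 1) := by
      simp
    rw [ext_apply, h1, _root_.map_add, _root_.map_add, _root_.map_smul, _root_.map_smul, he, hf, k1, hh]
    simp

/-- the inductive step of the generation by reflections -/
theorem step (h : QuadGrp.O Q ≤ RG Q) (hM : (∃ w, Q w ≠ 0) ∨ Subsingleton M) : QuadGrp.O (addH Q) ≤ RG (addH Q) := by
  intro g hg
  have hpol : ∀ (k : (M × K × K) ≃ₗ[K] (M × K × K)) (_ : k ∈ QuadGrp.O (addH Q)) (x y : M × K × K),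
      polar (addH Q) (k x) (k y) = polar (addH Q) x y := by
    intro k hk x y
    rw [polar, polar, ← _root_.map_add, hk, hk, hk]
  -- move `g e` to `e`
  obtain ⟨σ, hσ, hσe⟩ : ∃ σ ∈ RG (addH Q), σ (g (0, 1, 0)) = (0, 1, 0) := by
    have hQe : addH Q (g (0, 1, 0)) = addH Q (0, 1, 0) := hg _
    obtain ⟨u, hu, h1, h2⟩ := exists_avoid (Q := addH Q) (l1 := (polarBilin (addH Q)).flip (0, 1, 0))
      (l2 := (polarBilin (addH Q)).flip (g (0, 1, 0)))
      ⟨(0, 1, 1), by rw [addH_apply, QuadraticMap.map_zero]; simp⟩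
      ⟨(0, 0, 1), by
        change polar (addH Q) (0, 0, 1) (0, 1, 0) ≠ 0
        rw [polar_addH, polar_zero_left]; simp⟩
      ⟨g (0, 0, 1), by
        change polar (addH Q) (g (0, 0, 1)) (g (0, 1, 0)) ≠ 0
        rw [hpol g hg, polar_addH, polar_zero_left]; simp⟩
    obtain ⟨σ, hσ, hσ1, -⟩ := move2 hQe hu h1 h2
    exact ⟨σ, hσ, hσ1⟩
  set g1 := σ * g with hg1
  have hg1O : g1 ∈ QuadGrp.O (addH Q) := (QuadGrp.O _).mul_mem (RG_le hσ) hg
  have hg1e : g1 (0, 1, 0) = (0, 1, 0) := hσe
  -- move `g1 f` to `f`, fixing `e`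
  obtain ⟨τ, hτ, hτe, hτf⟩ : ∃ τ ∈ RG (addH Q), τ (0, 1, 0) = (0, 1, 0) ∧ τ (g1 (0, 0, 1)) = (0, 0, 1) := by
    have hQf : addH Q (g1 (0, 0, 1)) = addH Q (0, 0, 1) := hg1O _
    have hpe : polar (addH Q) (g1 (0, 0, 1)) (0, 1, 0) = 1 := by
      conv_lhs => rw [← hg1e]
      rw [hpol g1 hg1O, polar_addH, polar_zero_left]; simp
    have hsub : polar (addH Q) (g1 (0, 0, 1) - (0, 0, 1)) (0, 1, 0) = 0 := by
      rw [polar_sub_left, hpe, polar_addH, polar_zero_left]; simp
    rcases hgf : g1 (0, 0, 1) with ⟨w', a', b'⟩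
    rw [hgf] at hQf hpe hsub
    have hb' : b' = 1 := by
      rw [polar_addH, polar_zero_right] at hpe
      linear_combination hpe
    rcases hM with ⟨w, hw⟩ | hM
    · obtain ⟨a, ha⟩ := Set.Infinite.exists_notMem_finite Set.infinite_univ (Set.toFinite ({0, -polar Q w w'} : Set K))
      have ha := ha.2
      rw [Set.mem_insert_iff, Set.mem_singleton_iff, not_or] at ha
      obtain ⟨τ, hτ, hτ1, hτ2⟩ := move2 (Q := addH Q) (v := (0, 0, 1)) (v' := (w', a', b')) (u := (w, a, 0)) hQf
        (by rw [addH_apply, mul_zero, add_zero]; exact hw)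
        (by rw [polar_addH, polar_zero_right]; simpa using ha.1)
        (by
          rw [polar_addH, hb']
          intro h
          exact ha.2 (by linear_combination h))
      exact ⟨τ, hτ, hτ2 _ (by rw [polar_addH, polar_zero_right]; simp) hsub, hτ1⟩
    · have hw' : w' = 0 := Subsingleton.elim _ _
      have ha' : a' = 0 := by
        rw [addH_apply, addH_apply, hw', hb', QuadraticMap.map_zero] at hQf
        linear_combination hQf
      exact ⟨1, Subgroup.one_mem _, rfl, by rw [hw', ha', hb']; rfl⟩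
  obtain ⟨h', hh', hext⟩ := exists_ext_eq (g := τ * g1) ((QuadGrp.O _).mul_mem (RG_le hτ) hg1O)
    (by change τ (g1 _) = _; rw [hg1e, hτe]) hτf
  have h1 : τ * g1 ∈ RG (addH Q) := by
    rw [← hext]
    exact ext_mem (h hh')
  have h2 : g = σ⁻¹ * (τ⁻¹ * (τ * g1)) := by rw [hg1]; group
  rw [h2]
  exact Subgroup.mul_mem _ (Subgroup.inv_mem _ hσ) (Subgroup.mul_mem _ (Subgroup.inv_mem _ hτ) h1)

end Step

section Transport

variable {R : Type u} [CommRing R] {M : Type v} [AddCommGroup M] [Module R M] {M' : Type w} [AddCommGroup M'] [Module R M']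
  {Q : QuadraticForm R M} {Q' : QuadraticForm R M'}

/-- generation by reflections is invariant under isometries -/
theorem congr (e : Q.IsometryEquiv Q') (h : QuadGrp.O Q ≤ RG Q) : QuadGrp.O Q' ≤ RG Q' := by
  have hconj : ∀ k ∈ RG Q, (e.toLinearEquiv.symm ≪≫ₗ k ≪≫ₗ e.toLinearEquiv : M' ≃ₗ[R] M') ∈ RG Q' := by
    intro k hk
    rw [RG] at hk
    induction hk using Subgroup.closure_induction with
    | mem x hx =>
      obtain ⟨v, c, hc, rfl⟩ := hx
      have hc' : c * Q' (e v) = 1 := by rw [e.map_app, hc]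
      have : (e.toLinearEquiv.symm ≪≫ₗ reflection v c hc ≪≫ₗ e.toLinearEquiv : M' ≃ₗ[R] M') = reflection (e v) c hc' := by
        ext1 x
        obtain ⟨y, rfl⟩ := e.toLinearEquiv.surjective x
        change e.toLinearEquiv (reflection v c hc (e.toLinearEquiv.symm (e.toLinearEquiv y))) = _
        rw [e.toLinearEquiv.symm_apply_apply, reflection_apply, reflection_apply, _root_.map_sub, _root_.map_smul, _root_.map_smul]
        have hp : polar Q' (e v) (e.toLinearEquiv y) = polar Q v y := by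
          change Q' (e v + e y) - Q' (e v) - Q' (e y) = _
          rw [← _root_.map_add e, e.map_app, e.map_app, e.map_app]
          rfl
        rw [hp]
        rfl
      rw [this]
      exact reflection_mem _ _ _
    | one =>
      have : (e.toLinearEquiv.symm ≪≫ₗ (1 : M ≃ₗ[R] M) ≪≫ₗ e.toLinearEquiv : M' ≃ₗ[R] M') = 1 := by
        ext1 x
        exact e.toLinearEquiv.apply_symm_apply x
      rw [this]
      exact Subgroup.one_mem _
    | mul x y _ _ hx hy =>
      have : (e.toLinearEquiv.symm ≪≫ₗ (x * y) ≪≫ₗ e.toLinearEquiv : M' ≃ₗ[R] M') =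
          (e.toLinearEquiv.symm ≪≫ₗ x ≪≫ₗ e.toLinearEquiv : M' ≃ₗ[R] M') *
            (e.toLinearEquiv.symm ≪≫ₗ y ≪≫ₗ e.toLinearEquiv : M' ≃ₗ[R] M') := by
        ext1 z
        change e.toLinearEquiv (x (y (e.toLinearEquiv.symm z))) =
          e.toLinearEquiv (x (e.toLinearEquiv.symm (e.toLinearEquiv (y (e.toLinearEquiv.symm z)))))
        rw [e.toLinearEquiv.symm_apply_apply]
      rw [this]
      exact Subgroup.mul_mem _ hx hy
    | inv x _ hx =>
      have : (e.toLinearEquiv.symm ≪≫ₗ x⁻¹ ≪≫ₗ e.toLinearEquiv : M' ≃ₗ[R] M') =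
          (e.toLinearEquiv.symm ≪≫ₗ x ≪≫ₗ e.toLinearEquiv : M' ≃ₗ[R] M')⁻¹ := rfl
      rw [this]
      exact Subgroup.inv_mem _ hx
  intro g hg
  let k : M ≃ₗ[R] M := e.toLinearEquiv ≪≫ₗ g ≪≫ₗ e.toLinearEquiv.symm
  have hk : k ∈ QuadGrp.O Q := by
    intro x
    change Q (e.symm (g (e x))) = Q x
    rw [e.symm.map_app, hg, e.map_app]
  have h1 := hconj k (h hk)
  have h2 : (e.toLinearEquiv.symm ≪≫ₗ k ≪≫ₗ e.toLinearEquiv : M' ≃ₗ[R] M') = g := by
    ext1 x
    change e.toLinearEquiv (e.toLinearEquiv.symm (g (e.toLinearEquiv (e.toLinearEquiv.symm x)))) = g x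
    rw [e.toLinearEquiv.apply_symm_apply, e.toLinearEquiv.apply_symm_apply]
  rwa [h2] at h1

end Transport

section Odd

variable (R : Type u) [CommRing R]

/-- splitting off the last two coordinates in odd rank -/
def splitLastOdd (m : ℕ) : (Fin (2 * (m + 1) + 1) → R) ≃ₗ[R] ((Fin (2 * m + 1) → R) × R × R) where
  toFun v := (fun j => v ⟨j, by omega⟩, v ⟨2 * m + 1, by omega⟩, v ⟨2 * m + 2, by omega⟩)
  invFun p j := if h : (j : ℕ) < 2 * m + 1 then p.1 ⟨j, h⟩ else if (j : ℕ) = 2 * m + 1 then p.2.1 else p.2.2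
  map_add' _ _ := rfl
  map_smul' _ _ := rfl
  left_inv v := by
    funext j
    dsimp only
    split_ifs with h1 h2
    · rfl
    · congr 1
      exact Fin.ext h2.symm
    · congr 1
      apply Fin.ext
      change 2 * m + 2 = (j : ℕ)
      omega
  right_inv p := by
    obtain ⟨v, x, y⟩ := p
    refine Prod.ext ?_ (Prod.ext ?_ ?_)
    · funext j
      dsimp only
      rw [dif_pos j.2]
    · simp
    · simp

/-- the isometry `q_{2(m+1)+1} = q_{2m+1} ⊥ H` -/
def isometryLastOdd (m : ℕ) :
    (QuadGrp.splitForm R (2 * (m + 1) + 1)).IsometryEquiv (Mat2.addH (QuadGrp.splitForm R (2 * m + 1))) where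
  toLinearEquiv := splitLastOdd R m
  map_app' v := by
    change Mat2.addH (QuadGrp.splitForm R (2 * m + 1)) (_, _, _) = _
    rw [Mat2.addH_apply, SplitForm.odd_apply, SplitForm.odd_apply, Fin.sum_univ_castSucc]
    change _ + v 0 * v 0 + _ = _
    simp only [Fin.val_castSucc, Fin.val_last]
    ring

end Odd

section Main

variable (K : Type u) [Field K] [Infinite K]

theorem even_le (m : ℕ) : QuadGrp.O (QuadGrp.splitForm K (2 * m)) ≤ RG (QuadGrp.splitForm K (2 * m)) := by
  induction m with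
  | zero =>
    intro g _
    have : Subsingleton (Fin (2 * 0) → K) := ⟨fun a b => funext fun i => Fin.elim0 i⟩
    have : g = 1 := LinearEquiv.ext fun x => Subsingleton.elim _ _
    rw [this]
    exact Subgroup.one_mem _
  | succ m ih =>
    refine congr (SplitForm.isometryLast K m).symm (step ih ?_)
    rcases Nat.eq_zero_or_pos m with rfl | hm
    · exact Or.inr ⟨fun a b => funext fun i => Fin.elim0 i⟩
    · left
      refine ⟨Pi.single ⟨0, by omega⟩ 1 + Pi.single ⟨1, by omega⟩ 1, ?_⟩
      rw [SplitForm.even_apply, Finset.sum_eq_single ⟨0, by omega⟩]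
      · simp
      · rintro ⟨b, hb⟩ _ h
        have hb0 : b ≠ 0 := fun h0 => h (Fin.ext h0)
        have e1 : 2 * b ≠ 0 := by omega
        have e2 : 2 * b ≠ 1 := by omega
        simp [e1, e2]
      · intro h; exact absurd (Finset.mem_univ _) h

theorem odd_le (m : ℕ) : QuadGrp.O (QuadGrp.splitForm K (2 * m + 1)) ≤ RG (QuadGrp.splitForm K (2 * m + 1)) := by
  induction m with
  | zero =>
    intro g hg
    have hQ : ∀ v : Fin (2 * 0 + 1) → K, QuadGrp.splitForm K (2 * 0 + 1) v = v 0 * v 0 := fun v => by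
      rw [SplitForm.odd_apply]
      simp
    let e : Fin (2 * 0 + 1) → K := fun _ => 1
    have he : ∀ v : Fin (2 * 0 + 1) → K, v = v 0 • e := fun v => by
      funext i
      have : i = 0 := Subsingleton.elim (α := Fin 1) _ _
      rw [this]; simp [e]
    have h1 := hg e
    rw [hQ, hQ] at h1
    have h2 : (g e 0 - 1) * (g e 0 + 1) = 0 := by linear_combination h1
    have hc : 1 * QuadGrp.splitForm K (2 * 0 + 1) e = 1 := by rw [hQ]; simp [e]
    rcases mul_eq_zero.1 h2 with h3 | h3
    · have : g = 1 := by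
        ext1 x
        rw [he x, _root_.map_smul, he (g e), sub_eq_zero.1 h3, one_smul]
        rfl
      rw [this]
      exact Subgroup.one_mem _
    · have : g = reflection e 1 hc := by
        ext1 x
        have hr : reflection e 1 hc e = -e := by
          rw [reflection_apply, polar_self_mul]
          rw [one_mul] at hc
          rw [hc, mul_one, one_smul, two_smul]
          abel
        rw [he x, _root_.map_smul, _root_.map_smul, hr, he (g e), eq_neg_of_add_eq_zero_left h3, neg_smul, one_smul]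
      rw [this]
      exact reflection_mem _ _ _
  | succ m ih =>
    refine congr (isometryLastOdd K m).symm (step ih (Or.inl ⟨Pi.single 0 1, ?_⟩))
    rw [SplitForm.odd_apply]
    simp

/-- **every isometry of the split form over an infinite field is a product of reflections** -/
theorem split_le (n : ℕ) : QuadGrp.O (QuadGrp.splitForm K n) ≤ RG (QuadGrp.splitForm K n) := by
  rcases Nat.even_or_odd' n with ⟨m, rfl | rfl⟩
  · exact even_le K m
  · exact odd_le K m

end Main

end K916.Refl
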