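import Groth.Agent.QuadGrp.K916.ConnTop
import Groth.Agent.QuadGrp.K916.Refl
import Groth.Agent.QuadGrp.K917.Base

/-!
# Paths of isometries: products of two reflections move continuously
-/

set_option autoImplicit false

universe u v

open CategoryTheory AlgebraicGeometry TensorProduct QuadGrp MonObj QuadraticMap K918.Cliff

namespace K916.Conn

open Refl

section Nat

variable {R : Type u} [CommRing R] {M : Type u} [AddCommGroup M] [Module R M]

theorem rTensor_smul {A B : Type u} [CommRing A] [Algebra R A] [CommRing B] [Algebra R B] (φ : A →ₐ[R] B) (a : A)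
    (z : A ⊗[R] M) : LinearMap.rTensor M φ.toLinearMap (a • z) = φ a • LinearMap.rTensor M φ.toLinearMap z := by
  induction z with
  | zero => rw [smul_zero, map_zero, smul_zero]
  | tmul b m =>
    rw [smul_tmul', LinearMap.rTensor_tmul, LinearMap.rTensor_tmul, smul_tmul', smul_eq_mul, smul_eq_mul,
      AlgHom.toLinearMap_apply, AlgHom.toLinearMap_apply, map_mul]
  | add x y hx hy => rw [smul_add, map_add, hx, hy, map_add, smul_add]

variable [Module.Free R M]

theorem polar_rTensor {A B : Type u} [CommRing A] [Algebra R A] [CommRing B] [Algebra R B] (φ : A →ₐ[R] B)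
    (Q : QuadraticForm R M) (z w : A ⊗[R] M) :
    polar (baseChangeForm B Q) (LinearMap.rTensor M φ.toLinearMap z) (LinearMap.rTensor M φ.toLinearMap w) =
      φ (polar (baseChangeForm A Q) z w) := by
  induction z with
  | zero => rw [map_zero, polar_zero_left, polar_zero_left, map_zero]
  | tmul a m =>
    induction w with
    | zero => rw [map_zero, polar_zero_right, polar_zero_right, map_zero]
    | tmul b m' =>
      rw [LinearMap.rTensor_tmul, LinearMap.rTensor_tmul, K917.Base.polar_baseChangeForm_tmul,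
        K917.Base.polar_baseChangeForm_tmul, AlgHom.toLinearMap_apply, AlgHom.toLinearMap_apply]
      simp only [map_mul, AlgHom.commutes]
    | add x y hx hy => rw [map_add, polar_add_right, polar_add_right, hx, hy, map_add]
  | add x y hx hy => rw [map_add, polar_add_left, polar_add_left, hx, hy, map_add]

theorem form_rTensor {A B : Type u} [CommRing A] [Algebra R A] [CommRing B] [Algebra R B] (φ : A →ₐ[R] B)
    (Q : QuadraticForm R M) (z : A ⊗[R] M) :
    baseChangeForm B Q (LinearMap.rTensor M φ.toLinearMap z) = φ (baseChangeForm A Q z) := by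
  induction z with
  | zero => rw [map_zero, QuadraticMap.map_zero, QuadraticMap.map_zero, map_zero]
  | tmul a m =>
    rw [LinearMap.rTensor_tmul, K917.Base.baseChangeForm_tmul, K917.Base.baseChangeForm_tmul, AlgHom.toLinearMap_apply]
    simp only [map_mul, AlgHom.commutes]
  | add x y hx hy =>
    rw [map_add, QuadraticMap.map_add (baseChangeForm B Q), QuadraticMap.map_add (baseChangeForm A Q), hx, hy,
      polar_rTensor, map_add, map_add]

theorem reflection_rTensor {A B : Type u} [CommRing A] [Algebra R A] [CommRing B] [Algebra R B] (φ : A →ₐ[R] B)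
    (Q : QuadraticForm R M) (v : A ⊗[R] M) (c : A) (hc : c * baseChangeForm A Q v = 1) (z : A ⊗[R] M) :
    LinearMap.rTensor M φ.toLinearMap (reflection v c hc z) =
      reflection (LinearMap.rTensor M φ.toLinearMap v) (φ c) (by rw [form_rTensor, ← map_mul, hc, map_one])
        (LinearMap.rTensor M φ.toLinearMap z) := by
  rw [reflection_apply, reflection_apply, _root_.map_sub, rTensor_smul, rTensor_smul, polar_rTensor]

omit [Module.Free R M] in
/-- a semilinear identity may be checked on `1 ⊗ m` -/
theorem semilinear_ext {A B : Type u} [CommRing A] [Algebra R A] [CommRing B] [Algebra R B] (φ : A →ₐ[R] B)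
    (g : (A ⊗[R] M) ≃ₗ[A] (A ⊗[R] M)) (g' : (B ⊗[R] M) ≃ₗ[B] (B ⊗[R] M))
    (h : ∀ m : M, g' (1 ⊗ₜ m) = LinearMap.rTensor M φ.toLinearMap (g (1 ⊗ₜ m))) (z : A ⊗[R] M) :
    g' (LinearMap.rTensor M φ.toLinearMap z) = LinearMap.rTensor M φ.toLinearMap (g z) := by
  induction z with
  | zero => rw [map_zero, map_zero, map_zero, map_zero]
  | tmul a m =>
    have h1 : (a ⊗ₜ[R] m : A ⊗[R] M) = a • ((1 : A) ⊗ₜ[R] m) := by rw [smul_tmul', smul_eq_mul, _root_.mul_one]
    have h2 : LinearMap.rTensor M φ.toLinearMap ((1 : A) ⊗ₜ[R] m) = (1 : B) ⊗ₜ m := by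
      rw [LinearMap.rTensor_tmul, AlgHom.toLinearMap_apply, map_one]
    rw [h1, rTensor_smul, map_smul, map_smul, rTensor_smul, h2, h]
  | add x y hx hy => rw [map_add, map_add, map_add, map_add, hx, hy]

end Nat

section Line

open Polynomial

/-- the ring of functions on the complement of the zeros of a polynomial on the line -/
theorem exists_line {K : Type u} [Field K] (q : K[X]) (hq : q ≠ 0) :
    ∃ (A : Type u) (_ : CommRing A) (_ : IsDomain A) (_ : Algebra K A) (t c : A), c * aeval t q = 1 ∧
      ∀ s : K, q.eval s ≠ 0 → ∃ f : A →ₐ[K] K, f t = s := by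
  refine ⟨Localization.Away q, inferInstance,
    IsLocalization.isDomain_localization (powers_le_nonZeroDivisors_of_noZeroDivisors hq), inferInstance,
    algebraMap K[X] _ X, IsLocalization.Away.invSelf q, ?_, fun s hs => ?_⟩
  · rw [aeval_algebraMap_apply, aeval_X_left_apply, mul_comm]
    exact IsLocalization.Away.mul_invSelf q
  · have hu : ∀ y : Submonoid.powers q, IsUnit (aeval s (y : K[X])) := by
      rintro ⟨_, n, rfl⟩
      rw [map_pow]
      exact (IsUnit.mk0 _ (by rwa [coe_aeval_eq_eval])).pow n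
    refine ⟨IsLocalization.liftAlgHom (M := Submonoid.powers q) (f := aeval s) hu, ?_⟩
    change IsLocalization.lift _ _ = _
    rw [IsLocalization.lift_eq]
    exact aeval_X s

end Line

section Path

variable {R : Type u} [CommRing R] {M : Type u} [AddCommGroup M] [Module R M]
  (S : ∀ (A : Type u) [CommRing A] [Algebra R A], Subgroup ((A ⊗[R] M) ≃ₗ[A] (A ⊗[R] M)))
  (C : Type u) [CommRing C] [Algebra R C]

/-- the points of an algebra are a subgroup functor of linear automorphisms -/
structure Pts where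
  /-- the bijection -/
  pt : ∀ (A : Type u) [CommRing A] [Algebra R A], (C →ₐ[R] A) ≃ ↥(S A)
  nat : ∀ {A B : Type u} [CommRing A] [Algebra R A] [CommRing B] [Algebra R B] (φ : A →ₐ[R] B) (x : C →ₐ[R] A) (m : M),
    (pt B (φ.comp x) : (B ⊗[R] M) ≃ₗ[B] (B ⊗[R] M)) (1 ⊗ₜ m) =
      LinearMap.rTensor M φ.toLinearMap ((pt A x : (A ⊗[R] M) ≃ₗ[A] (A ⊗[R] M)) (1 ⊗ₜ m))

variable {S C}

/-- the points of the universal algebra of a linear group scheme -/
noncomputable def Pts.ofRep {G : Over (Spec (CommRingCat.of R))} [GrpObj G] (D : LinRep R M S G) (i : specOver R C ≅ G) :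
    Pts S C where
  pt A _ _ := (Equiv.ofBijective (fun x : C →ₐ[R] A => specOverMap R x)
    ⟨fun _ _ h => RepC.specOverMap_injective h, fun y => RepC.exists_algHom y⟩).trans
      ((Iso.homToEquiv i).trans (D.pts A).toEquiv)
  nat {A B} _ _ _ _ φ x m := by
    have h : specOverMap R (φ.comp x) = specOverMap R φ ≫ specOverMap R x := by
      ext1
      change Spec.map (CommRingCat.ofHom (φ.comp x).toRingHom) =
        Spec.map (CommRingCat.ofHom φ.toRingHom) ≫ Spec.map (CommRingCat.ofHom x.toRingHom)
      rw [← Spec.map_comp, ← CommRingCat.ofHom_comp]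
      rfl
    have h2 := D.natural A B φ (specOverMap R x ≫ i.hom) m
    rw [← Category.assoc, ← h] at h2
    exact h2

variable (P : Pts S C)

section Field

variable {K : Type u} [Field K] [Algebra R K]

/-- the map `K ⊗ C → A` attached to a point -/
noncomputable def ev {A : Type u} [CommRing A] [Algebra R A] [Algebra K A] [IsScalarTower R K A] (x : C →ₐ[R] A) :
    K ⊗[R] C →ₐ[K] A := Algebra.TensorProduct.lift (Algebra.ofId K A) x (fun _ _ => Commute.all _ _)

theorem ev_comp {A B : Type u} [CommRing A] [Algebra R A] [Algebra K A] [IsScalarTower R K A]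
    [CommRing B] [Algebra R B] [Algebra K B] [IsScalarTower R K B] (f : A →ₐ[K] B) (x : C →ₐ[R] A) (z : K ⊗[R] C) :
    ev (K := K) ((f.restrictScalars R).comp x) z = f (ev (K := K) x z) := by
  have : ev (K := K) ((f.restrictScalars R).comp x) = f.comp (ev (K := K) x) := by
    apply Algebra.TensorProduct.ext'
    intro a b
    simp [ev]
  rw [this]
  rfl

theorem ev_includeRight (b : K ⊗[R] C →ₐ[K] K) :
    ev (K := K) ((b.restrictScalars R).comp Algebra.TensorProduct.includeRight) = b := by
  apply Algebra.TensorProduct.ext'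
  intro a c
  have h : (a ⊗ₜ[R] c : K ⊗[R] C) = a • ((1 : K) ⊗ₜ[R] c) := by rw [smul_tmul', smul_eq_mul, _root_.mul_one]
  rw [h, map_smul, map_smul]
  congr 1
  simp [ev]

/-- the value of a function at an automorphism -/
noncomputable def E (e : K ⊗[R] C) (g : ↥(S K)) : K := ev (K := K) ((P.pt K).symm g) e

variable [Module.Free R M] {Q : QuadraticForm R M}

omit [Module.Free R M] in
/-- the values of an idempotent at the two ends of a path agree -/
theorem E_path_aux {e : K ⊗[R] C} (he : IsIdempotentElem e)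
    {A : Type u} [CommRing A] [IsDomain A] [Algebra R A] [Algebra K A] [IsScalarTower R K A]
    (s : ↥(S A)) (f0 f1 : A →ₐ[K] K) (g0 g1 : ↥(S K))
    (h0 : ∀ m : M, (g0 : (K ⊗[R] M) ≃ₗ[K] (K ⊗[R] M)) (1 ⊗ₜ m) =
      LinearMap.rTensor M (f0.restrictScalars R).toLinearMap ((s : (A ⊗[R] M) ≃ₗ[A] (A ⊗[R] M)) (1 ⊗ₜ m)))
    (h1 : ∀ m : M, (g1 : (K ⊗[R] M) ≃ₗ[K] (K ⊗[R] M)) (1 ⊗ₜ m) =
      LinearMap.rTensor M (f1.restrictScalars R).toLinearMap ((s : (A ⊗[R] M) ≃ₗ[A] (A ⊗[R] M)) (1 ⊗ₜ m))) :
    E P e g0 = E P e g1 := by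
  have key : ∀ (f : A →ₐ[K] K) (g : ↥(S K)), (∀ m : M, (g : (K ⊗[R] M) ≃ₗ[K] (K ⊗[R] M)) (1 ⊗ₜ m) =
      LinearMap.rTensor M (f.restrictScalars R).toLinearMap ((s : (A ⊗[R] M) ≃ₗ[A] (A ⊗[R] M)) (1 ⊗ₜ m))) →
      E P e g = f (ev (K := K) ((P.pt A).symm s) e) := by
    intro f g h
    have h2 : (P.pt K).symm g = (f.restrictScalars R).comp ((P.pt A).symm s) := by
      rw [Equiv.symm_apply_eq]
      apply Subtype.ext
      apply RepC.ext_one_tmul
      intro m
      rw [P.nat, Equiv.apply_symm_apply, h]
    rw [E, h2, ev_comp]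
  rw [key f0 g0 h0, key f1 g1 h1]
  set a := ev (K := K) ((P.pt A).symm s) e with ha
  have hid : a * a = a := by rw [ha, ← map_mul, he.eq]
  rcases eq_or_ne a 0 with h2 | h2
  · rw [h2, map_zero, map_zero]
  · have h3 : a = 1 := mul_left_cancel₀ h2 (by rw [hid, _root_.mul_one])
    rw [h3, map_one, map_one]

/-- **moving a reflection**: an idempotent takes the same value at `g` and at `σ_v σ_w g` -/
theorem E_path {e : K ⊗[R] C} (he : IsIdempotentElem e)
    (hpair : ∀ (A : Type u) [CommRing A] [Nontrivial A] [Algebra R A] (v w : A ⊗[R] M) (c d : A)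
      (hc : c * baseChangeForm A Q v = 1) (hd : d * baseChangeForm A Q w = 1), reflection v c hc * reflection w d hd ∈ S A)
    (v w : K ⊗[R] M) (c d : K) (hc : c * baseChangeForm K Q v = 1) (hd : d * baseChangeForm K Q w = 1) (g : ↥(S K)) :
    E P e (⟨_, hpair K v w c d hc hd⟩ * g) = E P e g := by
  let q : Polynomial K := Polynomial.C (baseChangeForm K Q w) +
    Polynomial.C (polar (baseChangeForm K Q) w (v - w)) * Polynomial.X +
    Polynomial.C (baseChangeForm K Q (v - w)) * Polynomial.X ^ 2
  have hq : ∀ s : K, q.eval s = baseChangeForm K Q (w + s • (v - w)) := by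
    intro s
    rw [QuadraticMap.map_add (baseChangeForm K Q), QuadraticMap.map_smul, polar_smul_right]
    simp only [q, Polynomial.eval_add, Polynomial.eval_mul, Polynomial.eval_C, Polynomial.eval_X, Polynomial.eval_pow, smul_eq_mul]
    ring
  have hq0 : q.eval 0 ≠ 0 := by
    rw [hq, zero_smul, add_zero]
    exact right_ne_zero_of_mul_eq_one hd
  have hq1 : q.eval 1 ≠ 0 := by
    rw [hq, one_smul, add_sub_cancel]
    exact right_ne_zero_of_mul_eq_one hc
  obtain ⟨A, _, _, _, t, cA, hcA, hf⟩ := exists_line q (fun h => hq0 (by rw [h, Polynomial.eval_zero]))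
  obtain ⟨f0, hf0⟩ := hf 0 hq0
  obtain ⟨f1, hf1⟩ := hf 1 hq1
  let _ : Algebra R A := ((algebraMap K A).comp (algebraMap R K)).toAlgebra
  have : IsScalarTower R K A := IsScalarTower.of_algebraMap_eq fun _ => rfl
  let jA : K →ₐ[R] A := IsScalarTower.toAlgHom R K A
  let rT : K ⊗[R] M →ₗ[R] A ⊗[R] M := LinearMap.rTensor M jA.toLinearMap
  have hrT : ∀ (f : A →ₐ[K] K) (z : K ⊗[R] M), LinearMap.rTensor M (f.restrictScalars R).toLinearMap (rT z) = z := by
    intro f z
    have h1 : (f.restrictScalars R).toLinearMap ∘ₗ jA.toLinearMap = LinearMap.id := by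
      apply LinearMap.ext
      intro a
      exact f.commutes a
    have h2 := LinearMap.rTensor_comp M (f.restrictScalars R).toLinearMap jA.toLinearMap
    rw [h1, LinearMap.rTensor_id] at h2
    exact (DFunLike.congr_fun h2 z).symm
  let vA : A ⊗[R] M := rT w + t • rT (v - w)
  have hvA : baseChangeForm A Q vA = Polynomial.aeval t q := by
    have e1 : baseChangeForm A Q (rT w) = algebraMap K A (baseChangeForm K Q w) := form_rTensor jA Q w
    have e2 : baseChangeForm A Q (rT (v - w)) = algebraMap K A (baseChangeForm K Q (v - w)) := form_rTensor jA Q _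
    have e3 : polar (baseChangeForm A Q) (rT w) (rT (v - w)) = algebraMap K A (polar (baseChangeForm K Q) w (v - w)) :=
      polar_rTensor jA Q _ _
    rw [QuadraticMap.map_add (baseChangeForm A Q), QuadraticMap.map_smul, polar_smul_right, e1, e2, e3]
    simp only [q, map_add, map_mul, Polynomial.aeval_C, Polynomial.aeval_X, map_pow, smul_eq_mul]
    ring
  have hdA : jA d * baseChangeForm A Q (rT w) = 1 := by
    have e1 : baseChangeForm A Q (rT w) = jA (baseChangeForm K Q w) := form_rTensor jA Q w
    rw [e1, ← map_mul, hd, map_one]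
  have hcA' : cA * baseChangeForm A Q vA = 1 := by rw [hvA]; exact hcA
  let gA : ↥(S A) := P.pt A (jA.comp ((P.pt K).symm g))
  have hgA : ∀ m : M, (gA : (A ⊗[R] M) ≃ₗ[A] (A ⊗[R] M)) (1 ⊗ₜ m) = rT ((g : (K ⊗[R] M) ≃ₗ[K] (K ⊗[R] M)) (1 ⊗ₜ m)) := by
    intro m
    rw [P.nat, Equiv.apply_symm_apply]
  have hs : ∀ (f : A →ₐ[K] K) (m : M), LinearMap.rTensor M (f.restrictScalars R).toLinearMap
      (((⟨_, hpair A vA (rT w) cA (jA d) hcA' hdA⟩ * gA : ↥(S A)) : (A ⊗[R] M) ≃ₗ[A] (A ⊗[R] M)) (1 ⊗ₜ m)) =
      reflection (Q := baseChangeForm K Q) (LinearMap.rTensor M (f.restrictScalars R).toLinearMap vA) (f cA)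
        (by
          have := form_rTensor (f.restrictScalars R) Q vA
          rw [this]
          change f cA * f _ = 1
          rw [← map_mul, hcA', map_one])
        (reflection w d hd ((g : (K ⊗[R] M) ≃ₗ[K] (K ⊗[R] M)) (1 ⊗ₜ m))) := by
    intro f m
    change LinearMap.rTensor M (f.restrictScalars R).toLinearMap
      (reflection vA cA hcA' (reflection (rT w) (jA d) hdA ((gA : (A ⊗[R] M) ≃ₗ[A] (A ⊗[R] M)) (1 ⊗ₜ m)))) = _
    rw [reflection_rTensor (f.restrictScalars R) Q vA cA hcA', reflection_rTensor (f.restrictScalars R) Q (rT w) (jA d) hdA,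
      hgA]
    congr 1
    rw [reflection_apply, reflection_apply, hrT f w, hrT f]
    have : f.restrictScalars R (jA d) = d := f.commutes d
    rw [this]
  have hrefl : ∀ (v' : K ⊗[R] M) (c' : K) (hc' : c' * baseChangeForm K Q v' = 1) (_ : v' = v),
      reflection v' c' hc' = reflection v c hc := by
    rintro v' c' hc' rfl
    have : c' = c := by
      have h1 : c' * (c * baseChangeForm K Q v') = c * (c' * baseChangeForm K Q v') := by ring
      rwa [hc, hc', _root_.mul_one, _root_.mul_one] at h1
    subst this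
    rfl
  have hrefl0 : ∀ (v' : K ⊗[R] M) (c' : K) (hc' : c' * baseChangeForm K Q v' = 1) (_ : v' = w),
      reflection v' c' hc' = reflection w d hd := by
    rintro v' c' hc' rfl
    have : c' = d := by
      have h1 : c' * (d * baseChangeForm K Q v') = d * (c' * baseChangeForm K Q v') := by ring
      rwa [hd, hc', _root_.mul_one, _root_.mul_one] at h1
    subst this
    rfl
  have hfv : ∀ (f : A →ₐ[K] K), LinearMap.rTensor M (f.restrictScalars R).toLinearMap vA = w + f t • (v - w) := by
    intro f
    rw [map_add, rTensor_smul, hrT, hrT]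
    rfl
  symm
  refine E_path_aux P he (⟨_, hpair A vA (rT w) cA (jA d) hcA' hdA⟩ * gA) f0 f1 g _ (fun m => ?_) (fun m => ?_)
  · refine (((hs f0 m).trans (DFunLike.congr_fun (hrefl0 _ _ _ (by rw [hfv, hf0, zero_smul, add_zero])) _)).trans ?_).symm
    exact (reflection w d hd).symm_apply_apply _
  · refine ((hs f1 m).trans (DFunLike.congr_fun (hrefl _ _ _ (by rw [hfv, hf1, one_smul, add_sub_cancel])) _)).symm

end Field

end Path

section Even

variable {R : Type u} [CommRing R] {M : Type v} [AddCommGroup M] [Module R M] (Q : QuadraticForm R M)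

/-- the subgroup generated by products of two reflections -/
noncomputable def H2 : Subgroup (M ≃ₗ[R] M) :=
  Subgroup.closure {τ | ∃ (v w : M) (c d : R) (hc : c * Q v = 1) (hd : d * Q w = 1), τ = reflection v c hc * reflection w d hd}

variable {Q}

theorem pair_mem (v w : M) (c d : R) (hc : c * Q v = 1) (hd : d * Q w = 1) : reflection v c hc * reflection w d hd ∈ H2 Q :=
  Subgroup.subset_closure ⟨v, w, c, d, hc, hd, rfl⟩

theorem reflection_inv (v : M) (c : R) (hc : c * Q v = 1) : (reflection v c hc)⁻¹ = reflection v c hc := rfl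

/-- a product of reflections is in `H2` or becomes so after one more reflection -/
theorem mem_or {g : M ≃ₗ[R] M} (hg : g ∈ RG Q) :
    g ∈ H2 Q ∨ ∀ (v : M) (c : R) (hc : c * Q v = 1), reflection v c hc * g ∈ H2 Q := by
  rw [RG] at hg
  induction hg using Subgroup.closure_induction_left with
  | one => exact Or.inl (Subgroup.one_mem _)
  | mul_left x hx y _ h =>
    obtain ⟨v, c, hc, rfl⟩ := hx
    rcases h with h | h
    · right
      intro w d hd
      rw [← _root_.mul_assoc]
      exact Subgroup.mul_mem _ (pair_mem _ _ _ _ _ _) h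
    · left
      exact h v c hc
  | inv_mul_cancel x hx y _ h =>
    obtain ⟨v, c, hc, rfl⟩ := hx
    rw [reflection_inv]
    rcases h with h | h
    · right
      intro w d hd
      rw [← _root_.mul_assoc]
      exact Subgroup.mul_mem _ (pair_mem _ _ _ _ _ _) h
    · left
      exact h v c hc

end Even

section Main

variable {R : Type u} [CommRing R] {M : Type u} [AddCommGroup M] [Module R M]
  {S : ∀ (A : Type u) [CommRing A] [Algebra R A], Subgroup ((A ⊗[R] M) ≃ₗ[A] (A ⊗[R] M))}
  {C : Type u} [CommRing C] [Algebra R C] (P : Pts S C) [Module.Free R M] {Q : QuadraticForm R M}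

include P in
/-- **connectedness** of the geometric fibres when the points are generated by products of two reflections -/
theorem connectedSpace [Algebra.FiniteType R C] {K : Type u} [Field K] [IsAlgClosed K] [Algebra R K]
    (hpair : ∀ (A : Type u) [CommRing A] [Nontrivial A] [Algebra R A] (v w : A ⊗[R] M) (c d : A)
      (hc : c * baseChangeForm A Q v = 1) (hd : d * baseChangeForm A Q w = 1), reflection v c hc * reflection w d hd ∈ S A)
    (hgen : S K ≤ H2 (baseChangeForm K Q)) : ConnectedSpace (PrimeSpectrum (K ⊗[R] C)) := by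
  have hle : H2 (baseChangeForm K Q) ≤ S K := by
    rw [H2, Subgroup.closure_le]
    rintro _ ⟨v, w, c, d, hc, hd, rfl⟩
    exact hpair K v w c d hc hd
  have key : ∀ {e : K ⊗[R] C}, IsIdempotentElem e → ∀ {h : (K ⊗[R] M) ≃ₗ[K] (K ⊗[R] M)} (hh : h ∈ H2 (baseChangeForm K Q))
      (g : ↥(S K)), E P e (⟨h, hle hh⟩ * g) = E P e g := by
    intro e he h hh
    have hh' := hh
    rw [H2] at hh'
    induction hh' using Subgroup.closure_induction with
    | mem x hx =>
      obtain ⟨v, w, c, d, hc, hd, rfl⟩ := hx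
      intro g
      exact E_path P he hpair v w c d hc hd g
    | one => intro g; exact congrArg (E P e) (_root_.one_mul g)
    | mul x y hx hy ihx ihy =>
      intro g
      have h1 : (⟨x * y, hle hh⟩ : ↥(S K)) * g = ⟨x, hle hx⟩ * (⟨y, hle hy⟩ * g) := by
        rw [← _root_.mul_assoc]; rfl
      rw [h1, ihx hx, ihy hy]
    | inv x hx ihx =>
      intro g
      have h1 : (⟨x⁻¹, hle hh⟩ : ↥(S K)) * g = (⟨x, hle hx⟩ : ↥(S K))⁻¹ * g := rfl
      rw [h1, ← ihx hx ((⟨x, hle hx⟩ : ↥(S K))⁻¹ * g), mul_inv_cancel_left]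
  let b0 : K ⊗[R] C →ₐ[K] K := ev ((P.pt K).symm 1)
  refine ConnTop.connectedSpace b0 fun e he b => ?_
  have h1 : b e = E P e (P.pt K ((b.restrictScalars R).comp Algebra.TensorProduct.includeRight)) := by
    rw [E, Equiv.symm_apply_apply, ev_includeRight]
  set g := P.pt K ((b.restrictScalars R).comp Algebra.TensorProduct.includeRight)
  have h2 := key he (hgen g.2) 1
  rw [_root_.mul_one] at h2
  rw [h1]
  exact h2

end Main

end K916.Conn
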