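import Groth.Agent.QuadGrp.K916.Glob
import Mathlib.RingTheory.Ideal.IdempotentFG

/-!
# The Dickson invariant of an isometry of a regular form of even rank over any ring
-/

set_option autoImplicit false

universe u v w u'

open CliffordAlgebra TensorProduct

namespace K916.DicksonGlob

open BC Dickson Glob Parts Center

section General

variable {R : Type u} [CommRing R] {M : Type v} [AddCommGroup M] [Module R M] {Q : QuadraticForm R M}

theorem isDicksonTrivial_iff (g : M ≃ₗ[R] M) (hg : g ∈ QuadGrp.O Q) :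
    QuadGrp.IsDicksonTrivial Q g hg ↔ ∀ x ∈ Tw Q LinearMap.id, cg g hg x = x := by
  constructor
  · rintro h x ⟨hx0, hx⟩
    refine h ⟨x, hx0⟩ ?_
    rw [Subalgebra.mem_center_iff]
    intro b
    exact Subtype.ext (hx b.1 b.2).symm
  · intro h z hz
    refine h z ⟨z.2, fun y hy => ?_⟩
    rw [Subalgebra.mem_center_iff] at hz
    exact (congrArg Subtype.val (hz ⟨y, hy⟩)).symm

end General

variable {R : Type u} [CommRing R] {M : Type v} [AddCommGroup M] [Module R M]
variable {A : Type u'} [CommRing A] [Algebra R A] {M' : Type w} [AddCommGroup M'] [Module R M'] [Module A M']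
  [IsScalarTower R A M']
variable {Q : QuadraticForm R M} {Q' : QuadraticForm A M'} {f : M →ₗ[R] M'}

/-- descent of an idempotent generating the extension of a finitely generated ideal -/
theorem exists_idempotent [Module.FaithfullyFlat R A] (J : Ideal R) (hJ : J.FG) {δ : A} (hδ : IsIdempotentElem δ)
    (h : J.map (algebraMap R A) = Ideal.span {δ}) : ∃ e : R, IsIdempotentElem e ∧ algebraMap R A e = δ := by
  have h1 : (J * J).map (algebraMap R A) = J.map (algebraMap R A) := by
    rw [Ideal.map_mul, h, Ideal.span_singleton_mul_span_singleton, hδ.eq]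
  have h2 : J * J = J := by
    rw [← Ideal.comap_map_eq_self_of_faithfullyFlat (B := A) (J * J), h1, Ideal.comap_map_eq_self_of_faithfullyFlat]
  obtain ⟨e, he, hJe⟩ := (Ideal.isIdempotentElem_iff_of_fg J hJ).1 h2
  refine ⟨e, he, ?_⟩
  have h3 : Ideal.span {algebraMap R A e} = Ideal.span {δ} := by
    rw [← h, hJe, Ideal.submodule_span_eq, Ideal.map_span, Set.image_singleton]
  have he' : algebraMap R A e * algebraMap R A e = algebraMap R A e := by rw [← map_mul, he.eq]
  obtain ⟨s, hs⟩ := Ideal.mem_span_singleton'.1 (h3 ▸ Ideal.mem_span_singleton_self (algebraMap R A e))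
  obtain ⟨t, ht⟩ := Ideal.mem_span_singleton'.1 (h3.symm ▸ Ideal.mem_span_singleton_self δ)
  have hδ' : δ * δ = δ := hδ
  have h4 : algebraMap R A e * δ = algebraMap R A e := by
    calc algebraMap R A e * δ = s * (δ * δ) := by rw [← hs]; ring
      _ = algebraMap R A e := by rw [hδ', hs]
  have h5 : algebraMap R A e * δ = δ := by
    calc algebraMap R A e * δ = t * (algebraMap R A e * algebraMap R A e) := by rw [← ht]; ring
      _ = δ := by rw [he', ht]
  rw [← h4, h5]

theorem mem_range_of_cmap [Module.FaithfullyFlat R A] (h : IsBC A Q Q' f) {x : CliffordAlgebra Q} {a : A}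
    (hx : cmap h.compat x = algebraMap A _ a) : ∃ r : R, x = algebraMap R _ r := by
  have h1 : x ∈ LinearMap.range (Algebra.linearMap R (CliffordAlgebra Q)) := by
    refine Desc.mem_of_mem_span A (isBaseChange_cmap h) _ ?_
    change cmap h.compat x ∈ _
    rw [hx, Algebra.algebraMap_eq_smul_one]
    refine Submodule.smul_mem _ _ (Submodule.subset_span ⟨1, ⟨1, ?_⟩, ?_⟩)
    · rw [Algebra.linearMap_apply, map_one]
    · exact map_one (cmap h.compat)
  obtain ⟨r, hr⟩ := h1
  exact ⟨r, hr.symm⟩

theorem cmap_injective [Module.FaithfullyFlat R A] (h : IsBC A Q Q' f) : Function.Injective (cmap h.compat) :=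
  Desc.injective_of_faithfullyFlat A (isBaseChange_cmap h)

attribute [local instance] Split.MatCl.fin Split.MatCl.dec

/-- the Dickson invariant descends: core statement -/
theorem exists_dickson_of_isBC [Module.FaithfullyFlat R A] [Module.Finite R (CliffordAlgebra Q)] (h : IsBC A Q Q' f)
    {m : ℕ} (E : Split.MatCl Q' m) (hm : m ≠ 0) (g : M ≃ₗ[R] M) (hg : g ∈ QuadGrp.O Q) (g' : M' ≃ₗ[A] M')
    (hg' : g' ∈ QuadGrp.O Q') (hgg : ∀ v, g' (f v) = f (g v)) {δ : A} (hδ : IsIdempotentElem δ)
    (hδg : cg g' hg' (eps E) = (1 - δ) • eps E + δ • (1 - eps E)) :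
    ∃ e : R, IsIdempotentElem e ∧ algebraMap R A e = δ ∧ (QuadGrp.IsDicksonTrivial Q g hg ↔ e = 0) := by
  have hZ := Tw_eq_span h LinearMap.id LinearMap.id (fun _ => rfl)
  have heps : eps E ∈ Tw Q' LinearMap.id := ⟨eps_mem E, fun y hy => (eps_comm E hy).symm⟩
  rw [hZ] at heps
  obtain ⟨k, a, x, hx⟩ := Submodule.mem_span_set'.1 heps
  choose y hyZ hy using fun i => (x i).2
  -- the displacement
  have hdisp : ∀ z ∈ Tw Q LinearMap.id, ∃ c : A, cmap h.compat (cg g hg z - z) = (δ * c) • (2 * eps E - 1) := by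
    intro z hz
    have hz' : cmap h.compat z ∈ Tw Q' LinearMap.id := by
      rw [hZ]; exact Submodule.subset_span ⟨z, hz, rfl⟩
    obtain ⟨α, β, hab⟩ := exists_of_central E (z := cmap h.compat z) fun x hx => (hz'.2 x hx)
    refine ⟨β - α, ?_⟩
    rw [map_sub, FamBC.cmap_cg h.compat g hg g' hg' hgg, hab, map_add, map_smul, map_smul, map_sub, map_one, hδg, two_mul]
    module
  have h1 : (2 * eps E - 1) * (2 * eps E - 1) = 1 := by
    have h : 2 * eps E - 1 = (1 : A) • eps E + (-1 : A) • (1 - eps E) := by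
      rw [two_mul]; module
    rw [h, lin_mul, one_mul, neg_mul_neg, one_mul, ← one_eq_lin]
  choose c hc using fun i => hdisp (y i) (hyZ i)
  have hr : ∀ p : Fin k × Fin k, ∃ r : R, (cg g hg (y p.1) - y p.1) * (cg g hg (y p.2) - y p.2) = algebraMap R _ r ∧
      algebraMap R A r = δ * (c p.1 * c p.2) := by
    intro p
    have h2 : cmap h.compat ((cg g hg (y p.1) - y p.1) * (cg g hg (y p.2) - y p.2)) =
        algebraMap A _ (δ * (c p.1 * c p.2)) := by
      rw [map_mul, hc, hc, smul_mul_smul_comm, h1, Algebra.algebraMap_eq_smul_one]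
      congr 1
      have hδ' : δ * δ = δ := hδ
      linear_combination (c p.1 * c p.2) * hδ'
    obtain ⟨r, hr⟩ := mem_range_of_cmap h h2
    refine ⟨r, hr, ?_⟩
    rw [hr, cmap_algebraMap] at h2
    obtain ⟨i0, -⟩ := E.exists_idx hm 0
    have h3 := congrFun (congrFun (congrArg E.Φ h2) i0) i0
    rw [AlgEquiv.commutes, AlgEquiv.commutes, Matrix.algebraMap_matrix_apply, Matrix.algebraMap_matrix_apply,
      if_pos rfl, if_pos rfl] at h3
    exact h3
  choose r hr1 hr2 using hr
  -- the displacement of `eps`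
  have hF : δ • (1 - 2 * eps E) = ∑ i, a i • cmap h.compat (cg g hg (y i) - y i) := by
    have h4 : cg g' hg' (eps E) - eps E = δ • (1 - 2 * eps E) := by
      rw [hδg, two_mul]; module
    rw [← h4, ← hx, map_sum, ← Finset.sum_sub_distrib]
    refine Finset.sum_congr rfl fun i _ => ?_
    rw [map_smul, ← smul_sub, ← hy i, map_sub, FamBC.cmap_cg h.compat g hg g' hg' hgg]
  have hF2 : δ = - ∑ i, a i * (δ * c i) := by
    have h5 : δ • (1 - 2 * eps E) = (∑ i, a i * (δ * c i)) • (2 * eps E - 1) := by
      rw [hF, Finset.sum_smul]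
      refine Finset.sum_congr rfl fun i _ => ?_
      rw [hc, smul_smul]
    have h6 : (δ + ∑ i, a i * (δ * c i)) • (1 : CliffordAlgebra Q') = 0 := by
      have h7 : (δ + ∑ i, a i * (δ * c i)) • (2 * eps E - 1) = 0 := by
        rw [add_smul, ← h5, ← smul_add]
        have : (2 * eps E - 1) + (1 - 2 * eps E) = 0 := by abel
        rw [this, smul_zero]
      have h8 := congrArg (· * (2 * eps E - 1)) h7
      simpa only [smul_mul_assoc, h1, zero_mul] using h8
    obtain ⟨i0, -⟩ := E.exists_idx hm 0
    have h9 := congrFun (congrFun (congrArg E.Φ h6) i0) i0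
    rw [map_smul, map_one, Matrix.smul_apply, Matrix.one_apply_eq, smul_eq_mul, mul_one, map_zero] at h9
    exact eq_neg_of_add_eq_zero_left h9
  have hJ : (Ideal.span (Set.range r)).map (algebraMap R A) = Ideal.span {δ} := by
    apply le_antisymm
    · rw [Ideal.map_span, Ideal.span_le]
      rintro _ ⟨_, ⟨p, rfl⟩, rfl⟩
      change algebraMap R A (r p) ∈ _
      rw [hr2]
      exact Ideal.mul_mem_right _ _ (Ideal.mem_span_singleton_self δ)
    · rw [Ideal.span_singleton_le_iff_mem]
      have hδ' : δ * δ = δ := hδ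
      have h10 : δ = ∑ i, ∑ j, (a i * a j) * algebraMap R A (r (i, j)) := by
        calc δ = (- ∑ i, a i * (δ * c i)) * (- ∑ i, a i * (δ * c i)) := by rw [← hF2, hδ']
          _ = ∑ i, ∑ j, (a i * a j) * algebraMap R A (r (i, j)) := by
            rw [neg_mul_neg, Finset.sum_mul_sum]
            refine Finset.sum_congr rfl fun i _ => Finset.sum_congr rfl fun j _ => ?_
            rw [hr2]
            linear_combination (a i * a j * c i * c j) * hδ'
      rw [h10]
      exact Ideal.sum_mem _ fun i _ => Ideal.sum_mem _ fun j _ => Ideal.mul_mem_left _ _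
        (Ideal.mem_map_of_mem _ (Ideal.subset_span ⟨_, rfl⟩))
  obtain ⟨e, he, heδ⟩ := exists_idempotent (A := A) (Ideal.span (Set.range r))
    (Submodule.fg_span (Set.finite_range r)) hδ hJ
  refine ⟨e, he, heδ, ?_⟩
  rw [isDicksonTrivial_iff]
  constructor
  · intro hD
    have h11 : δ • (1 - 2 * eps E) = 0 := by
      rw [hF]
      refine Finset.sum_eq_zero fun i _ => ?_
      rw [hD _ (hyZ i), sub_self, map_zero, smul_zero]
    have h12 : δ • (1 : CliffordAlgebra Q') = 0 := by
      have h13 : (1 - 2 * eps E) * (1 - 2 * eps E) = 1 := by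
        rw [← neg_sub, neg_mul_neg, h1]
      rw [← h13, ← smul_mul_assoc, h11, zero_mul]
    obtain ⟨i0, -⟩ := E.exists_idx hm 0
    have h14 := congrFun (congrFun (congrArg E.Φ h12) i0) i0
    rw [map_smul, map_one, Matrix.smul_apply, Matrix.one_apply_eq, smul_eq_mul, mul_one, map_zero] at h14
    apply FaithfulSMul.algebraMap_injective R A
    rw [heδ, map_zero]
    exact h14
  · rintro rfl z hz
    rw [map_zero] at heδ
    apply cmap_injective h
    obtain ⟨c, hc⟩ := hdisp z hz
    rw [← heδ, zero_mul, zero_smul, map_sub, sub_eq_zero] at hc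
    exact hc

/-- **the Dickson invariant** of an isometry of a regular form of even positive rank -/
theorem exists_dickson {R : Type u} [CommRing R] {M : Type v} [AddCommGroup M] [Module R M] [Module.Free R M]
    [Module.Finite R M] {m : ℕ} (hm : m ≠ 0) (b : Module.Basis (Fin (2 * m)) R M) (Q : QuadraticForm R M)
    (hQ : QuadGrp.IsRegular Q) (g : M ≃ₗ[R] M) (hg : g ∈ QuadGrp.O Q) :
    ∃ e : R, IsIdempotentElem e ∧ LinearMap.det (g : M →ₗ[R] M) = 1 - 2 * e ∧
      (QuadGrp.IsDicksonTrivial Q g hg ↔ e = 0) := by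
  obtain ⟨A, _, _, _, _, f, hf⟩ := exists_isBC b Q ⟨fun _ => hQ, fun h => absurd h (by
    rw [Nat.not_odd_iff_even]; exact even_two_mul m)⟩
  have : Module.Finite R (CliffordAlgebra Q) := Basic.module_finite Q
  obtain ⟨δ, hδ, hδg⟩ := Dickson.exists_dickson (SplitForm.matClSplit A m) hm _ (bcEquiv_mem hf hg)
  have hW := DetW.cg_evenFam A m _ (bcEquiv_mem hf hg)
  have hd := Dickson.det_eq (SplitForm.matClSplit A m) hm _ (bcEquiv_mem hf hg) (DetW.evenFam A m).anti
    ⟨⟨_, _, (DetW.evenFam A m).sq, (DetW.evenFam A m).sq⟩, rfl⟩ hW hδg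
  rw [det_bcEquiv] at hd
  obtain ⟨e, he, heδ, hiff⟩ := exists_dickson_of_isBC hf (SplitForm.matClSplit A m) hm g hg _ (bcEquiv_mem hf hg)
    (bcEquiv_apply hf.isBaseChange g) hδ hδg
  refine ⟨e, he, ?_, hiff⟩
  apply FaithfulSMul.algebraMap_injective R A
  rw [hd, map_sub, map_mul, heδ, map_one, map_ofNat]

/-- the Dickson invariant, with the rank hypothesis in the form of the statements -/
theorem exists_dickson' {R : Type u} [CommRing R] {M : Type v} [AddCommGroup M] [Module R M] [Module.Free R M]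
    [Module.Finite R M] {m : ℕ} (hm : 1 ≤ m) (hM : Module.finrank R M = 2 * m) (Q : QuadraticForm R M)
    (hQ : QuadGrp.IsRegular Q) (g : M ≃ₗ[R] M) (hg : g ∈ QuadGrp.O Q) :
    ∃ e : R, IsIdempotentElem e ∧ ((LinearEquiv.det g : Rˣ) : R) = 1 - 2 * e ∧
      (QuadGrp.IsDicksonTrivial Q g hg ↔ e = 0) := by
  rcases subsingleton_or_nontrivial R with hR | hR
  · have : Subsingleton (CliffordAlgebra Q) := Module.subsingleton R _
    exact ⟨0, IsIdempotentElem.zero, Subsingleton.elim _ _, fun _ => rfl, fun _ z _ => Subsingleton.elim _ _⟩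
  · rw [LinearEquiv.coe_det]
    exact exists_dickson (by omega) (Module.finBasisOfFinrankEq R M hM) Q hQ g hg

/-- idempotents of a ring with connected spectrum -/
theorem eq_zero_or_eq_one {R : Type u} [CommRing R] (hc : ConnectedSpace (PrimeSpectrum R)) {e : R}
    (he : IsIdempotentElem e) : e = 0 ∨ e = 1 := by
  have h1 : IsClopen (PrimeSpectrum.basicOpen e : Set (PrimeSpectrum R)) := PrimeSpectrum.isClopen_iff.2 ⟨e, he, rfl⟩
  rcases isClopen_iff.1 h1 with h | h
  · left
    refine PrimeSpectrum.basicOpen_injOn_isIdempotentElem he IsIdempotentElem.zero (TopologicalSpace.Opens.ext ?_)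
    rw [h, PrimeSpectrum.basicOpen_zero]
    rfl
  · right
    refine PrimeSpectrum.basicOpen_injOn_isIdempotentElem he IsIdempotentElem.one (TopologicalSpace.Opens.ext ?_)
    rw [h, PrimeSpectrum.basicOpen_one]
    rfl

end K916.DicksonGlob
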