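import Groth.Agent.QuadGrp.K916.CoordRep
import Groth.Agent.QuadGrp.K916.DicksonGlob
import Groth.Agent.QuadGrp.K918.LocalEven
import Groth.Agent.Flat2B.SmoothGeom
import Mathlib.RingTheory.TensorProduct.Quotient
import Mathlib.Data.Nat.Prime.Int
import Mathlib.AlgebraicGeometry.Morphisms.Flat

/-!
# The naive special orthogonal group of the split form of even rank over `ℤ`
-/

set_option autoImplicit false

universe u v

open CategoryTheory AlgebraicGeometry TensorProduct QuadGrp Matrix

namespace K916.NaiveZ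

open Coord Bridge K917.Coef Dickson BC

section Ring

/-- a smooth `ℤ`-algebra is reduced -/
theorem isReduced_of_smooth (C : Type) [CommRing C] [Algebra.Smooth ℤ C] : IsReduced C := by
  have h1 : IsReduced (ℚ ⊗[ℤ] C) := Groth.Agent.Flat2B.SmoothGeom.isReduced_of_smooth_field ℚ (ℚ ⊗[ℤ] C)
  have hinj : Function.Injective (Algebra.TensorProduct.includeRight : C →ₐ[ℤ] ℚ ⊗[ℤ] C) :=
    Algebra.TensorProduct.includeRight_injective (by exact Int.cast_injective)
  exact isReduced_of_injective (Algebra.TensorProduct.includeRight : C →ₐ[ℤ] ℚ ⊗[ℤ] C) hinj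

/-- the reduction mod two of a smooth `ℤ`-algebra is reduced -/
theorem isReduced_mod_two (C : Type) [CommRing C] [Algebra.Smooth ℤ C] {a : C} (ha : (2 : C) ∣ a ^ 2) : (2 : C) ∣ a := by
  let I : Ideal ℤ := Ideal.span {2}
  have hI : I.IsMaximal := PrincipalIdealRing.isMaximal_of_irreducible Int.prime_two.irreducible
  let _ : Field (ℤ ⧸ I) := Ideal.Quotient.field I
  have h1 : IsReduced ((ℤ ⧸ I) ⊗[ℤ] C) := Groth.Agent.Flat2B.SmoothGeom.isReduced_of_smooth_field (ℤ ⧸ I) _
  let e := Algebra.TensorProduct.quotIdealMapEquivQuotTensor C I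
  have h2 : IsReduced (C ⧸ I.map (algebraMap ℤ C)) := isReduced_of_injective e e.injective
  have h3 : I.map (algebraMap ℤ C) = Ideal.span {2} := by
    rw [Ideal.map_span, Set.image_singleton, map_ofNat]
  have h4 : Ideal.Quotient.mk (I.map (algebraMap ℤ C)) a = 0 := by
    apply eq_zero_of_pow_eq_zero (n := 2)
    rw [← map_pow, Ideal.Quotient.eq_zero_iff_mem, h3, Ideal.mem_span_singleton]
    exact ha
  rwa [Ideal.Quotient.eq_zero_iff_mem, h3, Ideal.mem_span_singleton] at h4

/-- for an idempotent `δ` of a smooth `ℤ`-algebra `C`, the ring `C / 2 δ` is reduced -/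
theorem isReduced_quotient (C : Type) [CommRing C] [Algebra.Smooth ℤ C] {δ : C} (hδ : IsIdempotentElem δ) :
    IsReduced (C ⧸ Ideal.span {2 * δ}) := by
  have hC := isReduced_of_smooth C
  refine (Ideal.isRadical_iff_quotient_reduced _).1 ?_
  rw [Ideal.isRadical_iff_pow_one_lt 2 (by norm_num)]
  intro a ha
  rw [Ideal.mem_span_singleton] at ha ⊢
  obtain ⟨t, ht⟩ := ha
  have h1 : (1 - δ) * a = 0 := by
    apply eq_zero_of_pow_eq_zero (n := 2)
    rw [mul_pow, ht]
    linear_combination (2 * t * (δ - 1)) * hδ.eq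
  obtain ⟨b, hb⟩ := isReduced_mod_two C (a := a) ⟨δ * t, by rw [ht]; ring⟩
  refine ⟨b, ?_⟩
  linear_combination h1 + δ * hb

end Ring

section Reflection

open CliffordAlgebra K918.Cliff

attribute [local instance] Split.MatCl.fin Split.MatCl.dec

variable {F : Type u} [CommRing F] {M : Type v} [AddCommGroup M] [Module F M] {Q : QuadraticForm F M}

/-- the Clifford algebra automorphism of a reflection -/
theorem cg_reflection_mul (v : M) (c : F) (hc : c * Q v = 1) (hr : reflection v c hc ∈ QuadGrp.O Q) (y : CliffordAlgebra Q) :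
    cg (reflection v c hc) hr y * ι Q v = ι Q v * involute y := by
  have hK := mem_K.1 (ι_mem_K_reflection (Q := Q) v c hc)
  induction y using CliffordAlgebra.induction with
  | algebraMap r => rw [AlgHom.commutes, AlgHom.commutes, Algebra.commutes]
  | ι w =>
    rw [cg_ι, involute_ι]
    have h := hK w
    rw [LinearEquiv.coe_coe, involute_ι] at h
    rw [h, neg_mul, mul_neg]
  | mul a b ha hb => rw [map_mul, mul_assoc, hb, ← mul_assoc, ha, map_mul, mul_assoc]
  | add a b ha hb => rw [map_add, add_mul, ha, hb, map_add, mul_add]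

/-- an even element `ε` with `x ε = (1 - ε) x` for vectors is sent to `1 - ε` by a reflection -/
theorem cg_reflection_eps (v : M) (c : F) (hc : c * Q v = 1) (hr : reflection v c hc ∈ QuadGrp.O Q) {ε : CliffordAlgebra Q}
    (h0 : ε ∈ evenOdd Q 0) (h1 : ι Q v * ε = (1 - ε) * ι Q v) : cg (reflection v c hc) hr ε = 1 - ε := by
  have h2 := cg_reflection_mul v c hc hr ε
  rw [involute_eq_of_mem_even h0, h1] at h2
  have h3 : ι Q v * (c • ι Q v) = 1 := by
    rw [mul_smul_comm, ι_sq_scalar, Algebra.smul_def, ← map_mul, hc, map_one]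
  have h4 := congrArg (fun y => y * (c • ι Q v)) h2
  simp only [mul_assoc, h3, mul_one] at h4
  exact h4

end Reflection

section Univ

open Split Center FamBC DetW

variable (R : Type u) [CommRing R] (m : ℕ)

/-- the coefficient matrix of the split form -/
noncomputable abbrev C0 : Matrix (Fin (2 * m)) (Fin (2 * m)) R := cm (cf (splitForm R (2 * m)))

theorem C0_map {B : Type v} [CommRing B] [Algebra R B] : (C0 R m).map (algebraMap R B) = C0 B m := by
  rw [C0, cm_map]
  congr 1
  exact K917.Coef.map_sc (algebraMap R B)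

variable {R m}

/-- the universal isometry -/
noncomputable def gl (s : Bool) : (Fin (2 * m) → Alg (C0 R m) s) ≃ₗ[Alg (C0 R m) s] (Fin (2 * m) → Alg (C0 R m) s) :=
  lin (gen (C0 R m) s) (geni (C0 R m) s) (cond_gen (C0 R m) s).mul_inv (cond_gen (C0 R m) s).inv_mul

theorem gl_mem (s : Bool) : gl s ∈ O (splitForm (Alg (C0 R m) s) (2 * m)) :=
  lin_mem_O _ _ (by
    have := (cond_gen (C0 R m) s).iso
    rwa [C0_map] at this)

theorem det_gl (s : Bool) : LinearMap.det (gl (R := R) (m := m) s : (Fin (2 * m) → Alg (C0 R m) s) →ₗ[_] _) = (gen (C0 R m) s).det :=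
  det_lin _ _ _ _

variable (R m)

theorem exists_delta (hm : m ≠ 0) : ∃ δ : Alg (C0 R m) false, IsIdempotentElem δ ∧
    cg (gl false) (gl_mem false) (eps (SplitForm.matClSplit (Alg (C0 R m) false) m)) =
      (1 - δ) • eps (SplitForm.matClSplit (Alg (C0 R m) false) m) +
        δ • (1 - eps (SplitForm.matClSplit (Alg (C0 R m) false) m)) ∧
    (gen (C0 R m) false).det = 1 - 2 * δ := by
  obtain ⟨δ, hδ, hδg⟩ := Dickson.exists_dickson (SplitForm.matClSplit _ m) hm _ (gl_mem (R := R) (m := m) false)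
  have hW := DetW.cg_evenFam _ m _ (gl_mem (R := R) (m := m) false)
  have hd := Dickson.det_eq (SplitForm.matClSplit _ m) hm _ (gl_mem (R := R) (m := m) false) (DetW.evenFam _ m).anti
    ⟨⟨_, _, (DetW.evenFam _ m).sq, (DetW.evenFam _ m).sq⟩, rfl⟩ hW hδg
  rw [det_gl] at hd
  exact ⟨δ, hδ, hδg, hd⟩

/-- the universal Dickson invariant -/
noncomputable def delta (hm : m ≠ 0) : Alg (C0 R m) false := (exists_delta R m hm).choose

theorem delta_idem (hm : m ≠ 0) : IsIdempotentElem (delta R m hm) := (exists_delta R m hm).choose_spec.1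

theorem cg_gl (hm : m ≠ 0) : cg (gl false) (gl_mem false) (eps (SplitForm.matClSplit (Alg (C0 R m) false) m)) =
      (1 - delta R m hm) • eps (SplitForm.matClSplit (Alg (C0 R m) false) m) +
        delta R m hm • (1 - eps (SplitForm.matClSplit (Alg (C0 R m) false) m)) := (exists_delta R m hm).choose_spec.2.1

theorem det_gen (hm : m ≠ 0) : (gen (C0 R m) false).det = 1 - 2 * delta R m hm := (exists_delta R m hm).choose_spec.2.2

/-- **the Dickson invariant of a reflection is one** -/
theorem map_delta_reflection (hm : m ≠ 0) {F : Type v} [CommRing F] (φ : Alg (C0 R m) false →+* F)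
    (v : Fin (2 * m) → F) (c : F) (hc : c * splitForm F (2 * m) v = 1)
    (hφ : (gen (C0 R m) false).map φ = mt (K918.Cliff.reflection v c hc)) : φ (delta R m hm) = 1 := by
  let _ : Algebra (Alg (C0 R m) false) F := φ.toAlgebra
  have hr : K918.Cliff.reflection v c hc ∈ O (splitForm F (2 * m)) := fun x =>
    K918.Cliff.reflection_isometry v c hc x
  have hcompat := (isBC_split (Alg (C0 R m) false) F (2 * m)).compat
  let E := SplitForm.matClSplit (Alg (C0 R m) false) m
  have h1 := cmap_cg hcompat (gl false) (gl_mem (R := R) (m := m) false) (K918.Cliff.reflection v c hc) hr (fun w => by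
    rw [← mt_mulVec (K918.Cliff.reflection v c hc), ← hφ]
    exact (DetW.coordMap_mulVec (gen (C0 R m) false) w).symm) (eps E)
  have h0 : cmap hcompat (eps E) ∈ CliffordAlgebra.evenOdd (splitForm F (2 * m)) 0 :=
    cmap_mem_evenOdd hcompat 0 (eps_mem E)
  have hodd : ∀ w : Fin (2 * m) → F, CliffordAlgebra.ι _ w * cmap hcompat (eps E) =
      (1 - cmap hcompat (eps E)) * CliffordAlgebra.ι _ w := by
    intro w
    refine forall_of_image (isBC_split (Alg (C0 R m) false) F (2 * m))
      (LinearMap.mulRight F (cmap hcompat (eps E)) ∘ₗ CliffordAlgebra.ι _)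
      (LinearMap.mulLeft F (1 - cmap hcompat (eps E)) ∘ₗ CliffordAlgebra.ι _) (fun u => ?_) w
    change CliffordAlgebra.ι _ (coordMap _ F _ u) * cmap hcompat (eps E) = (1 - cmap hcompat (eps E)) * CliffordAlgebra.ι _ (coordMap _ F _ u)
    rw [← cmap_ι hcompat, ← map_mul, ← map_one (cmap hcompat), ← map_sub, ← map_mul,
      odd_mul_eps E (CliffordAlgebra.ι_mem_evenOdd_one _ u)]
  have hidem : cmap hcompat (eps E) * cmap hcompat (eps E) = cmap hcompat (eps E) := by rw [← map_mul, eps_mul_self]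
  rw [cg_reflection_eps v c hc hr h0 (hodd v), cg_gl R m hm, map_add, map_smul, map_smul, map_sub, map_one] at h1
  set ε := cmap hcompat (eps E) with hε
  have hs : ∀ (t : Alg (C0 R m) false) (x : CliffordAlgebra (splitForm F (2 * m))), t • x = φ t • x := fun t x =>
    (algebraMap_smul F t x).symm
  rw [hs, hs, map_sub, map_one] at h1
  have h2 : (1 - φ (delta R m hm)) • (2 * ε - 1) = 0 := by
    rw [two_mul ε]
    have : (1 - φ (delta R m hm)) • (ε + ε - 1) = ((1 - φ (delta R m hm)) • ε + φ (delta R m hm) • (1 - ε)) - (1 - ε) := by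
      module
    rw [this, h1, sub_self]
  have h3 : (2 * ε - 1) * (2 * ε - 1) = 1 := by
    have : (2 * ε - 1) * (2 * ε - 1) = 4 * (ε * ε) - 4 * ε + 1 := by noncomm_ring
    rw [this, hidem, sub_self, zero_add]
  have h4 := congrArg (fun y => y * (2 * ε - 1)) h2
  simp only [smul_mul_assoc, h3, zero_mul] at h4
  rw [← Algebra.algebraMap_eq_smul_one] at h4
  have h5 := (injective_iff_map_eq_zero _).1 (Basic.algebraMap_injective (splitForm F (2 * m))) _ h4
  exact (sub_eq_zero.1 h5).symm

/-- forgetting that the determinant is one -/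
noncomputable def psi : Alg (C0 R m) false →ₐ[R] Alg (C0 R m) true :=
  Coord.lift (g := gen (C0 R m) true) (g' := geni (C0 R m) true)
    ⟨(cond_gen (C0 R m) true).mul_inv, (cond_gen (C0 R m) true).inv_mul, (cond_gen (C0 R m) true).iso, fun h => absurd h (by decide)⟩

theorem gen_map_psi : (gen (C0 R m) false).map (psi R m) = gen (C0 R m) true := gen_map_lift _

theorem two_psi_delta (hm : m ≠ 0) : 2 * psi R m (delta R m hm) = 0 := by
  have h1 : psi R m (gen (C0 R m) false).det = 1 := by
    have : psi R m (gen (C0 R m) false).det = ((gen (C0 R m) false).map (psi R m)).det := RingHom.map_det _ _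
    rw [this, gen_map_psi]
    exact (cond_gen (C0 R m) true).det rfl
  rw [det_gen R m hm, map_sub, map_one, map_mul, map_ofNat] at h1
  linear_combination -h1

/-- the special orthogonal coordinate algebra embeds in `C / 2 δ` -/
theorem exists_injective_abs {n : ℕ} {c : Matrix (Fin n) (Fin n) R} {C : Type u} [CommRing C] [Algebra R C]
    (g g' : Matrix (Fin n) (Fin n) C)
    (h1 : Cond (c.map (algebraMap R C)) false g g') (δ : C) (hd : g.det = 1 - 2 * δ) (ψ : C →ₐ[R] Alg c true)
    (hψ : g.map ψ = gen c true) (hψδ : ψ (2 * δ) = 0) :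
    ∃ f : Alg c true →ₐ[R] C ⧸ Ideal.span {2 * δ}, Function.Injective f := by
  let q : C →ₐ[R] C ⧸ Ideal.span {2 * δ} := Ideal.Quotient.mkₐ R (Ideal.span {2 * δ})
  have hc : Cond (c.map (algebraMap R (C ⧸ Ideal.span {2 * δ}))) true (g.map q) (g'.map q) := by
    have h1 := h1.map (Ideal.Quotient.mk (Ideal.span {2 * δ}))
    refine ⟨h1.mul_inv, h1.inv_mul, ?_, fun _ => ?_⟩
    · have h2 := h1.iso
      rw [Matrix.map_map] at h2
      exact h2
    · have h2 : (g.map q).det = q g.det := (RingHom.map_det q.toRingHom _).symm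
      rw [h2, hd, map_sub, map_one]
      have h3 : q (2 * δ) = 0 := Ideal.Quotient.eq_zero_iff_mem.2 (Ideal.mem_span_singleton_self _)
      rw [h3, sub_zero]
  let f := Coord.lift hc
  let k : (C ⧸ Ideal.span {2 * δ}) →ₐ[R] Alg c true :=
    Ideal.Quotient.liftₐ _ ψ fun a ha => by
      obtain ⟨t, rfl⟩ := Ideal.mem_span_singleton.1 ha
      rw [map_mul, hψδ, zero_mul]
  have hgf : k.comp f = AlgHom.id R _ := by
    refine algHom_ext ?_
    have h1 : (gen c true).map (k.comp f) = ((gen c true).map f).map k := by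
      rw [Matrix.map_map]; rfl
    rw [h1, gen_map_lift, Matrix.map_map]
    have h2 : g.map (k ∘ q) = g.map ψ := rfl
    rw [h2, hψ]
    ext i j
    rfl
  refine ⟨f, fun a b hab => ?_⟩
  have h3 : ∀ x, k (f x) = x := fun x => DFunLike.congr_fun hgf x
  rw [← h3 a, ← h3 b, hab]

/-- reducedness of the special orthogonal coordinate algebra -/
theorem isReduced_abs {n : ℕ} {c : Matrix (Fin n) (Fin n) ℤ} {C : Type} [CommRing C] [Algebra.Smooth ℤ C]
    (g g' : Matrix (Fin n) (Fin n) C)
    (h1 : Cond (c.map (algebraMap ℤ C)) false g g') (δ : C) (hδ : IsIdempotentElem δ) (hd : g.det = 1 - 2 * δ)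
    (ψ : C →+* Alg c true)
    (hψ : g.map ψ = gen c true) (hψδ : ψ (2 * δ) = 0) : IsReduced (Alg c true) := by
  have h := isReduced_quotient C hδ
  obtain ⟨f, hf⟩ := exists_injective_abs ℤ g g' h1 δ hd { ψ with commutes' := fun r => by simp } hψ hψδ
  exact isReduced_of_injective f hf

theorem exists_vec (hm : m ≠ 0) : ∃ v : Fin (2 * m) → R, splitForm R (2 * m) v = 1 := by
  refine ⟨Pi.single ⟨0, by omega⟩ 1 + Pi.single ⟨1, by omega⟩ 1, ?_⟩
  rw [SplitForm.even_apply, Finset.sum_eq_single ⟨0, by omega⟩]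
  · simp
  · rintro ⟨b, hb⟩ _ h
    have hb0 : b ≠ 0 := fun h0 => h (Fin.ext h0)
    have e1 : 2 * b ≠ 0 := by omega
    have e2 : 2 * b ≠ 1 := by omega
    simp [e1, e2]
  · intro h; exact absurd (Finset.mem_univ _) h

end Univ

section Main

variable (m : ℕ)

theorem smooth_false : @Algebra.Smooth ℤ _ (Alg (C0 ℤ m) false) _ (Ring.toIntAlgebra _) := by
  have h := Coord.smooth (C0 ℤ m) false (LiftEven.lifts_of_isUnit_det _ (isUnit_det_of_isRegular _ (isRegular_splitForm_even m)))
  convert h
  exact Subsingleton.elim _ _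

/-- **reducedness** -/
theorem isReduced (hm : m ≠ 0) : IsReduced (Alg (C0 ℤ m) true) := by
  have := smooth_false m
  have hc := cond_gen (C0 ℤ m) false
  rw [C0_map] at hc
  exact isReduced_abs (gen (C0 ℤ m) false) (geni (C0 ℤ m) false) (by rw [C0_map]; exact hc) (delta ℤ m hm)
    (delta_idem ℤ m hm) (det_gen ℤ m hm) (psi ℤ m).toRingHom (gen_map_psi ℤ m)
    ((map_mul (psi ℤ m) _ _).trans ((congrArg (fun t => t * _) (map_ofNat (psi ℤ m) 2)).trans (two_psi_delta ℤ m hm)))

/-- **non-flatness** -/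
theorem not_flat (hm : m ≠ 0) : ¬ Module.Flat ℤ (Alg (C0 ℤ m) true) := by
  intro hfl
  have h0 : psi ℤ m (delta ℤ m hm) = 0 := by
    refine DetW.eq_of_natCast_zsmul (T := Alg (C0 ℤ m) true) (N := Alg (C0 ℤ m) true) (k := 2) (by norm_num) ?_
    rw [smul_zero, zsmul_eq_mul]
    exact_mod_cast two_psi_delta ℤ m hm
  obtain ⟨v, hv⟩ := exists_vec (ZMod 2) m hm
  let σ := K918.Cliff.reflection (Q := splitForm (ZMod 2) (2 * m)) v 1 (by rw [one_mul, hv])
  have hσ : σ ∈ O (splitForm (ZMod 2) (2 * m)) := fun x => K918.Cliff.reflection_isometry v 1 _ x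
  have hdet : (mt σ).det = 1 := by
    have h1 : (mt σ).det * (mt σ.symm).det = 1 := by rw [← Matrix.det_mul, mt_mul_mt_symm, Matrix.det_one]
    have h2 : ∀ a b : ZMod 2, a * b = 1 → a = 1 := by decide
    exact h2 _ _ h1
  have hc : Cond ((C0 ℤ m).map (algebraMap ℤ (ZMod 2))) true (mt σ) (mt σ.symm) := by
    rw [C0_map]
    exact ⟨(cond_mt hσ).mul_inv, (cond_mt hσ).inv_mul, (cond_mt hσ).iso, fun _ => hdet⟩
  have h1 := map_delta_reflection ℤ m hm ((Coord.lift hc).comp (psi ℤ m)).toRingHom v 1 (by rw [one_mul, hv]) (by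
    change (gen (C0 ℤ m) false).map (Coord.lift hc ∘ psi ℤ m) = _
    rw [← Matrix.map_map, gen_map_psi, gen_map_lift])
  change Coord.lift hc (psi ℤ m (delta ℤ m hm)) = 1 at h1
  rw [h0, map_zero] at h1
  exact absurd h1 (by decide)

theorem main (hm : 1 ≤ m) (G : Over (Spec (CommRingCat.of ℤ))) [GrpObj G]
    (D : QuadGrp.SOrth'Rep (QuadGrp.splitForm ℤ (2 * m)) G) :
    AlgebraicGeometry.IsReduced G.left ∧ ¬ AlgebraicGeometry.Flat G.hom := by
  obtain ⟨i⟩ := RepC.exists_iso D _ _ (CoordRep.isUniv_SO (splitForm ℤ (2 * m)))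
  have e1 : G.hom = i.inv.left ≫ (specOver ℤ (Alg (C0 ℤ m) true)).hom := (Over.w i.inv).symm
  have e2 : (specOver ℤ (Alg (C0 ℤ m) true)).hom = i.hom.left ≫ G.hom := (Over.w i.hom).symm
  have i1 : IsIso i.hom.left := inferInstanceAs (IsIso ((Over.forget _).map i.hom))
  have i2 : IsIso i.inv.left := inferInstanceAs (IsIso ((Over.forget _).map i.inv))
  constructor
  · have := isReduced m (by omega)
    have h1 : AlgebraicGeometry.IsReduced (specOver ℤ (Alg (C0 ℤ m) true)).left :=
      inferInstanceAs (AlgebraicGeometry.IsReduced (Spec (CommRingCat.of (Alg (C0 ℤ m) true))))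
    exact isReduced_of_isOpenImmersion i.inv.left
  · intro h
    refine not_flat m (by omega) ?_
    have h1 : AlgebraicGeometry.Flat (specOver ℤ (Alg (C0 ℤ m) true)).hom := by
      rw [e2]
      infer_instance
    change AlgebraicGeometry.Flat (Spec.map (CommRingCat.ofHom (algebraMap ℤ (Alg (C0 ℤ m) true)))) at h1
    rw [HasRingHomProperty.Spec_iff (P := @AlgebraicGeometry.Flat), CommRingCat.hom_ofHom, RingHom.flat_algebraMap_iff] at h1
    exact h1

end Main

end K916.NaiveZ
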