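import Groth.Agent.QuadGrp.K916.Conn
import Groth.Agent.QuadGrp.K916.NaiveZ
import Groth.Agent.QuadGrp.K917.Semireg
import Mathlib.LinearAlgebra.Transvection.Basic

/-!
# Connectedness of the fibres of the special orthogonal group
-/

set_option autoImplicit false

universe u v

open TensorProduct QuadGrp QuadraticMap K918.Cliff CliffordAlgebra

namespace K916.ConnSO

open Refl Conn Dickson

section Pair

variable {R : Type u} [CommRing R] {M : Type v} [AddCommGroup M] [Module R M] {Q : QuadraticForm R M}

/-- a product of two reflections acts trivially on the centre of the even part -/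
theorem isDicksonTrivial_pair (v w : M) (c d : R) (hc : c * Q v = 1) (hd : d * Q w = 1)
    (hg : reflection v c hc * reflection w d hd ∈ O Q) : IsDicksonTrivial Q (reflection v c hc * reflection w d hd) hg := by
  intro z hz
  have hv : reflection v c hc ∈ O Q := fun x => reflection_isometry v c hc x
  have hw : reflection w d hd ∈ O Q := fun x => reflection_isometry w d hd x
  have h1 : CliffordAlgebra.map (isometryOfMem Q _ hg) (z : CliffordAlgebra Q) =
      cg (reflection v c hc) hv (cg (reflection w d hd) hw z) := (cg_cg _ _ hv hw _).symm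
  rw [h1]
  have hz0 : (z : CliffordAlgebra Q) ∈ evenOdd Q 0 := z.2
  have h2 := NaiveZ.cg_reflection_mul w d hd hw (z : CliffordAlgebra Q)
  rw [involute_eq_of_mem_even hz0] at h2
  have h3 := NaiveZ.cg_reflection_mul v c hc hv (cg (reflection w d hd) hw z)
  rw [involute_eq_of_mem_even (cg_mem _ hw hz0)] at h3
  have hvw : ι Q v * ι Q w ∈ evenOdd Q 0 := by
    have := SetLike.mul_mem_graded (ι_mem_evenOdd_one Q v) (ι_mem_evenOdd_one Q w)
    exact this
  have hcomm : (z : CliffordAlgebra Q) * (ι Q v * ι Q w) = (ι Q v * ι Q w) * z := by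
    rw [Subalgebra.mem_center_iff] at hz
    exact (congrArg Subtype.val (hz ⟨_, hvw⟩)).symm
  have h4 : cg (reflection v c hc) hv (cg (reflection w d hd) hw z) * (ι Q v * ι Q w) = z * (ι Q v * ι Q w) := by
    rw [← mul_assoc, h3, mul_assoc, h2, ← mul_assoc, hcomm]
  have h5 : (ι Q v * ι Q w) * ((d • ι Q w) * (c • ι Q v)) = 1 := by
    have e1 : ι Q w * (d • ι Q w) = 1 := by
      rw [mul_smul_comm, ι_sq_scalar, Algebra.smul_def, ← map_mul, hd, map_one]
    have e2 : ι Q v * (c • ι Q v) = 1 := by
      rw [mul_smul_comm, ι_sq_scalar, Algebra.smul_def, ← map_mul, hc, map_one]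
    rw [mul_assoc, ← mul_assoc (ι Q w), e1, one_mul, e2]
  have h6 := congrArg (fun y => y * ((d • ι Q w) * (c • ι Q v))) h4
  simp only [mul_assoc] at h6 h5
  rw [h5, mul_one, mul_one] at h6
  exact h6

/-- the determinant of a reflection -/
theorem det_reflection [Module.Free R M] [Module.Finite R M] (v : M) (c : R) (hc : c * Q v = 1) :
    LinearMap.det (reflection v c hc : M →ₗ[R] M) = -1 := by
  have h1 : (reflection v c hc : M →ₗ[R] M) = LinearMap.transvection (polarBilin Q v) (-(c • v)) := by
    ext x
    rw [LinearMap.transvection.apply]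
    change reflection v c hc x = _
    rw [reflection_apply, smul_neg, sub_eq_add_neg]
    rfl
  rw [h1, LinearMap.transvection.det]
  change 1 + polar Q v (-(c • v)) = -1
  rw [polar_neg_right, polar_smul_right, polar_self_mul, smul_eq_mul]
  linear_combination (-2) * hc

theorem pair_mem_SO [Module.Free R M] [Module.Finite R M] (v w : M) (c d : R) (hc : c * Q v = 1) (hd : d * Q w = 1) :
    reflection v c hc * reflection w d hd ∈ SO Q := by
  have hO : reflection v c hc * reflection w d hd ∈ O Q :=
    (O Q).mul_mem (fun x => reflection_isometry v c hc x) (fun x => reflection_isometry w d hd x)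
  rw [SO]
  split_ifs with h
  · exact ⟨hO, isDicksonTrivial_pair v w c d hc hd hO⟩
  · refine ⟨hO, MonoidHom.mem_ker.2 ?_⟩
    rw [map_mul]
    apply Units.ext
    rw [Units.val_mul, LinearEquiv.coe_det, LinearEquiv.coe_det, det_reflection, det_reflection]
    norm_num

end Pair

section Gen

variable {K : Type u} [Field K] [Infinite K] {M : Type u} [AddCommGroup M] [Module K M] {Q : QuadraticForm K M}

/-- **the special orthogonal group is generated by pairs of reflections** -/
theorem SO_le [FiniteDimensional K M] {n : ℕ} (hn : n ≠ 0) (e : Q.IsometryEquiv (splitForm K n)) : SO Q ≤ H2 Q := by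
  have hfr : Module.finrank K M = n := by
    rw [e.toLinearEquiv.finrank_eq, Module.finrank_fin_fun]
  intro g hg
  have hgO : g ∈ O Q := by
    rw [SO] at hg
    split_ifs at hg with h
    · exact hg.1
    · exact hg.1
  rcases mem_or (Refl.congr e.symm (split_le K n) hgO) with h | h
  · exact h
  · have hle : H2 Q ≤ SO Q := by
      rw [H2, Subgroup.closure_le]
      rintro _ ⟨v, w, c, d, hc, hd, rfl⟩
      exact pair_mem_SO v w c d hc hd
    have hall : ∀ (v : M) (c : K) (hc : c * Q v = 1), reflection v c hc ∈ SO Q := by
      intro v c hc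
      have h1 := (SO Q).mul_mem (hle (h v c hc)) ((SO Q).inv_mem hg)
      rwa [mul_inv_cancel_right] at h1
    rcases Nat.even_or_odd' n with ⟨m, rfl | rfl⟩
    · exfalso
      have hm : m ≠ 0 := by rintro rfl; exact hn rfl
      obtain ⟨v, hv⟩ := NaiveZ.exists_vec K m hm
      have hv' : 1 * Q (e.symm v) = 1 := by rw [one_mul, e.symm.map_app, hv]
      have h1 := hall _ _ hv'
      rw [SO, if_pos (by rw [hfr]; exact even_two_mul m)] at h1
      obtain ⟨hO, hD⟩ := h1
      let E := (SplitForm.matClSplit K m).congr e.symm
      rw [isDicksonTrivial_iff E] at hD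
      have h2 := NaiveZ.cg_reflection_eps (e.symm v) 1 hv' hO (Center.eps_mem E)
        (Center.odd_mul_eps E (ι_mem_evenOdd_one Q _))
      rw [hD] at h2
      have h3 : (1 : K) • Center.eps E + (0 : K) • (1 - Center.eps E) = (0 : K) • Center.eps E + (1 : K) • (1 - Center.eps E) := by
        rw [one_smul, zero_smul, zero_smul, one_smul, add_zero, zero_add]
        exact h2
      exact one_ne_zero (Center.lin_injective E hm h3).1
    · by_cases h2 : (2 : K) = 0
      · have hv : 1 * splitForm K (2 * m + 1) (Pi.single 0 1) = 1 := by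
          rw [SplitForm.odd_apply]
          simp
        have hv' : 1 * Q (e.symm (Pi.single 0 1)) = 1 := by rw [e.symm.map_app, hv]
        have hpol : ∀ x, polar (splitForm K (2 * m + 1)) (Pi.single 0 1) x = 0 := by
          intro x
          rw [polar, SplitForm.odd_apply, SplitForm.odd_apply, SplitForm.odd_apply]
          simp only [Pi.add_apply]
          have e1 : ∀ i : Fin m, (Pi.single (M := fun _ => K) (0 : Fin (2 * m + 1)) (1 : K)) ⟨2 * i + 1, by omega⟩ = 0 := fun i =>
            Pi.single_eq_of_ne (by intro h; have := congrArg Fin.val h; simp at this) _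
          have e2 : ∀ i : Fin m, (Pi.single (M := fun _ => K) (0 : Fin (2 * m + 1)) (1 : K)) ⟨2 * i + 2, by omega⟩ = 0 := fun i =>
            Pi.single_eq_of_ne (by intro h; have := congrArg Fin.val h; simp at this) _
          simp only [e1, e2, zero_add, mul_zero, Finset.sum_const_zero, Pi.single_eq_same]
          linear_combination x 0 * h2
        have h3 := h _ _ hv'
        have h4 : reflection (e.symm (Pi.single 0 1)) 1 hv' = 1 := by
          ext1 x
          refine reflection_of_polar hv' ?_
          have hp : polar Q (e.symm (Pi.single 0 1)) x = polar (splitForm K (2 * m + 1)) (Pi.single 0 1) (e x) := by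
            have : ∀ y z, polar Q (e.symm y) (e.symm z) = polar (splitForm K (2 * m + 1)) y z := by
              intro y z
              rw [polar, ← map_add, e.symm.map_app, e.symm.map_app, e.symm.map_app]
              rfl
            rw [← this]
            congr 1
            exact (e.toLinearEquiv.symm_apply_apply x).symm
          rw [hp, hpol]
        rwa [h4, one_mul] at h3
      · exfalso
        have hv : 1 * splitForm K (2 * m + 1) (Pi.single 0 1) = 1 := by
          rw [SplitForm.odd_apply]
          simp
        have hv' : 1 * Q (e.symm (Pi.single 0 1)) = 1 := by rw [e.symm.map_app, hv]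
        have h1 := hall _ _ hv'
        rw [SO, if_neg (by rw [hfr, Nat.not_even_iff_odd]; exact odd_two_mul_add_one m)] at h1
        have h3 := congrArg Units.val (MonoidHom.mem_ker.1 h1.2)
        rw [LinearEquiv.coe_det, det_reflection, Units.val_one] at h3
        exact h2 (by linear_combination -h3)

end Gen

section Fiber

open CategoryTheory AlgebraicGeometry

variable {R : Type u} [CommRing R] {M : Type u} [AddCommGroup M] [Module R M] [Module.Free R M] {n : ℕ}
  (b : Module.Basis (Fin n) R M) {Q : QuadraticForm R M}

include b in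
/-- a non-degenerate form splits over algebraically closed fields -/
theorem exists_isometry (hQ : IsNondeg b (LinearEquiv.refl R R) Q) (K : Type u) [Field K] [IsAlgClosed K] [Algebra R K] :
    Nonempty ((baseChangeForm K Q).IsometryEquiv (splitForm K n)) := by
  obtain ⟨X, hX, hXc⟩ := K917.Cover.exists_matrix_algClosed (algebraMap R K ∘ K917.Cover.cfb b Q)
    (fun v => K917.Cover.geomRad_of_isNondeg b Q hQ K (algebraMap R K) v)
  obtain ⟨c, hc, -⟩ := K917.Cover.exists_isSplitBasis_of_matrix (b.baseChange K) (baseChangeForm K Q) X hX (by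
    rw [K917.Cover.cfb, K917.Base.coeffs_baseChangeForm]; exact hXc)
  exact ⟨hc.isometryEquiv⟩

include b in
/-- **connectedness of the geometric fibres of the special orthogonal group** -/
theorem connectedSpace_tensor (hn : n ≠ 0) (hQ : IsNondeg b (LinearEquiv.refl R R) Q) {C : Type u} [CommRing C] [Algebra R C]
    [Algebra.FiniteType R C] (P : Pts (fun A _ _ => sorth Q A) C) (K : Type u) [Field K] [IsAlgClosed K] [Algebra R K] :
    ConnectedSpace (PrimeSpectrum (K ⊗[R] C)) := by
  have := Module.Finite.of_basis b
  have := IsAlgClosed.instInfinite (K := K)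
  obtain ⟨e⟩ := exists_isometry b hQ K
  exact Conn.connectedSpace P (fun A _ _ _ v w c d hc hd => pair_mem_SO v w c d hc hd) (SO_le hn e)

include b in
/-- **connectedness of the fibres of the special orthogonal group** -/
theorem fiber_connected (hn : n ≠ 0) (hQ : IsNondeg b (LinearEquiv.refl R R) Q) {C : Type u} [CommRing C] [Algebra R C]
    [Algebra.FiniteType R C] {G : Over (Spec (CommRingCat.of R))} [GrpObj G] (D : SOrthRep Q G) (γ : ↥(sorth Q C))
    (hγ : RepC.IsUniv (fun A _ _ => sorth Q A) C γ) (s : ↥(Spec (CommRingCat.of R))) : ConnectedSpace ↥(G.hom.fiber s) := by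
  obtain ⟨i⟩ := RepC.exists_iso D C γ hγ
  exact ConnTop.fiber_connected D γ hγ (fun K _ _ _ => connectedSpace_tensor b hn hQ (Pts.ofRep D i) K) s

end Fiber

end K916.ConnSO
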