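import Groth.Agent.QuadGrp.K916.RepC
import Mathlib.AlgebraicGeometry.Geometrically.Connected
import Mathlib.RingTheory.Jacobson.Ring
import Mathlib.FieldTheory.IsAlgClosed.AlgebraicClosure
import Mathlib.RingTheory.Flat.FaithfullyFlat.Algebra
import Mathlib.RingTheory.Spectrum.Prime.Topology

/-!
# Connected spectra through points
-/

set_option autoImplicit false

universe u v

open CategoryTheory AlgebraicGeometry TensorProduct

namespace K916.ConnTop

section Points

variable {K : Type u} [Field K] [IsAlgClosed K] {B : Type v} [CommRing B] [Algebra K B] [Algebra.FiniteType K B]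

/-- every maximal ideal is the kernel of a point -/
theorem exists_point (m : Ideal B) [hm : m.IsMaximal] : ∃ b : B →ₐ[K] K, ∀ x, b x = 0 → x ∈ m := by
  let _ : Field (B ⧸ m) := Ideal.Quotient.field m
  have : Module.Finite K (B ⧸ m) := finite_of_finite_type_of_isJacobsonRing K (B ⧸ m)
  have hb : Function.Bijective (algebraMap K (B ⧸ m)) := IsAlgClosed.algebraMap_bijective_of_isIntegral
  let e : K ≃ₐ[K] (B ⧸ m) := AlgEquiv.ofBijective (Algebra.ofId K (B ⧸ m)) hb
  refine ⟨(e.symm : (B ⧸ m) →ₐ[K] K).comp (Ideal.Quotient.mkₐ K m), fun x hx => ?_⟩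
  have h1 : e.symm (Ideal.Quotient.mk m x) = 0 := hx
  have h2 := (map_eq_zero_iff e.symm e.symm.injective).1 h1
  exact Ideal.Quotient.eq_zero_iff_mem.1 h2

/-- an idempotent vanishing at all points is zero -/
theorem eq_zero_of_forall {e : B} (he : IsIdempotentElem e) (h : ∀ b : B →ₐ[K] K, b e = 0) : e = 0 := by
  by_contra hne
  have h1 : ¬ IsUnit (1 - e) := by
    intro hu
    apply hne
    have : (1 - e) * e = 0 := by rw [sub_mul, one_mul, he.eq, sub_self]
    exact (hu.mul_right_eq_zero).1 this
  obtain ⟨m, hm, hmem⟩ := exists_max_ideal_of_mem_nonunits h1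
  obtain ⟨b, hb⟩ := exists_point (K := K) m
  have h2 : e ∈ m := hb e (h b)
  exact hm.ne_top ((Ideal.eq_top_iff_one m).2 (by simpa using m.add_mem hmem h2))

/-- connectedness through points -/
theorem connectedSpace (b0 : B →ₐ[K] K) (h : ∀ e : B, IsIdempotentElem e → ∀ b : B →ₐ[K] K, b e = b0 e) :
    ConnectedSpace (PrimeSpectrum B) := by
  have hB : Nontrivial B := b0.toRingHom.domain_nontrivial
  have hp : PreconnectedSpace (PrimeSpectrum B) := by
    rw [preconnectedSpace_iff_clopen]
    intro s hs
    obtain ⟨e, he, rfl⟩ := PrimeSpectrum.isClopen_iff.1 hs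
    have h0 : b0 e = 0 ∨ b0 e = 1 := by
      have h1 : b0 e * b0 e = b0 e := by rw [← map_mul, he.eq]
      rcases eq_or_ne (b0 e) 0 with h2 | h2
      · exact Or.inl h2
      · exact Or.inr (mul_left_cancel₀ h2 (by rw [h1, mul_one]))
    rcases h0 with h0 | h0
    · left
      have h1 : e = 0 := eq_zero_of_forall (K := K) he fun b => by rw [h e he b, h0]
      rw [h1, PrimeSpectrum.basicOpen_zero]
      rfl
    · right
      have h1 : 1 - e = 0 := eq_zero_of_forall (K := K) he.one_sub fun b => by rw [map_sub, map_one, h e he b, h0, sub_self]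
      rw [← sub_eq_zero.1 h1, PrimeSpectrum.basicOpen_one]
      rfl
  exact { toPreconnectedSpace := hp, toNonempty := inferInstance }

end Points

section Geom

variable {R : Type u} [CommRing R] {C : Type u} [CommRing C] [Algebra R C]

/-- geometric connectedness of the spectrum from algebraically closed fields -/
theorem geometricallyConnected (h : ∀ (K : Type u) [Field K] [IsAlgClosed K] [Algebra R K],
    ConnectedSpace (PrimeSpectrum (K ⊗[R] C))) :
    GeometricallyConnected (Spec.map (CommRingCat.ofHom (algebraMap R C))) := by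
  rw [geometricallyConnected_iff, geometrically_iff_of_commRing_of_isClosedUnderIsomorphisms]
  intro L _ _
  let K := AlgebraicClosure L
  have hK := h K
  let e1 : (L ⊗[R] C) ⊗[L] K ≃+* K ⊗[R] C :=
    (Algebra.TensorProduct.comm L (L ⊗[R] C) K).toRingEquiv.trans
      (Algebra.TensorProduct.cancelBaseChange R L L K C).toRingEquiv
  have h1 : ConnectedSpace (PrimeSpectrum ((L ⊗[R] C) ⊗[L] K)) :=
    (PrimeSpectrum.homeomorphOfRingEquiv e1).symm.surjective.connectedSpace (PrimeSpectrum.homeomorphOfRingEquiv e1).symm.continuous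
  have hL : ConnectedSpace (PrimeSpectrum (L ⊗[R] C)) :=
    (PrimeSpectrum.comap_surjective_of_faithfullyFlat (A := L ⊗[R] C) (B := (L ⊗[R] C) ⊗[L] K)).connectedSpace
      (PrimeSpectrum.continuous_comap _)
  let e2 : L ⊗[R] C ≃+* C ⊗[R] L := (Algebra.TensorProduct.comm R L C).toRingEquiv
  have hL' : ConnectedSpace (PrimeSpectrum (C ⊗[R] L)) :=
    (PrimeSpectrum.homeomorphOfRingEquiv e2).surjective.connectedSpace (PrimeSpectrum.homeomorphOfRingEquiv e2).continuous
  have hS : ConnectedSpace ↥(Spec (CommRingCat.of (C ⊗[R] L))) := hL'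
  exact (pullbackSpecIso R C L).inv.homeomorph.surjective.connectedSpace (pullbackSpecIso R C L).inv.continuous

open QuadGrp in
/-- connectedness of the fibres of a group scheme given by a universal algebra -/
theorem fiber_connected {M : Type u} [AddCommGroup M] [Module R M]
    {S : ∀ (A : Type u) [CommRing A] [Algebra R A], Subgroup ((A ⊗[R] M) ≃ₗ[A] (A ⊗[R] M))}
    {G : Over (Spec (CommRingCat.of R))} [GrpObj G] (D : LinRep R M S G) (γ : ↥(S C)) (hγ : RepC.IsUniv S C γ)
    (h : ∀ (K : Type u) [Field K] [IsAlgClosed K] [Algebra R K], ConnectedSpace (PrimeSpectrum (K ⊗[R] C)))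
    (s : ↥(Spec (CommRingCat.of R))) : ConnectedSpace ↥(G.hom.fiber s) := by
  obtain ⟨i⟩ := RepC.exists_iso D C γ hγ
  have hC := geometricallyConnected h
  have e1 : G.hom = i.inv.left ≫ (specOver R C).hom := (Over.w i.inv).symm
  have i2 : IsIso i.inv.left := inferInstanceAs (IsIso ((Over.forget _).map i.inv))
  have : MorphismProperty.RespectsIso @GeometricallyConnected := MorphismProperty.IsStableUnderBaseChange.respectsIso
  have hG : GeometricallyConnected G.hom := by
    rw [e1]
    exact (MorphismProperty.cancel_left_of_respectsIso @GeometricallyConnected i.inv.left (specOver R C).hom).2 hC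
  infer_instance

end Geom

end K916.ConnTop
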