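import Mathlib.RingTheory.FinitePresentation
import Mathlib.RingTheory.Smooth.Flat
import Mathlib.LinearAlgebra.Matrix.Determinant.Basic
import Mathlib.LinearAlgebra.Matrix.NonsingularInverse
import Mathlib.RingTheory.Noetherian.Basic

/-!
# The coordinate algebra of the orthogonal group of a form given by a matrix

`Alg c s` is the finitely presented `R`-algebra of invertible matrices `g` with `gᵀ c g - c` alternating, and of
determinant one when `s = true`.
-/

set_option autoImplicit false

universe u v

open Matrix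

namespace K916.Coord

/-- `gᵀ c g - c` is alternating: `g` preserves the quadratic form `x ↦ xᵀ c x`. -/
def IsIso {A : Type v} [CommRing A] {n : ℕ} (c g : Matrix (Fin n) (Fin n) A) : Prop :=
  (∀ i, (gᵀ * c * g) i i = c i i) ∧ ∀ i j, (gᵀ * c * g) i j + (gᵀ * c * g) j i = c i j + c j i

theorem IsIso.map {A B : Type*} [CommRing A] [CommRing B] {n : ℕ} {c g : Matrix (Fin n) (Fin n) A} (h : IsIso c g)
    (f : A →+* B) : IsIso (c.map f) (g.map f) := by
  have h1 : (g.map f)ᵀ * c.map f * g.map f = (gᵀ * c * g).map f := by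
    rw [Matrix.map_mul, Matrix.map_mul, Matrix.transpose_map]
  constructor
  · intro i
    rw [h1, Matrix.map_apply, Matrix.map_apply, h.1]
  · intro i j
    rw [h1, Matrix.map_apply, Matrix.map_apply, Matrix.map_apply, Matrix.map_apply, ← map_add, ← map_add, h.2]

/-- the conditions defining the points of the coordinate algebra -/
structure Cond {A : Type v} [CommRing A] {n : ℕ} (c : Matrix (Fin n) (Fin n) A) (s : Bool)
    (g g' : Matrix (Fin n) (Fin n) A) : Prop where
  mul_inv : g * g' = 1
  inv_mul : g' * g = 1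
  iso : IsIso c g
  det : s = true → g.det = 1

theorem Cond.map {A B : Type*} [CommRing A] [CommRing B] {n : ℕ} {c g g' : Matrix (Fin n) (Fin n) A} {s : Bool}
    (h : Cond c s g g') (f : A →+* B) : Cond (c.map f) s (g.map f) (g'.map f) where
  mul_inv := by rw [← Matrix.map_mul, h.mul_inv, Matrix.map_one _ (map_zero f) (map_one f)]
  inv_mul := by rw [← Matrix.map_mul, h.inv_mul, Matrix.map_one _ (map_zero f) (map_one f)]
  iso := h.iso.map f
  det hs := by
    have := RingHom.map_det f g
    rw [h.det hs, map_one] at this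
    exact this.symm

variable {R : Type u} [CommRing R] {n : ℕ}

/-- the polynomial ring in the entries of two matrices -/
abbrev Pol (R : Type u) [CommRing R] (n : ℕ) : Type u := MvPolynomial (Bool × Fin n × Fin n) R

/-- the generic matrix -/
noncomputable def gX (R : Type u) [CommRing R] (n : ℕ) : Matrix (Fin n) (Fin n) (Pol R n) :=
  Matrix.of fun i j => MvPolynomial.X (true, i, j)

/-- the generic inverse matrix -/
noncomputable def gY (R : Type u) [CommRing R] (n : ℕ) : Matrix (Fin n) (Fin n) (Pol R n) :=
  Matrix.of fun i j => MvPolynomial.X (false, i, j)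

/-- the index type of the relations -/
abbrev RelIdx (n : ℕ) : Type := (Fin n × Fin n) ⊕ (Fin n × Fin n) ⊕ Fin n ⊕ (Fin n × Fin n) ⊕ Unit

/-- the relations -/
noncomputable def rel (c : Matrix (Fin n) (Fin n) R) (s : Bool) : RelIdx n → Pol R n
  | .inl p => (gX R n * gY R n - 1) p.1 p.2
  | .inr (.inl p) => (gY R n * gX R n - 1) p.1 p.2
  | .inr (.inr (.inl i)) => ((gX R n)ᵀ * c.map (algebraMap R (Pol R n)) * gX R n) i i - (c.map (algebraMap R (Pol R n))) i i
  | .inr (.inr (.inr (.inl p))) =>
      ((gX R n)ᵀ * c.map (algebraMap R (Pol R n)) * gX R n) p.1 p.2 +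
        ((gX R n)ᵀ * c.map (algebraMap R (Pol R n)) * gX R n) p.2 p.1 -
        ((c.map (algebraMap R (Pol R n))) p.1 p.2 + (c.map (algebraMap R (Pol R n))) p.2 p.1)
  | .inr (.inr (.inr (.inr _))) => if s then (gX R n).det - 1 else 0

/-- the coordinate algebra -/
abbrev Alg (c : Matrix (Fin n) (Fin n) R) (s : Bool) : Type u := Pol R n ⧸ Ideal.span (Set.range (rel c s))

theorem finitePresentation (c : Matrix (Fin n) (Fin n) R) (s : Bool) : Algebra.FinitePresentation R (Alg c s) := by
  refine Algebra.FinitePresentation.quotient ?_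
  exact ⟨(Set.finite_range (rel c s)).toFinset, by rw [Set.Finite.coe_toFinset]⟩

/-- the universal isometry -/
noncomputable def gen (c : Matrix (Fin n) (Fin n) R) (s : Bool) : Matrix (Fin n) (Fin n) (Alg c s) :=
  (gX R n).map (Ideal.Quotient.mk _)

/-- the inverse of the universal isometry -/
noncomputable def geni (c : Matrix (Fin n) (Fin n) R) (s : Bool) : Matrix (Fin n) (Fin n) (Alg c s) :=
  (gY R n).map (Ideal.Quotient.mk _)

theorem cond_of_rel {A : Type*} [CommRing A] (φ : Pol R n →+* A) (c : Matrix (Fin n) (Fin n) R) (s : Bool)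
    (h : ∀ i, φ (rel c s i) = 0) :
    Cond (c.map (φ.comp (algebraMap R (Pol R n)))) s ((gX R n).map φ) ((gY R n).map φ) where
  mul_inv := by
    ext i j
    have := h (.inl (i, j))
    change φ ((gX R n * gY R n - 1) i j) = 0 at this
    rw [Matrix.sub_apply, map_sub, sub_eq_zero] at this
    rw [← Matrix.map_mul, Matrix.map_apply, this]
    by_cases hij : i = j
    · subst hij; simp
    · simp [Matrix.one_apply_ne hij]
  inv_mul := by
    ext i j
    have := h (.inr (.inl (i, j)))
    change φ ((gY R n * gX R n - 1) i j) = 0 at this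
    rw [Matrix.sub_apply, map_sub, sub_eq_zero] at this
    rw [← Matrix.map_mul, Matrix.map_apply, this]
    by_cases hij : i = j
    · subst hij; simp
    · simp [Matrix.one_apply_ne hij]
  iso := by
    have h1 : ((gX R n).map φ)ᵀ * c.map (φ.comp (algebraMap R (Pol R n))) * (gX R n).map φ =
        ((gX R n)ᵀ * c.map (algebraMap R (Pol R n)) * gX R n).map φ := by
      rw [Matrix.map_mul, Matrix.map_mul, Matrix.transpose_map, Matrix.map_map]
      rfl
    refine ⟨fun i => ?_, fun i j => ?_⟩
    · have := h (.inr (.inr (.inl i)))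
      change φ (((gX R n)ᵀ * c.map (algebraMap R (Pol R n)) * gX R n) i i - (c.map (algebraMap R (Pol R n))) i i) = 0
        at this
      rw [map_sub, sub_eq_zero] at this
      rw [h1, Matrix.map_apply, this]
      rfl
    · have := h (.inr (.inr (.inr (.inl (i, j)))))
      change φ (((gX R n)ᵀ * c.map (algebraMap R (Pol R n)) * gX R n) i j +
        ((gX R n)ᵀ * c.map (algebraMap R (Pol R n)) * gX R n) j i -
        ((c.map (algebraMap R (Pol R n))) i j + (c.map (algebraMap R (Pol R n))) j i)) = 0 at this
      rw [map_sub, sub_eq_zero, map_add, map_add] at this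
      rw [h1, Matrix.map_apply, Matrix.map_apply, this]
      rfl
  det hs := by
    have := h (.inr (.inr (.inr (.inr ()))))
    change φ (if s then (gX R n).det - 1 else 0) = 0 at this
    rw [if_pos hs, map_sub, sub_eq_zero, map_one, RingHom.map_det] at this
    exact this

theorem rel_of_cond {A : Type*} [CommRing A] (φ : Pol R n →+* A) (c : Matrix (Fin n) (Fin n) R) (s : Bool)
    (h : Cond (c.map (φ.comp (algebraMap R (Pol R n)))) s ((gX R n).map φ) ((gY R n).map φ)) (i : RelIdx n) :
    φ (rel c s i) = 0 := by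
  have h1 : ((gX R n).map φ)ᵀ * c.map (φ.comp (algebraMap R (Pol R n))) * (gX R n).map φ =
      ((gX R n)ᵀ * c.map (algebraMap R (Pol R n)) * gX R n).map φ := by
    rw [Matrix.map_mul, Matrix.map_mul, Matrix.transpose_map, Matrix.map_map]
    rfl
  rcases i with ⟨i, j⟩ | ⟨i, j⟩ | i | ⟨i, j⟩ | i
  · change φ ((gX R n * gY R n - 1) i j) = 0
    have := congrFun (congrFun h.mul_inv i) j
    rw [← Matrix.map_mul, Matrix.map_apply] at this
    rw [Matrix.sub_apply, map_sub, this, sub_eq_zero]
    by_cases hij : i = j
    · subst hij; simp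
    · simp [Matrix.one_apply_ne hij]
  · change φ ((gY R n * gX R n - 1) i j) = 0
    have := congrFun (congrFun h.inv_mul i) j
    rw [← Matrix.map_mul, Matrix.map_apply] at this
    rw [Matrix.sub_apply, map_sub, this, sub_eq_zero]
    by_cases hij : i = j
    · subst hij; simp
    · simp [Matrix.one_apply_ne hij]
  · change φ (((gX R n)ᵀ * c.map (algebraMap R (Pol R n)) * gX R n) i i - (c.map (algebraMap R (Pol R n))) i i) = 0
    have := h.iso.1 i
    rw [h1, Matrix.map_apply] at this
    rw [map_sub, this, sub_eq_zero]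
    rfl
  · change φ (((gX R n)ᵀ * c.map (algebraMap R (Pol R n)) * gX R n) i j +
        ((gX R n)ᵀ * c.map (algebraMap R (Pol R n)) * gX R n) j i -
        ((c.map (algebraMap R (Pol R n))) i j + (c.map (algebraMap R (Pol R n))) j i)) = 0
    have := h.iso.2 i j
    rw [h1, Matrix.map_apply, Matrix.map_apply] at this
    rw [map_sub, map_add, this, sub_eq_zero]
    rw [map_add]
    rfl
  · change φ (if s then (gX R n).det - 1 else 0) = 0
    cases s with
    | false => simp
    | true =>
      have := h.det rfl
      have h2 := RingHom.map_det φ (gX R n)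
      rw [if_pos rfl, map_sub, map_one, h2, sub_eq_zero]
      exact this

theorem cond_gen (c : Matrix (Fin n) (Fin n) R) (s : Bool) :
    Cond (c.map (algebraMap R (Alg c s))) s (gen c s) (geni c s) := by
  refine cond_of_rel (Ideal.Quotient.mk (Ideal.span (Set.range (rel c s)))) c s fun i => ?_
  rw [Ideal.Quotient.eq_zero_iff_mem]
  exact Ideal.subset_span ⟨i, rfl⟩

/-- the evaluation of the polynomial ring at a pair of matrices -/
noncomputable def ev {A : Type v} [CommRing A] [Algebra R A] (g g' : Matrix (Fin n) (Fin n) A) : Pol R n →ₐ[R] A :=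
  MvPolynomial.aeval fun p => if p.1 then g p.2.1 p.2.2 else g' p.2.1 p.2.2

theorem gX_map_ev {A : Type v} [CommRing A] [Algebra R A] (g g' : Matrix (Fin n) (Fin n) A) :
    (gX R n).map (ev (R := R) g g') = g := by
  ext i j
  simp [gX, ev]

theorem gY_map_ev {A : Type v} [CommRing A] [Algebra R A] (g g' : Matrix (Fin n) (Fin n) A) :
    (gY R n).map (ev (R := R) g g') = g' := by
  ext i j
  simp [gY, ev]

/-- the point of the coordinate algebra given by an isometry -/
noncomputable def lift {A : Type v} [CommRing A] [Algebra R A] {c : Matrix (Fin n) (Fin n) R} {s : Bool}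
    {g g' : Matrix (Fin n) (Fin n) A} (h : Cond (c.map (algebraMap R A)) s g g') : Alg c s →ₐ[R] A :=
  Ideal.Quotient.liftₐ _ (ev g g') fun a ha => by
    have hle : Ideal.span (Set.range (rel c s)) ≤ RingHom.ker (ev (R := R) g g').toRingHom := by
      rw [Ideal.span_le]
      rintro _ ⟨i, rfl⟩
      rw [SetLike.mem_coe, RingHom.mem_ker]
      refine rel_of_cond (ev (R := R) g g').toRingHom c s ?_ i
      have h1 : (ev (R := R) g g').toRingHom.comp (algebraMap R (Pol R n)) = algebraMap R A :=
        (ev (R := R) g g').comp_algebraMap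
      have h2 : (gX R n).map (ev (R := R) g g').toRingHom = g := gX_map_ev g g'
      have h3 : (gY R n).map (ev (R := R) g g').toRingHom = g' := gY_map_ev g g'
      rw [h1, h2, h3]
      exact h
    exact hle ha

theorem gen_map_lift {A : Type v} [CommRing A] [Algebra R A] {c : Matrix (Fin n) (Fin n) R} {s : Bool}
    {g g' : Matrix (Fin n) (Fin n) A} (h : Cond (c.map (algebraMap R A)) s g g') : (gen c s).map (lift h) = g :=
  gX_map_ev g g'

theorem geni_map_lift {A : Type v} [CommRing A] [Algebra R A] {c : Matrix (Fin n) (Fin n) R} {s : Bool}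
    {g g' : Matrix (Fin n) (Fin n) A} (h : Cond (c.map (algebraMap R A)) s g g') : (geni c s).map (lift h) = g' :=
  gY_map_ev g g'

/-- uniqueness of points -/
theorem algHom_ext {A : Type v} [CommRing A] [Algebra R A] {c : Matrix (Fin n) (Fin n) R} {s : Bool}
    {φ ψ : Alg c s →ₐ[R] A} (h : (gen c s).map φ = (gen c s).map ψ) : φ = ψ := by
  have h' : (geni c s).map φ = (geni c s).map ψ := by
    have h1 := (cond_gen c s).map φ.toRingHom
    have h2 := (cond_gen c s).map ψ.toRingHom
    have h3 : (gen c s).map φ.toRingHom = (gen c s).map ψ.toRingHom := h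
    calc (geni c s).map φ = (geni c s).map φ.toRingHom * ((gen c s).map ψ.toRingHom * (geni c s).map ψ.toRingHom) := by
          rw [h2.mul_inv, mul_one]; rfl
      _ = (geni c s).map ψ.toRingHom := by rw [← h3, ← mul_assoc, h1.inv_mul, one_mul]
  apply Ideal.Quotient.algHom_ext
  apply MvPolynomial.algHom_ext
  rintro ⟨b, i, j⟩
  cases b with
  | true => exact congrFun (congrFun h i) j
  | false => exact congrFun (congrFun h' i) j

/-- infinitesimal lifting of isometries for the matrix `c`, over all `R`-algebras in the universe of `R` -/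
def Lifts (c : Matrix (Fin n) (Fin n) R) (s : Bool) : Prop :=
  ∀ (B : Type u) [CommRing B] [Algebra R B] (I : Ideal B), I ^ 2 = ⊥ → ∀ g g' : Matrix (Fin n) (Fin n) B,
    Cond ((c.map (algebraMap R B)).map (Ideal.Quotient.mk I)) s (g.map (Ideal.Quotient.mk I))
      (g'.map (Ideal.Quotient.mk I)) →
    ∃ h h' : Matrix (Fin n) (Fin n) B, Cond (c.map (algebraMap R B)) s h h' ∧
      h.map (Ideal.Quotient.mk I) = g.map (Ideal.Quotient.mk I)

theorem formallySmooth (c : Matrix (Fin n) (Fin n) R) (s : Bool) (hL : Lifts c s) : Algebra.FormallySmooth R (Alg c s) := by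
  refine Algebra.FormallySmooth.of_comp_surjective fun B _ _ I hI φ => ?_
  obtain ⟨g, hg⟩ : ∃ g : Matrix (Fin n) (Fin n) B, g.map (Ideal.Quotient.mk I) = (gen c s).map φ :=
    ⟨Matrix.of fun i j => Function.surjInv Ideal.Quotient.mk_surjective ((gen c s).map φ i j), by
      ext i j; exact Function.surjInv_eq Ideal.Quotient.mk_surjective _⟩
  obtain ⟨g', hg'⟩ : ∃ g' : Matrix (Fin n) (Fin n) B, g'.map (Ideal.Quotient.mk I) = (geni c s).map φ :=
    ⟨Matrix.of fun i j => Function.surjInv Ideal.Quotient.mk_surjective ((geni c s).map φ i j), by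
      ext i j; exact Function.surjInv_eq Ideal.Quotient.mk_surjective _⟩
  have h1 := (cond_gen c s).map φ.toRingHom
  have h2 : (c.map (algebraMap R (Alg c s))).map φ.toRingHom = (c.map (algebraMap R B)).map (Ideal.Quotient.mk I) := by
    ext i j
    exact (φ.commutes _)
  rw [h2] at h1
  obtain ⟨h, h', hc, he⟩ := hL B I hI g g' (by rw [hg, hg']; exact h1)
  refine ⟨lift hc, algHom_ext ?_⟩
  change (gen c s).map (Ideal.Quotient.mk I ∘ lift hc) = _
  rw [← Matrix.map_map, gen_map_lift, he, hg]

theorem smooth (c : Matrix (Fin n) (Fin n) R) (s : Bool) (hL : Lifts c s) : Algebra.Smooth R (Alg c s) where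
  formallySmooth := formallySmooth c s hL
  finitePresentation := finitePresentation c s

end K916.Coord
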