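import Groth.Agent.QuadGrp.K916.FamBC
import Mathlib.RingTheory.Smooth.Flat
import Mathlib.RingTheory.Flat.TorsionFree

/-!
# The action of an isometry of the split form on the product of the orthogonal family: even rank
-/

set_option autoImplicit false

universe u v w u'

open CliffordAlgebra TensorProduct

namespace K916.DetW

open BC WFam Dickson FamBC

/-- multiplication by a non-zero integer is injective on a free module over a `ℤ`-flat ring -/
theorem eq_of_natCast_zsmul {T : Type u} [CommRing T] [Module.Flat ℤ T] {N : Type v} [AddCommGroup N] [Module T N]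
    [Module.Free T N] {k : ℕ} (hk : k ≠ 0) {x y : N} (h : (k : ℤ) • x = (k : ℤ) • y) : x = y := by
  have : Module.Flat ℤ N := Module.Flat.trans ℤ T N
  have h1 : IsSMulRegular N (k : ℤ) :=
    Module.Flat.isSMulRegular_of_nonZeroDivisors (mem_nonZeroDivisors_of_ne_zero (by exact_mod_cast hk))
  exact h1 h

/-- over a `ℤ`-flat ring an isometry multiplies the product of an orthogonal family by its determinant -/
theorem cg_pr_of_flat {T : Type u} [CommRing T] [Module.Flat ℤ T] {n : ℕ} (Q : QuadraticForm T (Fin n → T))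
    (v : Fin n → (Fin n → T)) (hv : ∀ i j, i ≠ j → QuadraticMap.polar Q (v i) (v j) = 0)
    (g : (Fin n → T) ≃ₗ[T] (Fin n → T)) (hg : g ∈ QuadGrp.O Q) :
    cg g hg (pr Q v) = LinearMap.det (g : (Fin n → T) →ₗ[T] (Fin n → T)) • pr Q v := by
  have h := Alt.factorial_smul_cg Q (Pi.basisFun T (Fin n)) v hv g hg
  have : Module.Free T (CliffordAlgebra Q) := Basic.module_free Q
  exact eq_of_natCast_zsmul (T := T) (Nat.factorial_ne_zero n) h

/-- naturality of the determinant of a linear automorphism of `T^n` -/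
theorem det_coord {T : Type u} [CommRing T] {S : Type u'} [CommRing S] [Algebra T S] {n : ℕ}
    (g : (Fin n → T) →ₗ[T] (Fin n → T)) (g' : (Fin n → S) →ₗ[S] (Fin n → S))
    (h : ∀ v, g' (coordMap T S n v) = coordMap T S n (g v)) : LinearMap.det g' = algebraMap T S (LinearMap.det g) := by
  rw [← LinearMap.det_toMatrix', ← LinearMap.det_toMatrix', RingHom.map_det]
  congr 1
  ext i j
  rw [LinearMap.toMatrix'_apply, RingHom.mapMatrix_apply, Matrix.map_apply, LinearMap.toMatrix'_apply]
  have h1 := congrFun (h (Pi.single j 1)) i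
  rw [coordMap_apply, coordMap_apply] at h1
  have h2 : (⇑(algebraMap T S) ∘ (Pi.single j 1 : Fin n → T)) = Pi.single j 1 := by
    funext k
    rw [Function.comp_apply, Pi.single_apply, Pi.single_apply]
    split_ifs <;> simp
  rw [h2] at h1
  exact h1

/-- pushing forward the determinant formula along a ring map -/
theorem cg_pr_of_map {T : Type u} [CommRing T] [Module.Flat ℤ T] {S : Type u'} [CommRing S] [Algebra T S] {n : ℕ}
    (v : Fin n → (Fin n → T))
    (hv : ∀ i j, i ≠ j → QuadraticMap.polar (QuadGrp.splitForm T n) (v i) (v j) = 0)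
    (g : (Fin n → T) ≃ₗ[T] (Fin n → T)) (hg : g ∈ QuadGrp.O (QuadGrp.splitForm T n))
    (g' : (Fin n → S) ≃ₗ[S] (Fin n → S)) (hg' : g' ∈ QuadGrp.O (QuadGrp.splitForm S n))
    (h : ∀ v, g' (coordMap T S n v) = coordMap T S n (g v)) :
    cg g' hg' (pr (QuadGrp.splitForm S n) fun i => coordMap T S n (v i)) =
      LinearMap.det (g' : (Fin n → S) →ₗ[S] (Fin n → S)) • pr (QuadGrp.splitForm S n) fun i => coordMap T S n (v i) := by
  have h1 := cg_pr_of_flat (QuadGrp.splitForm T n) v hv g hg
  have h2 := congrArg (cmap (isBC_split T S n).compat) h1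
  rw [cmap_cg (isBC_split T S n).compat g hg g' hg' h, cmap_pr, map_smul, cmap_pr] at h2
  rw [h2, det_coord (g : (Fin n → T) →ₗ[T] (Fin n → T)) (g' : (Fin n → S) →ₗ[S] (Fin n → S)) h, algebraMap_smul]

/-- the standard even family over `S` -/
noncomputable def evenFam (S : Type u) [CommRing S] (m : ℕ) : EvenFam (QuadGrp.splitForm S (2 * m)) (2 * m) :=
  EvenFam.baseChange (evenFamSplit ℤ m) (isBC_split ℤ S (2 * m))

/-- the standard odd family over `S` -/
noncomputable def oddFam (S : Type u) [CommRing S] (m : ℕ) : OddFam (QuadGrp.splitForm S (2 * m + 1)) (2 * m + 1) :=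
  OddFam.baseChange (oddFamSplit ℤ m) (isBC_split ℤ S (2 * m + 1))

theorem coordMap_coordMap (T : Type u) [CommRing T] (S : Type u') [CommRing S] [Algebra T S] (n : ℕ) (x : Fin n → ℤ) :
    coordMap T S n (coordMap ℤ T n x) = coordMap ℤ S n x := by
  rw [coordMap_apply, coordMap_apply, coordMap_apply]
  funext i
  simp

theorem coordMap_mulVec {T : Type u} [CommRing T] {S : Type u'} [CommRing S] [Algebra T S] {n : ℕ}
    (G : Matrix (Fin n) (Fin n) T) (v : Fin n → T) :
    coordMap T S n (G.mulVec v) = (G.map (algebraMap T S)).mulVec (coordMap T S n v) := by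
  rw [coordMap_apply, coordMap_apply]
  funext i
  simp only [Matrix.mulVec, dotProduct, Matrix.map_apply, Function.comp_apply, map_sum, map_mul]

/-- A generic isometry of the split form over a `ℤ`-flat ring, of which a class `P` of isometries are specialisations. -/
structure Generic (n : ℕ) (P : ∀ (S : Type u) [CommRing S], ((Fin n → S) ≃ₗ[S] (Fin n → S)) → Prop) where
  /-- the generic ring -/
  T : Type
  /-- the ring structure -/
  ring : CommRing T
  flat : Module.Flat ℤ T
  /-- the generic isometry -/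
  G : (Fin n → T) ≃ₗ[T] (Fin n → T)
  mem : G ∈ QuadGrp.O (QuadGrp.splitForm T n)
  spec : ∀ (S : Type u) [CommRing S] (g : (Fin n → S) ≃ₗ[S] (Fin n → S)), g ∈ QuadGrp.O (QuadGrp.splitForm S n) →
    P S g → ∃ φ : T →+* S, (Bridge.mt G).map φ = Bridge.mt g

namespace Generic

variable {n : ℕ} {P : ∀ (S : Type u) [CommRing S], ((Fin n → S) ≃ₗ[S] (Fin n → S)) → Prop} (X : Generic n P)

include X in
theorem cg_pr (v : Fin n → (Fin n → ℤ)) (hv : ∀ i j, i ≠ j → QuadraticMap.polar (QuadGrp.splitForm ℤ n) (v i) (v j) = 0)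
    (S : Type u) [CommRing S] (g : (Fin n → S) ≃ₗ[S] (Fin n → S)) (hg : g ∈ QuadGrp.O (QuadGrp.splitForm S n))
    (hP : P S g) : cg g hg (pr _ fun i => coordMap ℤ S n (v i)) =
      LinearMap.det (g : (Fin n → S) →ₗ[S] (Fin n → S)) • pr _ fun i => coordMap ℤ S n (v i) := by
  obtain ⟨T, _, _, G, hG, spec⟩ := X
  obtain ⟨φ, hφ⟩ := spec S g hg hP
  let _ : Algebra T S := φ.toAlgebra
  have hv' : ∀ i j, i ≠ j → QuadraticMap.polar (QuadGrp.splitForm T n) (coordMap ℤ T n (v i)) (coordMap ℤ T n (v j)) = 0 := by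
    intro i j hij
    rw [(isBC_split ℤ T n).compat.polar, hv i j hij, map_zero]
  have h2 := cg_pr_of_map (S := S) (fun i => coordMap ℤ T n (v i)) hv' G hG g hg (fun v => by
    rw [← Bridge.mt_mulVec, ← Bridge.mt_mulVec, coordMap_mulVec]
    congr 1
    exact hφ.symm)
  simp only [coordMap_coordMap] at h2
  exact h2

end Generic

theorem mt_lin {A : Type u} [CommRing A] {n : ℕ} (g g' : Matrix (Fin n) (Fin n) A) (h : g * g' = 1) (h' : g' * g = 1) :
    Bridge.mt (Bridge.lin g g' h h') = g := by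
  rw [Bridge.mt, Bridge.toLinearMap_lin, LinearMap.toMatrix'_toLin']

theorem generic_of (n : ℕ) (P : ∀ (S : Type u) [CommRing S], ((Fin n → S) ≃ₗ[S] (Fin n → S)) → Prop)
    {T : Type} [CommRing T] (hfl : Module.Flat ℤ T) (G G' : Matrix (Fin n) (Fin n) T)
    (hc : Coord.Cond (Bridge.cm (K917.Coef.cf (QuadGrp.splitForm T n))) false G G')
    (spec : ∀ (S : Type u) [CommRing S] (g : (Fin n → S) ≃ₗ[S] (Fin n → S)), g ∈ QuadGrp.O (QuadGrp.splitForm S n) →
      P S g → ∃ φ : T →+* S, G.map φ = Bridge.mt g) : Nonempty (Generic n P) :=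
  ⟨⟨T, inferInstance, hfl, Bridge.lin G G' hc.mul_inv hc.inv_mul, Bridge.lin_mem_O _ _ hc.iso, fun S _ g hg hP => by
    obtain ⟨φ, hφ⟩ := spec S g hg hP
    exact ⟨φ, by rw [mt_lin, hφ]⟩⟩⟩

theorem cm_map_sc {n : ℕ} {B : Type u} [CommRing B] (φ : ℤ →+* B) :
    (Bridge.cm (K917.Coef.cf (QuadGrp.splitForm ℤ n))).map φ = Bridge.cm (K917.Coef.cf (QuadGrp.splitForm B n)) := by
  rw [Bridge.cm_map]
  congr 1
  exact K917.Coef.map_sc φ

/-- the generic isometry of the split form of even rank -/
theorem exists_generic_even (m : ℕ) : Nonempty (Generic.{u} (2 * m) fun _ _ _ => True) := by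
  have hsm := Coord.smooth (Bridge.cm (K917.Coef.cf (QuadGrp.splitForm ℤ (2 * m)))) false
    (LiftEven.lifts_of_isUnit_det _ (Bridge.isUnit_det_of_isRegular _ (Bridge.isRegular_splitForm_even m)))
  have hgen := Coord.cond_gen (Bridge.cm (K917.Coef.cf (QuadGrp.splitForm ℤ (2 * m)))) false
  rw [cm_map_sc] at hgen
  refine generic_of (2 * m) _ inferInstance _ _ hgen fun S _ g hg _ => ?_
  have hgm := Bridge.cond_mt hg
  rw [← cm_map_sc (algebraMap ℤ S)] at hgm
  exact ⟨(Coord.lift hgm).toRingHom, Coord.gen_map_lift hgm⟩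

/-- **the determinant formula in even rank**: `C(g) W = det(g) W`. -/
theorem cg_evenFam (S : Type u) [CommRing S] (m : ℕ) (g : (Fin (2 * m) → S) ≃ₗ[S] (Fin (2 * m) → S))
    (hg : g ∈ QuadGrp.O (QuadGrp.splitForm S (2 * m))) :
    cg g hg (pr _ (evenFam S m).v) =
      LinearMap.det (g : (Fin (2 * m) → S) →ₗ[S] (Fin (2 * m) → S)) • pr _ (evenFam S m).v := by
  obtain ⟨X⟩ := exists_generic_even.{u} m
  exact X.cg_pr (evenFamSplit ℤ m).v (evenFamSplit ℤ m).ortho S g hg trivial

end K916.DetW
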