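import Groth.Agent.QuadGrp.K916.NaiveZ
import Groth.Agent.QuadGrp.K916.Conn

/-!
# Naturality of the Dickson invariant, and the special orthogonal group of even rank as an open and closed piece
-/

set_option autoImplicit false

universe u v w u'

open CliffordAlgebra TensorProduct

namespace K916.DickNat

open BC Dickson Glob Center FamBC

section SplitNat

variable {T : Type u} [CommRing T] {S : Type v} [CommRing S] [Algebra T S] {m : ℕ}

/-- naturality of the Dickson invariant of an isometry of the split form -/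
theorem delta_nat (hm : m ≠ 0) {g : (Fin (2 * m) → T) ≃ₗ[T] (Fin (2 * m) → T)} (hg : g ∈ QuadGrp.O (QuadGrp.splitForm T (2 * m)))
    {g' : (Fin (2 * m) → S) ≃ₗ[S] (Fin (2 * m) → S)} (hg' : g' ∈ QuadGrp.O (QuadGrp.splitForm S (2 * m)))
    (h : ∀ v, g' (coordMap T S (2 * m) v) = coordMap T S (2 * m) (g v)) {δ : T} {δ' : S}
    (hδ : cg g hg (eps (SplitForm.matClSplit T m)) = (1 - δ) • eps (SplitForm.matClSplit T m) +
      δ • (1 - eps (SplitForm.matClSplit T m)))
    (hδ' : cg g' hg' (eps (SplitForm.matClSplit S m)) = (1 - δ') • eps (SplitForm.matClSplit S m) +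
      δ' • (1 - eps (SplitForm.matClSplit S m))) : algebraMap T S δ = δ' := by
  have hbc := isBC_split T S (2 * m)
  set E := SplitForm.matClSplit T m with hE
  set E' := SplitForm.matClSplit S m with hE'
  set ε := cmap hbc.compat (eps E) with hε
  -- the transported idempotent is central in the even part
  have hodd : ∀ x ∈ evenOdd (QuadGrp.splitForm S (2 * m)) 1, x * ε = (1 - ε) * x := by
    intro x hx
    rw [evenOdd_eq_span hbc 1] at hx
    induction hx using Submodule.span_induction with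
    | mem x hx =>
      obtain ⟨y, hy, rfl⟩ := hx
      rw [hε, ← map_mul, ← map_one (cmap hbc.compat), ← map_sub, ← map_mul, odd_mul_eps E hy]
    | zero => rw [zero_mul, mul_zero]
    | add x y _ _ hx hy => rw [add_mul, mul_add, hx, hy]
    | smul a x _ hx => rw [smul_mul_assoc, mul_smul_comm, hx]
  have heven : ∀ x ∈ evenOdd (QuadGrp.splitForm S (2 * m)) 0, ε * x = x * ε := by
    intro x hx
    rw [evenOdd_eq_span hbc 0] at hx
    induction hx using Submodule.span_induction with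
    | mem x hx =>
      obtain ⟨y, hy, rfl⟩ := hx
      rw [hε, ← map_mul, ← map_mul, eps_comm E hy]
    | zero => rw [zero_mul, mul_zero]
    | add x y _ _ hx hy => rw [add_mul, mul_add, hx, hy]
    | smul a x _ hx => rw [smul_mul_assoc, mul_smul_comm, hx]
  obtain ⟨a, b, hab⟩ := exists_of_central E' (z := ε) heven
  have hidem : ε * ε = ε := by rw [hε, ← map_mul, eps_mul_self]
  obtain ⟨i0, hi0⟩ := E'.exists_idx hm 0
  obtain ⟨i1, hi1⟩ := E'.exists_idx hm 1
  have hba : a + b = 1 := by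
    let _ := E'.fin
    let _ := E'.dec
    have hx : E'.Φ.symm (Matrix.single i0 i1 1) ∈ evenOdd (QuadGrp.splitForm S (2 * m)) 1 := by
      rw [E'.mem_iff, AlgEquiv.apply_symm_apply]
      exact Split.single_mem_gmat (by rw [hi0, hi1]; rfl) 1
    have h1 := hodd _ hx
    rw [hab, mul_add, mul_smul_comm, mul_smul_comm, mul_sub, mul_one, odd_mul_eps E' hx] at h1
    have h2 := congrArg E'.Φ h1
    have h4 : ∀ α β : S, α • (1 - eps E') + β • eps E' = β • eps E' + α • (1 - eps E') := fun α β => add_comm _ _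
    have h5 : (a • ((1 - eps E') * E'.Φ.symm (Matrix.single i0 i1 1)) +
        b • (E'.Φ.symm (Matrix.single i0 i1 1) - (1 - eps E') * E'.Φ.symm (Matrix.single i0 i1 1))) =
        (b • eps E' + a • (1 - eps E')) * E'.Φ.symm (Matrix.single i0 i1 1) := by
      rw [add_mul, smul_mul_assoc, smul_mul_assoc]
      have : E'.Φ.symm (Matrix.single i0 i1 1) - (1 - eps E') * E'.Φ.symm (Matrix.single i0 i1 1) =
          eps E' * E'.Φ.symm (Matrix.single i0 i1 1) := by noncomm_ring
      rw [this, add_comm]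
    have h6 : (1 - (a • eps E' + b • (1 - eps E'))) = (1 - a) • eps E' + (1 - b) • (1 - eps E') := by module
    rw [h5, h6, map_mul, map_mul, AlgEquiv.apply_symm_apply, Φ_lin, Φ_lin] at h2
    have h3 := congrFun (congrFun h2 i0) i1
    rw [Matrix.diagonal_mul, Matrix.diagonal_mul, hi0, if_pos rfl, if_pos rfl, Matrix.single_apply_same, mul_one, mul_one] at h3
    linear_combination h3
  have haa : a * a = a := by
    rw [hab, lin_mul] at hidem
    exact (lin_injective E' hm hidem).1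
  have h1 := cmap_cg hbc.compat g hg g' hg' h (eps E)
  have hs : ∀ (t : T) (x : CliffordAlgebra (QuadGrp.splitForm S (2 * m))), t • x = algebraMap T S t • x := fun t x =>
    (algebraMap_smul S t x).symm
  rw [hδ, map_add, map_smul, map_smul, map_sub, map_one, ← hε, hs, hs, map_sub, map_one, hab, map_add, map_smul, map_smul,
    map_sub, map_one, hδ'] at h1
  have hb : b = 1 - a := by linear_combination hba
  subst hb
  have e1 : (1 - algebraMap T S δ) • (a • eps E' + (1 - a) • (1 - eps E')) +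
      algebraMap T S δ • (1 - (a • eps E' + (1 - a) • (1 - eps E'))) =
      ((1 - algebraMap T S δ) * a + algebraMap T S δ * (1 - a)) • eps E' +
        ((1 - algebraMap T S δ) * (1 - a) + algebraMap T S δ * a) • (1 - eps E') := by module
  have e2 : a • ((1 - δ') • eps E' + δ' • (1 - eps E')) + (1 - a) • (1 - ((1 - δ') • eps E' + δ' • (1 - eps E'))) =
      (a * (1 - δ') + (1 - a) * δ') • eps E' + (a * δ' + (1 - a) * (1 - δ')) • (1 - eps E') := by module
  rw [e1, e2] at h1
  have h2 := (lin_injective E' hm h1).1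
  linear_combination (1 - 2 * a) * h2 - 4 * (algebraMap T S δ - δ') * haa

end SplitNat

section Cover

open QuadraticMap QuadGrp

variable {R : Type u} [CommRing R] {M : Type u} [AddCommGroup M] [Module R M] [Module.Free R M]

/-- compatibility with a form on `B ⊗ M` may be checked on `1 ⊗ m` -/
theorem compat_of {B : Type u} [CommRing B] [Algebra R B] {B' : Type u} [CommRing B'] [Algebra B B'] {N : Type u}
    [AddCommGroup N] [Module B N] [Module B' N] [IsScalarTower B B' N] (Q : QuadraticForm R M) (Q' : QuadraticForm B' N)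
    (fB : B ⊗[R] M →ₗ[B] N)
    (h : ∀ m : M, Q' (fB (1 ⊗ₜ m)) = algebraMap B B' (baseChangeForm B Q (1 ⊗ₜ m))) :
    Compat B' (baseChangeForm B Q) Q' fB := by
  have hone : ∀ (b : B) (m : M), fB (b ⊗ₜ[R] m) = algebraMap B B' b • fB (1 ⊗ₜ m) := by
    intro b m
    have : (b ⊗ₜ[R] m : B ⊗[R] M) = b • ((1 : B) ⊗ₜ[R] m) := by rw [smul_tmul', smul_eq_mul, mul_one]
    rw [this, map_smul, algebraMap_smul]
  have h11 : ∀ m m' : M, polar Q' (fB (1 ⊗ₜ m)) (fB (1 ⊗ₜ m')) =
      algebraMap B B' (polar (baseChangeForm B Q) (1 ⊗ₜ m) (1 ⊗ₜ m')) := by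
    intro m m'
    rw [polar, polar, ← map_add, ← tmul_add, h, h, h, map_sub, map_sub]
  have hp : ∀ z w, polar Q' (fB z) (fB w) = algebraMap B B' (polar (baseChangeForm B Q) z w) := by
    intro z w
    induction z with
    | zero => rw [map_zero, polar_zero_left, polar_zero_left, map_zero]
    | tmul a m =>
      induction w with
      | zero => rw [map_zero, polar_zero_right, polar_zero_right, map_zero]
      | tmul b m' =>
        rw [hone a m, hone b m', polar_smul_left, polar_smul_right, h11]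
        have e1 : (a ⊗ₜ[R] m : B ⊗[R] M) = a • ((1 : B) ⊗ₜ[R] m) := by rw [smul_tmul', smul_eq_mul, mul_one]
        have e2 : (b ⊗ₜ[R] m' : B ⊗[R] M) = b • ((1 : B) ⊗ₜ[R] m') := by rw [smul_tmul', smul_eq_mul, mul_one]
        rw [e1, e2, polar_smul_left, polar_smul_right, smul_eq_mul, smul_eq_mul, smul_eq_mul, smul_eq_mul, map_mul, map_mul]
      | add x y hx hy => rw [map_add, polar_add_right, polar_add_right, hx, hy, map_add]
    | add x y hx hy => rw [map_add, polar_add_left, polar_add_left, hx, hy, map_add]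
  intro z
  induction z with
  | zero => rw [map_zero, QuadraticMap.map_zero, QuadraticMap.map_zero, map_zero]
  | tmul b m =>
    have e1 : (b ⊗ₜ[R] m : B ⊗[R] M) = b • ((1 : B) ⊗ₜ[R] m) := by rw [smul_tmul', smul_eq_mul, mul_one]
    rw [hone b m, QuadraticMap.map_smul, h, e1, QuadraticMap.map_smul, smul_eq_mul, smul_eq_mul, map_mul, map_mul]
  | add x y hx hy =>
    rw [map_add, QuadraticMap.map_add Q', QuadraticMap.map_add (baseChangeForm B Q), hx, hy, hp, map_add, map_add]

variable {Q : QuadraticForm R M} {A' : Type u} [CommRing A'] [Algebra R A'] {n : ℕ} {f : M →ₗ[R] (Fin n → A')}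

/-- the induced splitting over `B ⊗ A'` -/
theorem exists_fB (hf : IsBC A' Q (splitForm A' n) f) (B : Type u) [CommRing B] [Algebra R B] :
    ∃ fB : B ⊗[R] M →ₗ[B] (Fin n → B ⊗[R] A'), IsBC (B ⊗[R] A') (baseChangeForm B Q) (splitForm (B ⊗[R] A') n) fB ∧
      ∀ m, fB (1 ⊗ₜ m) = fun i => (1 : B) ⊗ₜ[R] (f m i) := by
  let _ : Algebra A' (B ⊗[R] A') := (Algebra.TensorProduct.includeRight : A' →ₐ[R] B ⊗[R] A').toRingHom.toAlgebra
  have htow : IsScalarTower R A' (B ⊗[R] A') :=
    IsScalarTower.of_algebraMap_eq fun r => ((Algebra.TensorProduct.includeRight : A' →ₐ[R] B ⊗[R] A').commutes r).symm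
  have hc : IsBC (B ⊗[R] A') (splitForm A' n) (splitForm (B ⊗[R] A') n) (coordMap A' (B ⊗[R] A') n) := isBC_split _ _ _
  have hF := hf.isBaseChange.comp hc.isBaseChange
  let fB : B ⊗[R] M →ₗ[B] (Fin n → B ⊗[R] A') :=
    (TensorProduct.isBaseChange R M B).lift ((coordMap A' (B ⊗[R] A') n).restrictScalars R ∘ₗ f)
  have h1 : ∀ m, fB (1 ⊗ₜ m) = fun i => (1 : B) ⊗ₜ[R] (f m i) := fun m => (TensorProduct.isBaseChange R M B).lift_eq _ m
  refine ⟨fB, ⟨?_, ?_⟩, h1⟩
  · refine IsBaseChange.of_comp (TensorProduct.isBaseChange R M B) ?_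
    have : (fB.restrictScalars R) ∘ₗ (TensorProduct.mk R B M) 1 = (coordMap A' (B ⊗[R] A') n).restrictScalars R ∘ₗ f :=
      (TensorProduct.isBaseChange R M B).lift_comp _
    rw [this]
    exact hF
  · refine compat_of Q _ fB fun m => ?_
    have h2 : fB (1 ⊗ₜ m) = coordMap A' (B ⊗[R] A') n (f m) := (TensorProduct.isBaseChange R M B).lift_eq _ m
    rw [h2, hc.compat, hf.compat, K917.Base.baseChangeForm_one_tmul, ← IsScalarTower.algebraMap_apply,
      ← IsScalarTower.algebraMap_apply]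

/-- the induced splitting over `B ⊗ A'` -/
noncomputable def fB (hf : IsBC A' Q (splitForm A' n) f) (B : Type u) [CommRing B] [Algebra R B] :
    B ⊗[R] M →ₗ[B] (Fin n → B ⊗[R] A') := (exists_fB hf B).choose

theorem isBC_fB (hf : IsBC A' Q (splitForm A' n) f) (B : Type u) [CommRing B] [Algebra R B] :
    IsBC (B ⊗[R] A') (baseChangeForm B Q) (splitForm (B ⊗[R] A') n) (fB hf B) := (exists_fB hf B).choose_spec.1

theorem fB_one_tmul (hf : IsBC A' Q (splitForm A' n) f) (B : Type u) [CommRing B] [Algebra R B] (m : M) :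
    fB hf B (1 ⊗ₜ m) = fun i => (1 : B) ⊗ₜ[R] (f m i) := (exists_fB hf B).choose_spec.2 m

end Cover

section Inv

open QuadraticMap QuadGrp

variable {R : Type u} [CommRing R] {M : Type u} [AddCommGroup M] [Module R M] [Module.Free R M] [Module.Finite R M]
  {Q : QuadraticForm R M} {A' : Type u} [CommRing A'] [Algebra R A'] {m : ℕ} {f : M →ₗ[R] (Fin (2 * m) → A')}

/-- `e` is the Dickson invariant of `g` (seen after splitting) -/
def IsDick (hf : IsBC A' Q (splitForm A' (2 * m)) f) {B : Type u} [CommRing B] [Algebra R B]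
    (g : (B ⊗[R] M) ≃ₗ[B] (B ⊗[R] M)) (hg : g ∈ O (baseChangeForm B Q)) (e : B) : Prop :=
  cg (bcEquiv (isBC_fB hf B).isBaseChange g) (bcEquiv_mem (isBC_fB hf B) hg) (eps (SplitForm.matClSplit (B ⊗[R] A') m)) =
    (1 - algebraMap B (B ⊗[R] A') e) • eps (SplitForm.matClSplit (B ⊗[R] A') m) +
      algebraMap B (B ⊗[R] A') e • (1 - eps (SplitForm.matClSplit (B ⊗[R] A') m))

theorem exists_dick [Module.FaithfullyFlat R A'] (hm : m ≠ 0) (hf : IsBC A' Q (splitForm A' (2 * m)) f) {B : Type u} [CommRing B] [Algebra R B]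
    (g : (B ⊗[R] M) ≃ₗ[B] (B ⊗[R] M)) (hg : g ∈ O (baseChangeForm B Q)) :
    ∃ e : B, IsIdempotentElem e ∧ IsDick hf g hg e ∧ (IsDicksonTrivial (baseChangeForm B Q) g hg ↔ e = 0) := by
  have : Module.Finite B (CliffordAlgebra (baseChangeForm B Q)) := Basic.module_finite _
  obtain ⟨δ, hδ, hδg⟩ := Dickson.exists_dickson (SplitForm.matClSplit (B ⊗[R] A') m) hm _ (bcEquiv_mem (isBC_fB hf B) hg)
  obtain ⟨e, he, heδ, hiff⟩ := DicksonGlob.exists_dickson_of_isBC (isBC_fB hf B) (SplitForm.matClSplit (B ⊗[R] A') m) hm g hg _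
    (bcEquiv_mem (isBC_fB hf B) hg) (bcEquiv_apply (isBC_fB hf B).isBaseChange g) hδ hδg
  refine ⟨e, he, ?_, hiff⟩
  rw [IsDick, heδ]
  exact hδg

omit [Module.Finite R M] in
theorem coordMap_fB (hf : IsBC A' Q (splitForm A' (2 * m)) f) {B B2 : Type u} [CommRing B] [Algebra R B] [CommRing B2]
    [Algebra R B2] (φ : B →ₐ[R] B2) (z : B ⊗[R] M) (i : Fin (2 * m)) :
    Algebra.TensorProduct.map φ (AlgHom.id R A') (fB hf B z i) = fB hf B2 (LinearMap.rTensor M φ.toLinearMap z) i := by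
  induction z with
  | zero => simp
  | tmul b m' =>
    have h1 : (b ⊗ₜ[R] m' : B ⊗[R] M) = b • ((1 : B) ⊗ₜ[R] m') := by rw [smul_tmul', smul_eq_mul, mul_one]
    have h2 : LinearMap.rTensor M φ.toLinearMap ((1 : B) ⊗ₜ[R] m') = (1 : B2) ⊗ₜ m' := by
      rw [LinearMap.rTensor_tmul, AlgHom.toLinearMap_apply, map_one]
    rw [h1, Conn.rTensor_smul, h2, map_smul, map_smul, fB_one_tmul, fB_one_tmul, Pi.smul_apply, Pi.smul_apply,
      smul_tmul', smul_tmul', smul_eq_mul, smul_eq_mul, mul_one, mul_one, Algebra.TensorProduct.map_tmul]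
    rfl
  | add x y hx hy => rw [map_add, map_add, map_add, Pi.add_apply, Pi.add_apply, map_add, hx, hy]

omit [Module.Finite R M] in
/-- **naturality of the Dickson invariant** -/
theorem IsDick.map [Module.FaithfullyFlat R A'] (hm : m ≠ 0) (hf : IsBC A' Q (splitForm A' (2 * m)) f) {B B2 : Type u}
    [CommRing B] [Algebra R B] [CommRing B2] [Algebra R B2] (φ : B →ₐ[R] B2)
    {g : (B ⊗[R] M) ≃ₗ[B] (B ⊗[R] M)} {hg : g ∈ O (baseChangeForm B Q)}
    {g2 : (B2 ⊗[R] M) ≃ₗ[B2] (B2 ⊗[R] M)} {hg2 : g2 ∈ O (baseChangeForm B2 Q)}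
    (h : ∀ x : M, g2 (1 ⊗ₜ x) = LinearMap.rTensor M φ.toLinearMap (g (1 ⊗ₜ x))) {e : B} {e2 : B2}
    (he : IsDick hf g hg e) (he2 : IsDick hf g2 hg2 e2) : φ e = e2 := by
  let ψ : B ⊗[R] A' →ₐ[R] B2 ⊗[R] A' := Algebra.TensorProduct.map φ (AlgHom.id R A')
  let _ : Algebra (B ⊗[R] A') (B2 ⊗[R] A') := ψ.toRingHom.toAlgebra
  have hψ : ∀ b : B, algebraMap (B ⊗[R] A') (B2 ⊗[R] A') (algebraMap B (B ⊗[R] A') b) =
      algebraMap B2 (B2 ⊗[R] A') (φ b) := by
    intro b
    change Algebra.TensorProduct.map φ (AlgHom.id R A') (b ⊗ₜ[R] 1) = φ b ⊗ₜ[R] 1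
    rw [Algebra.TensorProduct.map_tmul, map_one]
  have hfB : ∀ z : B ⊗[R] M, coordMap (B ⊗[R] A') (B2 ⊗[R] A') (2 * m) (fB hf B z) =
      fB hf B2 (LinearMap.rTensor M φ.toLinearMap z) := by
    intro z
    funext i
    exact coordMap_fB hf φ z i
  set g' := bcEquiv (isBC_fB hf B).isBaseChange g with hg'
  set g2' := bcEquiv (isBC_fB hf B2).isBaseChange g2 with hg2'
  have hnat : ∀ v, g2' (coordMap (B ⊗[R] A') (B2 ⊗[R] A') (2 * m) v) = coordMap (B ⊗[R] A') (B2 ⊗[R] A') (2 * m) (g' v) := by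
    intro v
    refine forall_of_image (isBC_fB hf B)
      ((g2' : (Fin (2 * m) → B2 ⊗[R] A') →ₗ[B2 ⊗[R] A'] (Fin (2 * m) → B2 ⊗[R] A')).restrictScalars (B ⊗[R] A') ∘ₗ
        coordMap (B ⊗[R] A') (B2 ⊗[R] A') (2 * m))
      (coordMap (B ⊗[R] A') (B2 ⊗[R] A') (2 * m) ∘ₗ
        (g' : (Fin (2 * m) → B ⊗[R] A') →ₗ[B ⊗[R] A'] (Fin (2 * m) → B ⊗[R] A'))) (fun u => ?_) v
    change g2' (coordMap (B ⊗[R] A') (B2 ⊗[R] A') (2 * m) (fB hf B u)) =
      coordMap (B ⊗[R] A') (B2 ⊗[R] A') (2 * m) (g' (fB hf B u))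
    rw [hg', hg2', bcEquiv_apply, hfB, hfB, bcEquiv_apply, Conn.semilinear_ext φ g g2 h]
  have key := delta_nat hm (bcEquiv_mem (isBC_fB hf B) hg) (bcEquiv_mem (isBC_fB hf B2) hg2) hnat he he2
  rw [hψ] at key
  exact FaithfulSMul.algebraMap_injective B2 (B2 ⊗[R] A') key

end Inv

end K916.DickNat
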