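import Groth.Agent.QuadGrp.K916.DickNat
import Groth.Agent.QuadGrp.K916.ConnSO
import Mathlib.RingTheory.Etale.Basic
import Mathlib.RingTheory.Smooth.Basic
import Mathlib.RingTheory.Localization.Away.Lemmas

/-!
# The special orthogonal group of a regular form of even rank: universal algebra
-/

set_option autoImplicit false

universe u v w u'

open CliffordAlgebra TensorProduct QuadraticMap QuadGrp

namespace K916.DickUniv

open DickNat BC

section Push

variable {R : Type u} [CommRing R] {M : Type u} [AddCommGroup M] [Module R M]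

/-- the pushforward of an automorphism along a ring map -/
theorem exists_push {A B : Type u} [CommRing A] [Algebra R A] [CommRing B] [Algebra R B] (φ : A →ₐ[R] B)
    (g : (A ⊗[R] M) ≃ₗ[A] (A ⊗[R] M)) : ∃ g' : (B ⊗[R] M) ≃ₗ[B] (B ⊗[R] M),
      ∀ m : M, g' (1 ⊗ₜ m) = LinearMap.rTensor M φ.toLinearMap (g (1 ⊗ₜ m)) := by
  let _ : Algebra A B := φ.toRingHom.toAlgebra
  have : IsScalarTower R A B := IsScalarTower.of_algebraMap_eq fun r => (φ.commutes r).symm
  let c := AlgebraTensorModule.cancelBaseChange R A B B M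
  have hc : ∀ z : A ⊗[R] M, c (1 ⊗ₜ[A] z) = LinearMap.rTensor M φ.toLinearMap z := by
    intro z
    induction z with
    | zero => rw [tmul_zero, map_zero, map_zero]
    | tmul a m =>
      rw [AlgebraTensorModule.cancelBaseChange_tmul, LinearMap.rTensor_tmul, Algebra.smul_def, mul_one]
      rfl
    | add x y hx hy => rw [tmul_add, map_add, map_add, hx, hy]
  refine ⟨c.symm ≪≫ₗ g.baseChange A B (A ⊗[R] M) (A ⊗[R] M) ≪≫ₗ c, fun m => ?_⟩
  rw [LinearEquiv.trans_apply, LinearEquiv.trans_apply]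
  have h1 : c.symm (1 ⊗ₜ m) = (1 : B) ⊗ₜ[A] ((1 : A) ⊗ₜ[R] m) := by
    rw [LinearEquiv.symm_apply_eq, hc, LinearMap.rTensor_tmul, AlgHom.toLinearMap_apply, map_one]
  rw [h1]
  change c ((1 : B) ⊗ₜ[A] g (1 ⊗ₜ m)) = _
  exact hc _

variable [Module.Free R M] {Q : QuadraticForm R M}

theorem push_mem {A B : Type u} [CommRing A] [Algebra R A] [CommRing B] [Algebra R B] (φ : A →ₐ[R] B)
    {g : (A ⊗[R] M) ≃ₗ[A] (A ⊗[R] M)} (hg : g ∈ O (baseChangeForm A Q)) {g' : (B ⊗[R] M) ≃ₗ[B] (B ⊗[R] M)}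
    (h : ∀ m : M, g' (1 ⊗ₜ m) = LinearMap.rTensor M φ.toLinearMap (g (1 ⊗ₜ m))) : g' ∈ O (baseChangeForm B Q) := by
  have h1 : (baseChangeForm B Q).comp (g' : (B ⊗[R] M) →ₗ[B] (B ⊗[R] M)) = baseChangeForm B Q := by
    refine K917.Base.eq_baseChangeForm B Q _ fun m => ?_
    change baseChangeForm B Q (g' (1 ⊗ₜ m)) = _
    rw [h, Conn.form_rTensor, hg, K917.Base.baseChangeForm_one_tmul, AlgHom.commutes]
  intro x
  exact DFunLike.congr_fun h1 x

end Push

section Univ

variable {R : Type u} [CommRing R] {M : Type u} [AddCommGroup M] [Module R M] [Module.Free R M] [Module.Finite R M]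
  {Q : QuadraticForm R M} {m : ℕ}

omit [Module.Finite R M] in
/-- points of the special orthogonal group in even rank -/
theorem mem_sorth_iff (b : Module.Basis (Fin (2 * m)) R M) {A : Type u} [CommRing A] [Algebra R A] (g : (A ⊗[R] M) ≃ₗ[A] (A ⊗[R] M)) :
    g ∈ sorth Q A ↔ ∃ hg : g ∈ O (baseChangeForm A Q), IsDicksonTrivial (baseChangeForm A Q) g hg := by
  rcases subsingleton_or_nontrivial A with hA | hA
  · have hs : Subsingleton (A ⊗[R] M) := Module.subsingleton A _
    have h1 : g = 1 := LinearEquiv.ext fun x => Subsingleton.elim _ _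
    have hc : Subsingleton (CliffordAlgebra (baseChangeForm A Q)) := Module.subsingleton A _
    constructor
    · intro _
      exact ⟨fun x => Subsingleton.elim _ _, fun z _ => Subsingleton.elim _ _⟩
    · intro _
      rw [h1]
      exact Subgroup.one_mem _
  · have hr : Module.finrank A (A ⊗[R] M) = 2 * m := by
      rw [Module.finrank_eq_card_basis (b.baseChange A), Fintype.card_fin]
    rw [sorth, SO, if_pos (by rw [hr]; exact even_two_mul m)]
    exact Iff.rfl

variable {A' : Type u} [CommRing A'] [Algebra R A'] [Module.FaithfullyFlat R A'] {f : M →ₗ[R] (Fin (2 * m) → A')}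
variable {C : Type u} [CommRing C] [Algebra R C]

/-- **the universal algebra of the special orthogonal group in even rank** -/
theorem exists_isUniv (hm : m ≠ 0) (b : Module.Basis (Fin (2 * m)) R M) (hf : IsBC A' Q (splitForm A' (2 * m)) f)
    (γ : ↥(orth Q C)) (hγ : RepC.IsUniv (fun A _ _ => orth Q A) C γ) :
    ∃ e : C, IsIdempotentElem e ∧ ∃ γ' : ↥(sorth Q (C ⧸ Ideal.span {e})),
      RepC.IsUniv (fun A _ _ => sorth Q A) (C ⧸ Ideal.span {e}) γ' := by
  have hγO : (γ : (C ⊗[R] M) ≃ₗ[C] (C ⊗[R] M)) ∈ O (baseChangeForm C Q) := by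
    rw [← K917.Centralizer.orth_eq]; exact γ.2
  obtain ⟨e, he, hdick, -⟩ := exists_dick hm hf (γ : (C ⊗[R] M) ≃ₗ[C] (C ⊗[R] M)) hγO
  let q : C →ₐ[R] C ⧸ Ideal.span {e} := Ideal.Quotient.mkₐ R (Ideal.span {e})
  have hqe : q e = 0 := Ideal.Quotient.eq_zero_iff_mem.2 (Ideal.mem_span_singleton_self e)
  obtain ⟨γ', hγ'⟩ := exists_push q (γ : (C ⊗[R] M) ≃ₗ[C] (C ⊗[R] M))
  have hγ'O : γ' ∈ O (baseChangeForm (C ⧸ Ideal.span {e}) Q) := push_mem q hγO hγ'
  have hγ'S : γ' ∈ sorth Q (C ⧸ Ideal.span {e}) := by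
    rw [mem_sorth_iff b]
    refine ⟨hγ'O, ?_⟩
    obtain ⟨e', -, hdick', hiff⟩ := exists_dick hm hf γ' hγ'O
    rw [hiff, ← IsDick.map hm hf q hγ' hdick hdick', hqe]
  refine ⟨e, he, ⟨γ', hγ'S⟩, fun A _ _ s => ?_⟩
  obtain ⟨hsO, hsD⟩ := (mem_sorth_iff b _).1 s.2
  obtain ⟨φ, hφ, hφu⟩ := hγ A ⟨s.1, by change s.1 ∈ orth Q A; rw [K917.Centralizer.orth_eq]; exact hsO⟩
  obtain ⟨es, -, hdicks, hiff⟩ := exists_dick hm hf _ hsO
  have hes : es = 0 := hiff.1 hsD
  have hφe : φ e = 0 := by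
    rw [IsDick.map hm hf φ (fun x => (hφ x).symm) hdick hdicks, hes]
  let φ' : (C ⧸ Ideal.span {e}) →ₐ[R] A := Ideal.Quotient.liftₐ _ φ fun a ha => by
    obtain ⟨t, rfl⟩ := Ideal.mem_span_singleton.1 ha
    rw [map_mul, hφe, zero_mul]
  have hcomp : ∀ (ψ : (C ⧸ Ideal.span {e}) →ₐ[R] A) (z : C ⊗[R] M),
      LinearMap.rTensor M ψ.toLinearMap (LinearMap.rTensor M q.toLinearMap z) =
        LinearMap.rTensor M (ψ.comp q).toLinearMap z := by
    intro ψ z
    rw [← LinearMap.rTensor_comp_apply]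
    rfl
  refine ⟨φ', fun x => ?_, fun ψ hψ => ?_⟩
  · have h1 : φ'.comp q = φ := by
      ext x
      rfl
    change LinearMap.rTensor M φ'.toLinearMap (γ' (1 ⊗ₜ x)) = _
    rw [hγ', hcomp, h1]
    exact hφ x
  · have h1 : ψ.comp q = φ := by
      refine hφu _ fun x => ?_
      have h2 := hψ x
      change LinearMap.rTensor M ψ.toLinearMap (γ' (1 ⊗ₜ x)) = _ at h2
      rw [hγ', hcomp] at h2
      exact h2
    apply Ideal.Quotient.algHom_ext
    rw [show (ψ.comp (Ideal.Quotient.mkₐ R (Ideal.span {e}))) = φ from h1]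
    ext x
    rfl

/-- an open and closed piece of a smooth algebra is smooth -/
theorem smooth_quotient {e : C} (he : IsIdempotentElem e) [Algebra.Smooth R C] : Algebra.Smooth R (C ⧸ Ideal.span {e}) := by
  have h1 : IsLocalization.Away (1 - e) (C ⧸ Ideal.span {e}) := by
    refine IsLocalization.away_of_isIdempotentElem he.one_sub ?_ Ideal.Quotient.mk_surjective
    rw [sub_sub_cancel]
    exact Ideal.mk_ker
  have h2 : Algebra.Etale C (C ⧸ Ideal.span {e}) := Algebra.Etale.of_isLocalizationAway (1 - e)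
  have h3 : Algebra.Smooth C (C ⧸ Ideal.span {e}) := inferInstance
  exact Algebra.Smooth.comp R C (C ⧸ Ideal.span {e})

end Univ

section Main

open Coord Bridge K917.Coef

variable {R : Type u} [CommRing R] {m : ℕ}

/-- the special orthogonal group of a regular form of even rank: an open and closed piece of the orthogonal group -/
theorem exists_isUniv_even (hm : m ≠ 0) (Q : QuadraticForm R (Fin (2 * m) → R)) (hQ : IsRegular Q) :
    ∃ e : Alg (cm (cf Q)) false, IsIdempotentElem e ∧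
      Algebra.Smooth R (Alg (cm (cf Q)) false ⧸ (Ideal.span {e} : Ideal (Alg (cm (cf Q)) false))) ∧
      ∃ γ' : ↥(sorth Q (Alg (cm (cf Q)) false ⧸ (Ideal.span {e} : Ideal (Alg (cm (cf Q)) false)))),
        RepC.IsUniv (fun A _ _ => sorth Q A) (Alg (cm (cf Q)) false ⧸ (Ideal.span {e} : Ideal (Alg (cm (cf Q)) false))) γ' := by
  obtain ⟨A', _, _, _, _, f, hf⟩ := Glob.exists_isBC (Pi.basisFun R (Fin (2 * m))) Q ⟨fun _ => hQ, fun h => absurd h (by
    rw [Nat.not_odd_iff_even]; exact even_two_mul m)⟩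
  obtain ⟨e, he, h⟩ := exists_isUniv hm (Pi.basisFun R (Fin (2 * m))) hf _ (CoordRep.isUniv_O Q)
  have hsm : Algebra.Smooth R (Alg (cm (cf Q)) false) :=
    Coord.smooth _ false (LiftEven.lifts_of_isUnit_det _ (isUnit_det_of_isRegular Q hQ))
  exact ⟨e, he, smooth_quotient he, h⟩

open CategoryTheory AlgebraicGeometry in
/-- **smoothness and connectedness of the fibres in even rank** -/
theorem smooth_and_connected (hm : m ≠ 0) (Q : QuadraticForm R (Fin (2 * m) → R)) (hQ : IsRegular Q)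
    {G : Over (Spec (CommRingCat.of R))} [GrpObj G] (D : SOrthRep Q G) :
    AlgebraicGeometry.Smooth G.hom ∧ ∀ s : ↥(Spec (CommRingCat.of R)), ConnectedSpace ↥(G.hom.fiber s) := by
  obtain ⟨e, -, hsm, γ', hγ'⟩ := exists_isUniv_even hm Q hQ
  refine ⟨(RepC.smooth_iff D _ γ' hγ').2 hsm, fun s => ?_⟩
  exact ConnSO.fiber_connected (Pi.basisFun R (Fin (2 * m))) (by omega) ⟨fun _ => hQ, fun h => absurd h (by
    rw [Nat.not_odd_iff_even]; exact even_two_mul m)⟩ D γ' hγ' s

end Main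

end K916.DickUniv
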