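import Groth.Agent.QuadGrp.K916.Center

/-!
# The Dickson invariant of an isometry, for a form whose Clifford algebra is a graded matrix algebra
-/

set_option autoImplicit false

universe u v w u'

open CliffordAlgebra

namespace K916.Dickson

open Split Center

variable {R : Type u} [CommRing R] {M : Type v} [AddCommGroup M] [Module R M] {Q : QuadraticForm R M} {m : ℕ}

/-- the automorphism of the Clifford algebra induced by an isometry -/
noncomputable abbrev cg (g : M ≃ₗ[R] M) (hg : g ∈ QuadGrp.O Q) : CliffordAlgebra Q →ₐ[R] CliffordAlgebra Q :=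
  CliffordAlgebra.map (QuadGrp.isometryOfMem Q g hg)

theorem cg_ι (g : M ≃ₗ[R] M) (hg : g ∈ QuadGrp.O Q) (v : M) : cg g hg (ι Q v) = ι Q (g v) := by
  rw [cg, map_apply_ι]
  rfl

theorem cg_cg (g h : M ≃ₗ[R] M) (hg : g ∈ QuadGrp.O Q) (hh : h ∈ QuadGrp.O Q) (x : CliffordAlgebra Q) :
    cg g hg (cg h hh x) = cg (g * h) ((QuadGrp.O Q).mul_mem hg hh) x := by
  have : (cg g hg).comp (cg h hh) = cg (g * h) ((QuadGrp.O Q).mul_mem hg hh) := by
    apply CliffordAlgebra.hom_ext
    ext v
    change cg g hg (cg h hh (ι Q v)) = cg (g * h) _ (ι Q v)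
    rw [cg_ι, cg_ι, cg_ι]
    rfl
  exact DFunLike.congr_fun this x

theorem cg_one (x : CliffordAlgebra Q) : cg 1 (QuadGrp.O Q).one_mem x = x := by
  have : cg 1 (QuadGrp.O Q).one_mem = AlgHom.id R (CliffordAlgebra Q) := by
    apply CliffordAlgebra.hom_ext
    ext v
    change cg 1 _ (ι Q v) = ι Q v
    rw [cg_ι]
    rfl
  rw [this]; rfl

theorem cg_inv_cg (g : M ≃ₗ[R] M) (hg : g ∈ QuadGrp.O Q) (x : CliffordAlgebra Q) :
    cg g⁻¹ ((QuadGrp.O Q).inv_mem hg) (cg g hg x) = x := by
  have h := cg_cg g⁻¹ g ((QuadGrp.O Q).inv_mem hg) hg x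
  rw [h]
  have h1 : ∀ (a : M ≃ₗ[R] M) (ha : a ∈ QuadGrp.O Q), a = 1 → cg a ha x = x := by
    rintro a ha rfl
    exact cg_one x
  exact h1 _ _ (inv_mul_cancel g)

theorem cg_cg_inv (g : M ≃ₗ[R] M) (hg : g ∈ QuadGrp.O Q) (x : CliffordAlgebra Q) :
    cg g hg (cg g⁻¹ ((QuadGrp.O Q).inv_mem hg) x) = x := by
  have h := cg_cg g g⁻¹ hg ((QuadGrp.O Q).inv_mem hg) x
  rw [h]
  have h1 : ∀ (a : M ≃ₗ[R] M) (ha : a ∈ QuadGrp.O Q), a = 1 → cg a ha x = x := by
    rintro a ha rfl
    exact cg_one x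
  exact h1 _ _ (mul_inv_cancel g)

theorem cg_mem (g : M ≃ₗ[R] M) (hg : g ∈ QuadGrp.O Q) {k : ZMod 2} {x : CliffordAlgebra Q} (hx : x ∈ evenOdd Q k) :
    cg g hg x ∈ evenOdd Q k :=
  map_mem_of_mem_evenOdd (cg g hg) (evenOdd Q) (SetLike.one_mem_graded _)
    (fun _ _ _ _ h1 h2 => SetLike.mul_mem_graded h1 h2) (fun v => by rw [cg_ι]; exact ι_mem_evenOdd_one Q _) k hx

attribute [local instance] MatCl.fin MatCl.dec

variable (E : MatCl Q m)

/-- the action of an isometry on the centre of the even part is through an idempotent of the base ring -/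
theorem exists_dickson (hm : m ≠ 0) (g : M ≃ₗ[R] M) (hg : g ∈ QuadGrp.O Q) :
    ∃ δ : R, IsIdempotentElem δ ∧ cg g hg (eps E) = (1 - δ) • eps E + δ • (1 - eps E) := by
  have hcent : ∀ (g : M ≃ₗ[R] M) (hg : g ∈ QuadGrp.O Q), ∃ a b : R, cg g hg (eps E) = a • eps E + b • (1 - eps E) := by
    intro g hg
    refine exists_of_central E fun x hx => ?_
    rw [← cg_cg_inv g hg x, ← map_mul, ← map_mul, eps_comm E (cg_mem _ _ hx)]
  obtain ⟨a, b, hab⟩ := hcent g hg
  obtain ⟨c, d, hcd⟩ := hcent g⁻¹ ((QuadGrp.O Q).inv_mem hg)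
  have ha : a * a = a ∧ b * b = b := by
    have h1 : cg g hg (eps E) * cg g hg (eps E) = cg g hg (eps E) := by rw [← map_mul, eps_mul_self]
    rw [hab, lin_mul] at h1
    exact lin_injective E hm h1
  have h2 : (1 : R) • eps E + (0 : R) • (1 - eps E) =
      (c * a + d * (1 - a)) • eps E + (c * b + d * (1 - b)) • (1 - eps E) := by
    have h3 := cg_cg_inv g hg (eps E)
    rw [hcd, map_add, map_smul, map_smul, map_sub, map_one, hab] at h3
    rw [one_smul, zero_smul, add_zero]
    refine h3.symm.trans ?_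
    module
  obtain ⟨e1, e2⟩ := lin_injective E hm h2
  obtain ⟨ha, hb⟩ := ha
  have h4 : c * a = a := by linear_combination (d - c) * ha - a * e1
  have h5 : d * (1 - a) = 1 - a := by linear_combination -e1 - h4
  have h6 : c * b = 0 := by linear_combination (d - c) * hb - b * e2
  have h7 : d * (1 - b) = 0 := by linear_combination -e2 - h6
  have h8 : a * b = 0 := by linear_combination a * h6 - b * h4
  have h9 : (1 - a) * (1 - b) = 0 := by linear_combination (1 - a) * h7 - (1 - b) * h5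
  have h10 : a = 1 - b := by linear_combination h8 - h9
  exact ⟨b, hb, by rw [hab, h10]⟩

theorem isDicksonTrivial_iff (g : M ≃ₗ[R] M) (hg : g ∈ QuadGrp.O Q) :
    QuadGrp.IsDicksonTrivial Q g hg ↔ cg g hg (eps E) = eps E := by
  constructor
  · intro h
    refine h ⟨eps E, eps_mem E⟩ ?_
    rw [Subalgebra.mem_center_iff]
    intro b
    apply Subtype.ext
    exact eps_comm E b.2
  · intro h z hz
    rw [Subalgebra.mem_center_iff] at hz
    obtain ⟨a, b, hab⟩ := exists_of_central E (z := (z : CliffordAlgebra Q)) fun x hx => by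
      have := congrArg Subtype.val (hz ⟨x, hx⟩)
      exact this.symm
    rw [hab, map_add, map_smul, map_smul, map_sub, map_one]
    change a • cg g hg (eps E) + b • (1 - cg g hg (eps E)) = _
    rw [h]

/-- a central element of the even part that anticommutes with vectors, `W = c (2 eps - 1)` -/
theorem exists_of_anticomm (hm : m ≠ 0) {W : CliffordAlgebra Q}
    (hW : ∀ v, W * ι Q v = -(ι Q v * W)) :
    ∃ c : R, W = c • (2 * eps E - 1) := by
  have hinv : ∀ x, W * x = involute x * W := by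
    intro x
    induction x using CliffordAlgebra.induction with
    | algebraMap r => rw [AlgHom.commutes, Algebra.commutes]
    | ι v => rw [involute_ι, hW, neg_mul]
    | mul a b ha hb => rw [map_mul, ← mul_assoc, ha, mul_assoc, hb, mul_assoc]
    | add a b ha hb => rw [mul_add, map_add, add_mul, ha, hb]
  obtain ⟨a, b, hab⟩ := exists_of_central E (z := W) fun x hx => by
    rw [hinv, involute_eq_of_mem_even hx]
  obtain ⟨i0, hi0⟩ := E.exists_idx hm 0
  obtain ⟨i1, hi1⟩ := E.exists_idx hm 1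
  have hba : b = -a := by
    have hx : E.Φ.symm (Matrix.single i0 i1 1) ∈ evenOdd Q 1 := by
      rw [E.mem_iff, AlgEquiv.apply_symm_apply]
      exact single_mem_gmat (by rw [hi0, hi1]; rfl) 1
    have h1 := hinv (E.Φ.symm (Matrix.single i0 i1 1))
    rw [involute_eq_of_mem_odd hx, hab] at h1
    have h2 := congrArg E.Φ h1
    rw [map_mul, map_mul, map_neg, AlgEquiv.apply_symm_apply, Φ_lin] at h2
    have h3 := congrFun (congrFun h2 i0) i1
    rw [Matrix.diagonal_mul, Matrix.neg_mul, Matrix.neg_apply, Matrix.mul_diagonal, hi0, hi1, if_pos rfl,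
      if_neg (by decide), Matrix.single_apply_same, one_mul, mul_one] at h3
    rw [h3, neg_neg]
  refine ⟨a, ?_⟩
  rw [hab, hba, two_mul]
  module

/-- if `W` is a unit, even, anticommuting with vectors, on which the isometry acts by its determinant, then the
determinant is `1 - 2 δ`. -/
theorem det_eq (hm : m ≠ 0) (g : M ≃ₗ[R] M) (hg : g ∈ QuadGrp.O Q) {W : CliffordAlgebra Q}
    (hW : ∀ v, W * ι Q v = -(ι Q v * W)) (hu : IsUnit W) {d : R}
    (hd : cg g hg W = d • W) {δ : R} (hδ : cg g hg (eps E) = (1 - δ) • eps E + δ • (1 - eps E)) : d = 1 - 2 * δ := by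
  obtain ⟨c, rfl⟩ := exists_of_anticomm E hm hW
  have h1 : (2 * eps E - 1) * (2 * eps E - 1) = 1 := by
    have h : 2 * eps E - 1 = (1 : R) • eps E + (-1 : R) • (1 - eps E) := by
      rw [two_mul]; module
    rw [h, lin_mul, one_mul, neg_mul_neg, one_mul, ← one_eq_lin]
  have hc : IsUnit c := by
    have h2 : IsUnit (c • (1 : CliffordAlgebra Q)) := by
      have h3 : c • (1 : CliffordAlgebra Q) = (c • (2 * eps E - 1)) * (2 * eps E - 1) := by
        rw [smul_mul_assoc, h1]
      rw [h3]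
      exact hu.mul ⟨⟨_, _, h1, h1⟩, rfl⟩
    obtain ⟨y, hy⟩ := h2.exists_right_inv
    have h4 : c • y = 1 := by rwa [smul_mul_assoc, one_mul] at hy
    obtain ⟨i0, hi0⟩ := E.exists_idx hm 0
    have h5 := congrFun (congrFun (congrArg E.Φ h4) i0) i0
    rw [map_smul, map_one, Matrix.smul_apply, Matrix.one_apply_eq, smul_eq_mul] at h5
    exact IsUnit.of_mul_eq_one _ h5
  have h2 : cg g hg (c • (2 * eps E - 1)) = (c * (1 - 2 * δ)) • eps E + (-(c * (1 - 2 * δ))) • (1 - eps E) := by
    rw [map_smul, map_sub, map_one, two_mul, map_add, hδ]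
    module
  have h3 : d • (c • (2 * eps E - 1)) = (d * c) • eps E + (-(d * c)) • (1 - eps E) := by
    rw [two_mul]
    module
  rw [h2, h3] at hd
  have h4 := (lin_injective E hm hd).1
  have h5 : c * (d - (1 - 2 * δ)) = 0 := by linear_combination -h4
  rw [hc.mul_right_eq_zero] at h5
  exact sub_eq_zero.1 h5

end K916.Dickson
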