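import Groth.Agent.QuadGrp.K916.Split

/-!
# The standard split forms: formulas, and the graded matrix structure of the Clifford algebra in even rank
-/

set_option autoImplicit false

universe u v w u'

open CliffordAlgebra

namespace K916.SplitForm

variable (R : Type u) [CommRing R]

theorem even_apply (m : ℕ) (v : Fin (2 * m) → R) :
    QuadGrp.splitForm R (2 * m) v =
      ∑ i : Fin m, v ⟨2 * i, by omega⟩ * v ⟨2 * i + 1, by omega⟩ := by
  have h0 : (2 * m) % 2 = 0 := by omega
  have h2 : (2 * m) / 2 = m := by omega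
  rw [QuadGrp.splitForm, dif_neg (by omega), add_zero, sum_apply]
  refine Fintype.sum_equiv (finCongr h2) _ _ fun i => ?_
  rw [QuadraticMap.linMulLin_apply]
  congr 1
  · change v _ = v _
    congr 1
    apply Fin.ext
    simp [h0]
  · change v _ = v _
    congr 1
    apply Fin.ext
    simp [h0]

theorem odd_apply (m : ℕ) (v : Fin (2 * m + 1) → R) :
    QuadGrp.splitForm R (2 * m + 1) v =
      (∑ i : Fin m, v ⟨2 * i + 1, by omega⟩ * v ⟨2 * i + 2, by omega⟩) + v 0 * v 0 := by
  have h0 : (2 * m + 1) % 2 = 1 := by omega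
  have h2 : (2 * m + 1) / 2 = m := by omega
  rw [QuadGrp.splitForm, dif_pos h0, add_apply, sum_apply]
  congr 1
  refine Fintype.sum_equiv (finCongr h2) _ _ fun i => ?_
  rw [QuadraticMap.linMulLin_apply]
  congr 1
  · change v _ = v _
    congr 1
    apply Fin.ext
    simp [h0]
  · change v _ = v _
    congr 1
    apply Fin.ext
    simp [h0]

/-- the linear equivalence splitting off the last two coordinates -/
def splitLast (m : ℕ) : (Fin (2 * (m + 1)) → R) ≃ₗ[R] ((Fin (2 * m) → R) × R × R) where
  toFun v := (fun j => v ⟨j, by omega⟩, v ⟨2 * m, by omega⟩, v ⟨2 * m + 1, by omega⟩)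
  invFun p j := if h : (j : ℕ) < 2 * m then p.1 ⟨j, h⟩ else if (j : ℕ) = 2 * m then p.2.1 else p.2.2
  map_add' _ _ := rfl
  map_smul' _ _ := rfl
  left_inv v := by
    funext j
    dsimp only
    split_ifs with h1 h2
    · rfl
    · congr 1
      exact Fin.ext h2.symm
    · congr 1
      apply Fin.ext
      change 2 * m + 1 = (j : ℕ)
      omega
  right_inv p := by
    obtain ⟨v, x, y⟩ := p
    refine Prod.ext ?_ (Prod.ext ?_ ?_)
    · funext j
      dsimp only
      rw [dif_pos j.2]
    · simp
    · simp

/-- the isometry `q_{2(m+1)} = q_{2m} ⊥ H` -/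
def isometryLast (m : ℕ) :
    (QuadGrp.splitForm R (2 * (m + 1))).IsometryEquiv (Mat2.addH (QuadGrp.splitForm R (2 * m))) where
  toLinearEquiv := splitLast R m
  map_app' v := by
    change Mat2.addH (QuadGrp.splitForm R (2 * m)) (_, _, _) = _
    rw [Mat2.addH_apply, even_apply, even_apply, Fin.sum_univ_castSucc]
    rfl

/-- the Clifford algebra of the split form of rank `2m` is a graded matrix algebra. -/
noncomputable def matClSplit : (m : ℕ) → Split.MatCl (QuadGrp.splitForm R (2 * m)) m
  | 0 => by
    have : Subsingleton (Fin (2 * 0) → R) := ⟨fun a b => funext fun i => Fin.elim0 i⟩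
    exact Split.matClZero _
  | m + 1 => (Split.matClAddH (matClSplit m)).congr (isometryLast R m).symm

end K916.SplitForm
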