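import Groth.Agent.QuadGrp.K916.Alt
import Groth.Agent.QuadGrp.K916.SplitForm

/-!
# The element `W = ∏ (1 - 2 eᵢ fᵢ)` as a product of an orthogonal family, in even and odd rank
-/

set_option autoImplicit false

universe u v w u'

open CliffordAlgebra

namespace K916.WFam

variable {R : Type u} [CommRing R] {M : Type v} [AddCommGroup M] [Module R M]

/-- the product in the Clifford algebra of a family of vectors -/
noncomputable def pr (Q : QuadraticForm R M) {n : ℕ} (v : Fin n → M) : CliffordAlgebra Q := (List.ofFn fun i => ι Q (v i)).prod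

/-- an orthogonal family whose product has square one and anticommutes with all vectors -/
structure EvenFam (Q : QuadraticForm R M) (n : ℕ) where
  /-- the family -/
  v : Fin n → M
  ortho : ∀ i j, i ≠ j → QuadraticMap.polar Q (v i) (v j) = 0
  anti : ∀ u, pr Q v * ι Q u = -(ι Q u * pr Q v)
  sq : pr Q v * pr Q v = 1
  even : pr Q v ∈ evenOdd Q 0

/-- an orthogonal family whose product has square one and commutes with all vectors -/
structure OddFam (Q : QuadraticForm R M) (n : ℕ) where
  /-- the family -/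
  v : Fin n → M
  ortho : ∀ i j, i ≠ j → QuadraticMap.polar Q (v i) (v j) = 0
  comm : ∀ u, pr Q v * ι Q u = ι Q u * pr Q v
  sq : pr Q v * pr Q v = 1
  odd : pr Q v ∈ evenOdd Q 1

/-- the inclusion of `Q` in `Q ⊥ H` -/
def inclH (Q : QuadraticForm R M) : Q →qᵢ Mat2.addH Q where
  toLinearMap := LinearMap.inl R M (R × R)
  map_app' m := by
    change Mat2.addH Q (m, 0, 0) = Q m
    rw [Mat2.addH_apply, mul_zero, add_zero]

/-- the orthogonal sum `Q ⊥ ⟨1⟩` -/
def addOne (Q : QuadraticForm R M) : QuadraticForm R (M × R) := Q.prod QuadraticMap.sq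

theorem addOne_apply (Q : QuadraticForm R M) (v : M) (x : R) : addOne Q (v, x) = Q v + x * x := rfl

/-- the inclusion of `Q` in `Q ⊥ ⟨1⟩` -/
def inclOne (Q : QuadraticForm R M) : Q →qᵢ addOne Q where
  toLinearMap := LinearMap.inl R M R
  map_app' m := by
    change addOne Q (m, 0) = Q m
    rw [addOne_apply, mul_zero, add_zero]

theorem map_pr {M' : Type w} [AddCommGroup M'] [Module R M'] {Q : QuadraticForm R M} {Q' : QuadraticForm R M'}
    (f : Q →qᵢ Q') {n : ℕ} (v : Fin n → M) : CliffordAlgebra.map f (pr Q v) = pr Q' (fun i => f (v i)) := by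
  rw [pr, pr, map_list_prod, List.map_ofFn]
  congr 2
  funext i
  exact map_apply_ι f (v i)

theorem polar_isometry {M' : Type w} [AddCommGroup M'] [Module R M'] {Q : QuadraticForm R M} {Q' : QuadraticForm R M'}
    (f : Q →qᵢ Q') (x y : M) : QuadraticMap.polar Q' (f x) (f y) = QuadraticMap.polar Q x y := by
  rw [QuadraticMap.polar, QuadraticMap.polar, ← map_add, f.map_app, f.map_app, f.map_app]

/-- for a vector orthogonal to the image of `f`, `e f(x) = f(involute x) e`. -/
theorem mul_map_of_ortho {M' : Type w} [AddCommGroup M'] [Module R M'] {Q : QuadraticForm R M} {Q' : QuadraticForm R M'}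
    (f : Q →qᵢ Q') (e : M') (he : ∀ v, QuadraticMap.polar Q' e (f v) = 0) (x : CliffordAlgebra Q) :
    ι Q' e * CliffordAlgebra.map f x = CliffordAlgebra.map f (involute x) * ι Q' e := by
  induction x using CliffordAlgebra.induction with
  | algebraMap r => rw [AlgHom.commutes, AlgHom.commutes, AlgHom.commutes, Algebra.commutes]
  | ι v =>
    rw [involute_ι, map_neg, map_apply_ι, Alt.anticomm_of_ortho Q' (he v), neg_mul]
  | mul a b ha hb => rw [map_mul, ← mul_assoc, ha, mul_assoc, hb, ← mul_assoc, map_mul, map_mul]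
  | add a b ha hb => rw [map_add, mul_add, ha, hb, map_add, map_add, add_mul]

section addH

variable {Q : QuadraticForm R M}

theorem e_sq : ι (Mat2.addH Q) (0, 1, 0) * ι (Mat2.addH Q) (0, 1, 0) = 0 := by
  rw [ι_sq_scalar, Mat2.addH_apply, map_zero, mul_zero, add_zero, map_zero]

theorem f_sq : ι (Mat2.addH Q) (0, 0, 1) * ι (Mat2.addH Q) (0, 0, 1) = 0 := by
  rw [ι_sq_scalar, Mat2.addH_apply, map_zero, zero_mul, add_zero, map_zero]

theorem fe : ι (Mat2.addH Q) (0, 0, 1) * ι (Mat2.addH Q) (0, 1, 0) =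
    1 - ι (Mat2.addH Q) (0, 1, 0) * ι (Mat2.addH Q) (0, 0, 1) := by
  rw [eq_sub_iff_add_eq, ι_mul_ι_add_swap]
  have : QuadraticMap.polar (Mat2.addH Q) (0, 0, 1) (0, 1, 0) = 1 := by
    rw [QuadraticMap.polar, Prod.mk_add_mk, Prod.mk_add_mk, Mat2.addH_apply, Mat2.addH_apply, Mat2.addH_apply]
    simp
  rw [this, map_one]

theorem two_vectors : ι (Mat2.addH Q) (0, 1, 1) * ι (Mat2.addH Q) (0, 1, -1) =
    1 - 2 * (ι (Mat2.addH Q) (0, 1, 0) * ι (Mat2.addH Q) (0, 0, 1)) := by
  have h1 : ι (Mat2.addH Q) (0, 1, 1) = ι (Mat2.addH Q) (0, 1, 0) + ι (Mat2.addH Q) (0, 0, 1) := by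
    rw [← map_add]; simp
  have h2 : ι (Mat2.addH Q) (0, 1, -1) = ι (Mat2.addH Q) (0, 1, 0) - ι (Mat2.addH Q) (0, 0, 1) := by
    rw [← map_sub]; simp
  rw [h1, h2, mul_sub, add_mul, add_mul, e_sq, f_sq, fe]
  rw [two_mul]; abel

theorem T_anti_e : (1 - 2 * (ι (Mat2.addH Q) (0, 1, 0) * ι (Mat2.addH Q) (0, 0, 1))) * ι (Mat2.addH Q) (0, 1, 0) =
    -(ι (Mat2.addH Q) (0, 1, 0) * (1 - 2 * (ι (Mat2.addH Q) (0, 1, 0) * ι (Mat2.addH Q) (0, 0, 1)))) := by
  have h1 : ι (Mat2.addH Q) (0, 1, 0) * ι (Mat2.addH Q) (0, 0, 1) * ι (Mat2.addH Q) (0, 1, 0) =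
      ι (Mat2.addH Q) (0, 1, 0) := by
    rw [mul_assoc, fe, mul_sub, mul_one, ← mul_assoc, e_sq, zero_mul, sub_zero]
  rw [sub_mul, mul_sub, one_mul, mul_one, two_mul, add_mul, mul_add, h1, ← mul_assoc, e_sq, zero_mul]
  abel

theorem T_anti_f : (1 - 2 * (ι (Mat2.addH Q) (0, 1, 0) * ι (Mat2.addH Q) (0, 0, 1))) * ι (Mat2.addH Q) (0, 0, 1) =
    -(ι (Mat2.addH Q) (0, 0, 1) * (1 - 2 * (ι (Mat2.addH Q) (0, 1, 0) * ι (Mat2.addH Q) (0, 0, 1)))) := by
  have h1 : ι (Mat2.addH Q) (0, 0, 1) * (ι (Mat2.addH Q) (0, 1, 0) * ι (Mat2.addH Q) (0, 0, 1)) =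
      ι (Mat2.addH Q) (0, 0, 1) := by
    rw [← mul_assoc, fe, sub_mul, one_mul, mul_assoc, f_sq, mul_zero, sub_zero]
  rw [sub_mul, mul_sub, one_mul, mul_one, two_mul, add_mul, mul_add, h1, mul_assoc, f_sq, mul_zero]
  abel

theorem T_sq : (1 - 2 * (ι (Mat2.addH Q) (0, 1, 0) * ι (Mat2.addH Q) (0, 0, 1))) *
    (1 - 2 * (ι (Mat2.addH Q) (0, 1, 0) * ι (Mat2.addH Q) (0, 0, 1))) = 1 := by
  have h1 : (ι (Mat2.addH Q) (0, 1, 0) * ι (Mat2.addH Q) (0, 0, 1)) *
      (ι (Mat2.addH Q) (0, 1, 0) * ι (Mat2.addH Q) (0, 0, 1)) =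
      ι (Mat2.addH Q) (0, 1, 0) * ι (Mat2.addH Q) (0, 0, 1) := by
    rw [mul_assoc, ← mul_assoc (ι (Mat2.addH Q) (0, 0, 1)), fe, sub_mul, one_mul, mul_assoc, f_sq, mul_zero, sub_zero]
  simp only [two_mul, sub_mul, mul_sub, one_mul, mul_one, add_mul, mul_add, h1]
  abel

theorem polar_H (a b : M) (x y x' y' : R) : QuadraticMap.polar (Mat2.addH Q) (a, x, y) (b, x', y') =
    QuadraticMap.polar Q a b + (x * y' + x' * y) := by
  rw [QuadraticMap.polar, QuadraticMap.polar, Prod.mk_add_mk, Prod.mk_add_mk, Mat2.addH_apply, Mat2.addH_apply,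
    Mat2.addH_apply]
  ring

/-- adding a hyperbolic plane -/
noncomputable def EvenFam.addH {n : ℕ} (F : EvenFam Q n) : EvenFam (Mat2.addH Q) (n + 2) := by
  have hpr : pr (Mat2.addH Q) (Fin.cons (0, 1, 1) (Fin.cons (0, 1, -1) fun i => (F.v i, 0, 0)) : Fin (n + 2) → M × R × R) =
      (1 - 2 * (ι (Mat2.addH Q) (0, 1, 0) * ι (Mat2.addH Q) (0, 0, 1))) * CliffordAlgebra.map (inclH Q) (pr Q F.v) := by
    rw [pr, List.ofFn_succ, List.ofFn_succ, List.prod_cons, List.prod_cons, ← mul_assoc, map_pr]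
    congr 1
    exact two_vectors
  have horth1 : ∀ v : M, QuadraticMap.polar (Mat2.addH Q) (0, 1, 0) (inclH Q v) = 0 := by
    intro v
    change QuadraticMap.polar (Mat2.addH Q) (0, 1, 0) (v, 0, 0) = 0
    rw [polar_H]; simp
  have horth2 : ∀ v : M, QuadraticMap.polar (Mat2.addH Q) (0, 0, 1) (inclH Q v) = 0 := by
    intro v
    change QuadraticMap.polar (Mat2.addH Q) (0, 0, 1) (v, 0, 0) = 0
    rw [polar_H]; simp
  have heW : ι (Mat2.addH Q) (0, 1, 0) * CliffordAlgebra.map (inclH Q) (pr Q F.v) =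
      CliffordAlgebra.map (inclH Q) (pr Q F.v) * ι (Mat2.addH Q) (0, 1, 0) := by
    rw [mul_map_of_ortho _ _ horth1, involute_eq_of_mem_even F.even]
  have hfW : ι (Mat2.addH Q) (0, 0, 1) * CliffordAlgebra.map (inclH Q) (pr Q F.v) =
      CliffordAlgebra.map (inclH Q) (pr Q F.v) * ι (Mat2.addH Q) (0, 0, 1) := by
    rw [mul_map_of_ortho _ _ horth2, involute_eq_of_mem_even F.even]
  have hTx : ∀ x : CliffordAlgebra Q,
      (1 - 2 * (ι (Mat2.addH Q) (0, 1, 0) * ι (Mat2.addH Q) (0, 0, 1))) * CliffordAlgebra.map (inclH Q) x =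
      CliffordAlgebra.map (inclH Q) x * (1 - 2 * (ι (Mat2.addH Q) (0, 1, 0) * ι (Mat2.addH Q) (0, 0, 1))) := by
    intro x
    have h1 : ι (Mat2.addH Q) (0, 1, 0) * ι (Mat2.addH Q) (0, 0, 1) * CliffordAlgebra.map (inclH Q) x =
        CliffordAlgebra.map (inclH Q) x * (ι (Mat2.addH Q) (0, 1, 0) * ι (Mat2.addH Q) (0, 0, 1)) := by
      rw [mul_assoc, mul_map_of_ortho _ _ horth2, ← mul_assoc, mul_map_of_ortho _ _ horth1, involute_involute, mul_assoc]
    rw [sub_mul, mul_sub, one_mul, mul_one, two_mul, add_mul, mul_add, h1]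
  exact
  { v := Fin.cons (0, 1, 1) (Fin.cons (0, 1, -1) fun i => (F.v i, 0, 0))
    ortho := by
      intro i j
      refine Fin.cases (fun hij => ?_) (fun i => ?_) i
      · revert hij
        refine Fin.cases (fun h => absurd rfl h) (fun j => ?_) j
        refine Fin.cases (fun _ => ?_) (fun j _ => ?_) j
        · change QuadraticMap.polar (Mat2.addH Q) (0, 1, 1) (0, 1, -1) = 0
          rw [polar_H]; simp
        · change QuadraticMap.polar (Mat2.addH Q) (0, 1, 1) (F.v j, 0, 0) = 0
          rw [polar_H]; simp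
      · refine Fin.cases (fun hij => ?_) (fun i hij => ?_) i
        · revert hij
          refine Fin.cases (fun _ => ?_) (fun j => ?_) j
          · change QuadraticMap.polar (Mat2.addH Q) (0, 1, -1) (0, 1, 1) = 0
            rw [polar_H]; simp
          · refine Fin.cases (fun h => absurd rfl h) (fun j _ => ?_) j
            change QuadraticMap.polar (Mat2.addH Q) (0, 1, -1) (F.v j, 0, 0) = 0
            rw [polar_H]; simp
        · revert hij
          refine Fin.cases (fun _ => ?_) (fun j => ?_) j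
          · change QuadraticMap.polar (Mat2.addH Q) (F.v i, 0, 0) (0, 1, 1) = 0
            rw [polar_H]; simp
          · refine Fin.cases (fun _ => ?_) (fun j hij => ?_) j
            · change QuadraticMap.polar (Mat2.addH Q) (F.v i, 0, 0) (0, 1, -1) = 0
              rw [polar_H]; simp
            · change QuadraticMap.polar (Mat2.addH Q) (F.v i, 0, 0) (F.v j, 0, 0) = 0
              rw [polar_H, F.ortho i j (fun h => hij (by rw [h]))]; simp
    anti := by
      rintro ⟨a, x, y⟩
      have h0 : ι (Mat2.addH Q) (a, x, y) = CliffordAlgebra.map (inclH Q) (ι Q a) + x • ι (Mat2.addH Q) (0, 1, 0) +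
          y • ι (Mat2.addH Q) (0, 0, 1) := by
        rw [map_apply_ι, ← map_smul, ← map_smul, ← map_add, ← map_add]
        congr 1
        change _ = (a, (0 : R × R)) + _ + _
        ext <;> simp
      rw [hpr, h0]
      have hA : (1 - 2 * (ι (Mat2.addH Q) (0, 1, 0) * ι (Mat2.addH Q) (0, 0, 1))) *
          CliffordAlgebra.map (inclH Q) (pr Q F.v) * CliffordAlgebra.map (inclH Q) (ι Q a) =
          -(CliffordAlgebra.map (inclH Q) (ι Q a) * ((1 - 2 * (ι (Mat2.addH Q) (0, 1, 0) * ι (Mat2.addH Q) (0, 0, 1))) *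
          CliffordAlgebra.map (inclH Q) (pr Q F.v))) := by
        rw [mul_assoc, ← map_mul (CliffordAlgebra.map (inclH Q)), F.anti, map_neg, map_mul, mul_neg, ← mul_assoc, hTx, mul_assoc]
      have hE : (1 - 2 * (ι (Mat2.addH Q) (0, 1, 0) * ι (Mat2.addH Q) (0, 0, 1))) *
          CliffordAlgebra.map (inclH Q) (pr Q F.v) * ι (Mat2.addH Q) (0, 1, 0) =
          -(ι (Mat2.addH Q) (0, 1, 0) * ((1 - 2 * (ι (Mat2.addH Q) (0, 1, 0) * ι (Mat2.addH Q) (0, 0, 1))) *
          CliffordAlgebra.map (inclH Q) (pr Q F.v))) := by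
        rw [mul_assoc, ← heW, ← mul_assoc, T_anti_e, neg_mul, mul_assoc]
      have hF : (1 - 2 * (ι (Mat2.addH Q) (0, 1, 0) * ι (Mat2.addH Q) (0, 0, 1))) *
          CliffordAlgebra.map (inclH Q) (pr Q F.v) * ι (Mat2.addH Q) (0, 0, 1) =
          -(ι (Mat2.addH Q) (0, 0, 1) * ((1 - 2 * (ι (Mat2.addH Q) (0, 1, 0) * ι (Mat2.addH Q) (0, 0, 1))) *
          CliffordAlgebra.map (inclH Q) (pr Q F.v))) := by
        rw [mul_assoc, ← hfW, ← mul_assoc, T_anti_f, neg_mul, mul_assoc]
      rw [mul_add, mul_add, add_mul, add_mul, hA, mul_smul_comm, mul_smul_comm, hE, hF, smul_mul_assoc, smul_mul_assoc,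
        smul_neg, smul_neg]
      abel
    sq := by
      rw [hpr, mul_assoc, ← mul_assoc (CliffordAlgebra.map (inclH Q) (pr Q F.v)), ← hTx, mul_assoc,
        ← map_mul (CliffordAlgebra.map (inclH Q)), F.sq,
        map_one, mul_one, T_sq]
    even := by
      rw [hpr]
      have h1 : (1 - 2 * (ι (Mat2.addH Q) (0, 1, 0) * ι (Mat2.addH Q) (0, 0, 1))) ∈ evenOdd (Mat2.addH Q) 0 := by
        rw [two_mul]
        have h2 := ι_mul_ι_mem_evenOdd_zero (Mat2.addH Q) (0, 1, 0) (0, 0, 1)
        exact Submodule.sub_mem _ (SetLike.one_mem_graded _) (Submodule.add_mem _ h2 h2)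
      have h3 : CliffordAlgebra.map (inclH Q) (pr Q F.v) ∈ evenOdd (Mat2.addH Q) 0 :=
        Split.map_mem_of_mem_evenOdd (CliffordAlgebra.map (inclH Q)) (evenOdd (Mat2.addH Q)) (SetLike.one_mem_graded _)
          (fun _ _ _ _ h1 h2 => SetLike.mul_mem_graded h1 h2)
          (fun v => by rw [map_apply_ι]; exact ι_mem_evenOdd_one _ _) 0 F.even
      have := SetLike.mul_mem_graded h1 h3
      rwa [add_zero] at this }

end addH

section addOne

variable {Q : QuadraticForm R M}

theorem polar_One (a b : M) (x x' : R) : QuadraticMap.polar (addOne Q) (a, x) (b, x') =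
    QuadraticMap.polar Q a b + 2 * (x * x') := by
  rw [QuadraticMap.polar, QuadraticMap.polar, Prod.mk_add_mk, addOne_apply, addOne_apply, addOne_apply]
  ring

/-- adding an orthogonal vector of square one -/
noncomputable def EvenFam.addOne {n : ℕ} (F : EvenFam Q n) : OddFam (addOne Q) (n + 1) := by
  have hpr : pr (WFam.addOne Q) (Fin.cons (0, 1) fun i => (F.v i, 0) : Fin (n + 1) → M × R) =
      ι (WFam.addOne Q) (0, 1) * CliffordAlgebra.map (inclOne Q) (pr Q F.v) := by
    rw [pr, List.ofFn_succ, List.prod_cons, map_pr]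
    rfl
  have horth : ∀ v : M, QuadraticMap.polar (WFam.addOne Q) (0, 1) (inclOne Q v) = 0 := by
    intro v
    change QuadraticMap.polar (WFam.addOne Q) (0, 1) (v, 0) = 0
    rw [polar_One]; simp
  have heW : ι (WFam.addOne Q) (0, 1) * CliffordAlgebra.map (inclOne Q) (pr Q F.v) =
      CliffordAlgebra.map (inclOne Q) (pr Q F.v) * ι (WFam.addOne Q) (0, 1) := by
    rw [mul_map_of_ortho _ _ horth, involute_eq_of_mem_even F.even]
  have hsq : ι (WFam.addOne Q) (0, 1) * ι (WFam.addOne Q) (0, 1) = 1 := by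
    rw [ι_sq_scalar, addOne_apply, map_zero, mul_one, zero_add, map_one]
  exact
  { v := Fin.cons (0, 1) fun i => (F.v i, 0)
    ortho := by
      intro i j
      refine Fin.cases (fun hij => ?_) (fun i hij => ?_) i
      · revert hij
        refine Fin.cases (fun h => absurd rfl h) (fun j _ => ?_) j
        change QuadraticMap.polar (WFam.addOne Q) (0, 1) (F.v j, 0) = 0
        rw [polar_One]; simp
      · revert hij
        refine Fin.cases (fun _ => ?_) (fun j hij => ?_) j
        · change QuadraticMap.polar (WFam.addOne Q) (F.v i, 0) (0, 1) = 0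
          rw [polar_One]; simp
        · change QuadraticMap.polar (WFam.addOne Q) (F.v i, 0) (F.v j, 0) = 0
          rw [polar_One, F.ortho i j (fun h => hij (by rw [h]))]; simp
    comm := by
      rintro ⟨a, x⟩
      have h0 : ι (WFam.addOne Q) (a, x) = CliffordAlgebra.map (inclOne Q) (ι Q a) + x • ι (WFam.addOne Q) (0, 1) := by
        rw [map_apply_ι, ← map_smul, ← map_add]
        congr 1
        change _ = (a, (0 : R)) + _
        ext <;> simp
      rw [hpr, h0]
      have hA : ι (WFam.addOne Q) (0, 1) * CliffordAlgebra.map (inclOne Q) (pr Q F.v) *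
          CliffordAlgebra.map (inclOne Q) (ι Q a) =
          CliffordAlgebra.map (inclOne Q) (ι Q a) * (ι (WFam.addOne Q) (0, 1) *
          CliffordAlgebra.map (inclOne Q) (pr Q F.v)) := by
        rw [mul_assoc, ← map_mul (CliffordAlgebra.map (inclOne Q)), F.anti, map_neg, map_mul, mul_neg, ← mul_assoc,
          mul_map_of_ortho _ _ horth, involute_ι, map_neg, neg_mul, neg_mul, neg_neg, mul_assoc]
      rw [mul_add, add_mul, hA, mul_smul_comm, smul_mul_assoc, mul_assoc, ← heW]
    sq := by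
      rw [hpr, mul_assoc, ← mul_assoc (CliffordAlgebra.map (inclOne Q) (pr Q F.v)), ← heW, mul_assoc,
        ← map_mul (CliffordAlgebra.map (inclOne Q)), F.sq, map_one, mul_one, hsq]
    odd := by
      rw [hpr]
      have h3 : CliffordAlgebra.map (inclOne Q) (pr Q F.v) ∈ evenOdd (WFam.addOne Q) 0 :=
        Split.map_mem_of_mem_evenOdd (CliffordAlgebra.map (inclOne Q)) (evenOdd (WFam.addOne Q))
          (SetLike.one_mem_graded _) (fun _ _ _ _ h1 h2 => SetLike.mul_mem_graded h1 h2)
          (fun v => by rw [map_apply_ι]; exact ι_mem_evenOdd_one _ _) 0 F.even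
      have := SetLike.mul_mem_graded (ι_mem_evenOdd_one (WFam.addOne Q) (0, 1)) h3
      rwa [add_zero] at this }

end addOne

section transport

variable {M' : Type w} [AddCommGroup M'] [Module R M'] {Q : QuadraticForm R M} {Q' : QuadraticForm R M'}

theorem map_surj (f : Q →qᵢ Q') (hf : Function.Surjective f) (v : M') : ∃ u : M, CliffordAlgebra.map f (ι Q u) = ι Q' v := by
  obtain ⟨u, rfl⟩ := hf v
  exact ⟨u, map_apply_ι f u⟩

theorem map_mem (f : Q →qᵢ Q') {k : ZMod 2} {x : CliffordAlgebra Q} (hx : x ∈ evenOdd Q k) :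
    CliffordAlgebra.map f x ∈ evenOdd Q' k :=
  Split.map_mem_of_mem_evenOdd (CliffordAlgebra.map f) (evenOdd Q') (SetLike.one_mem_graded _)
    (fun _ _ _ _ h1 h2 => SetLike.mul_mem_graded h1 h2)
    (fun v => by rw [map_apply_ι]; exact ι_mem_evenOdd_one _ _) k hx

/-- transport of an even family -/
noncomputable def EvenFam.congr {n : ℕ} (F : EvenFam Q n) (e : Q.IsometryEquiv Q') : EvenFam Q' n where
  v i := e (F.v i)
  ortho i j hij := by
    have := polar_isometry e.toIsometry (F.v i) (F.v j)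
    rw [F.ortho i j hij] at this
    exact this
  anti u := by
    obtain ⟨u, rfl⟩ := e.toLinearEquiv.surjective u
    have h := congrArg (CliffordAlgebra.map e.toIsometry) (F.anti u)
    rw [map_mul, map_neg, map_mul, map_pr, map_apply_ι] at h
    exact h
  sq := by
    have h := congrArg (CliffordAlgebra.map e.toIsometry) F.sq
    rw [map_mul, map_one, map_pr] at h
    exact h
  even := by
    have h := map_mem e.toIsometry F.even
    rw [map_pr] at h
    exact h

/-- transport of an odd family -/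
noncomputable def OddFam.congr {n : ℕ} (F : OddFam Q n) (e : Q.IsometryEquiv Q') : OddFam Q' n where
  v i := e (F.v i)
  ortho i j hij := by
    have := polar_isometry e.toIsometry (F.v i) (F.v j)
    rw [F.ortho i j hij] at this
    exact this
  comm u := by
    obtain ⟨u, rfl⟩ := e.toLinearEquiv.surjective u
    have h := congrArg (CliffordAlgebra.map e.toIsometry) (F.comm u)
    rw [map_mul, map_mul, map_pr, map_apply_ι] at h
    exact h
  sq := by
    have h := congrArg (CliffordAlgebra.map e.toIsometry) F.sq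
    rw [map_mul, map_one, map_pr] at h
    exact h
  odd := by
    have h := map_mem e.toIsometry F.odd
    rw [map_pr] at h
    exact h

end transport

/-- the empty family -/
noncomputable def evenFamZero [Subsingleton M] (Q : QuadraticForm R M) : EvenFam Q 0 where
  v i := i.elim0
  ortho i := i.elim0
  anti u := by rw [Subsingleton.elim u 0, map_zero, mul_zero, zero_mul, neg_zero]
  sq := by simp [pr]
  even := by
    have : pr Q (fun i : Fin 0 => (i.elim0 : M)) = 1 := by simp [pr]
    rw [this]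
    exact SetLike.one_mem_graded _

variable (R)

/-- the even family for the split form -/
noncomputable def evenFamSplit : (m : ℕ) → EvenFam (QuadGrp.splitForm R (2 * m)) (2 * m)
  | 0 => by
    have : Subsingleton (Fin (2 * 0) → R) := ⟨fun a b => funext fun i => Fin.elim0 i⟩
    exact evenFamZero _
  | m + 1 => (evenFamSplit m).addH.congr (SplitForm.isometryLast R m).symm

/-- the linear equivalence splitting off the first coordinate -/
def splitFirst (m : ℕ) : (Fin (2 * m + 1) → R) ≃ₗ[R] ((Fin (2 * m) → R) × R) where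
  toFun v := (fun j => v j.succ, v 0)
  invFun p := Fin.cons p.2 p.1
  map_add' _ _ := rfl
  map_smul' _ _ := rfl
  left_inv v := by
    funext j
    refine Fin.cases rfl (fun j => rfl) j
  right_inv p := rfl

/-- the isometry `q_{2m+1} = q_{2m} ⊥ ⟨1⟩` -/
def isometryFirst (m : ℕ) :
    (QuadGrp.splitForm R (2 * m + 1)).IsometryEquiv (addOne (QuadGrp.splitForm R (2 * m))) where
  toLinearEquiv := splitFirst R m
  map_app' v := by
    change addOne (QuadGrp.splitForm R (2 * m)) (_, _) = _
    rw [addOne_apply, SplitForm.even_apply, SplitForm.odd_apply]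
    rfl

/-- the odd family for the split form -/
noncomputable def oddFamSplit (m : ℕ) : OddFam (QuadGrp.splitForm R (2 * m + 1)) (2 * m + 1) :=
  (evenFamSplit R m).addOne.congr (isometryFirst R m).symm

end K916.WFam
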