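import Groth.Agent.QuadGrp.K916.Bridge
import Groth.Agent.QuadGrp.K916.WFam
import Groth.Agent.QuadGrp.K916.BC

/-!
# Base change of orthogonal families and of the split form
-/

set_option autoImplicit false

universe u v w u'

open CliffordAlgebra TensorProduct

namespace K916.FamBC

open BC WFam Dickson

section General

variable {R : Type u} [CommRing R] {M : Type v} [AddCommGroup M] [Module R M]
variable {A : Type u'} [CommRing A] [Algebra R A] {M' : Type w} [AddCommGroup M'] [Module R M'] [Module A M']
  [IsScalarTower R A M']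
variable {Q : QuadraticForm R M} {Q' : QuadraticForm A M'} {f : M →ₗ[R] M'}

theorem cmap_pr (h : Compat A Q Q' f) {n : ℕ} (v : Fin n → M) : cmap h (pr Q v) = pr Q' (fun i => f (v i)) := by
  rw [pr, pr, map_list_prod, List.map_ofFn]
  congr 2
  funext i
  exact cmap_ι h (v i)

/-- a linear identity on vectors may be checked on the image of the base change map -/
theorem forall_of_image (h : IsBC A Q Q' f) {N : Type*} [AddCommGroup N] [Module A N] (F G : M' →ₗ[A] N)
    (H : ∀ u, F (f u) = G (f u)) (u : M') : F u = G u := by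
  induction u using h.isBaseChange.inductionOn with
  | zero => rw [map_zero, map_zero]
  | tmul x => exact H x
  | smul a y hy => rw [map_smul, map_smul, hy]
  | add y z hy hz => rw [map_add, map_add, hy, hz]

/-- base change of an even family -/
noncomputable def EvenFam.baseChange {n : ℕ} (F : EvenFam Q n) (h : IsBC A Q Q' f) : EvenFam Q' n where
  v i := f (F.v i)
  ortho i j hij := by rw [h.compat.polar, F.ortho i j hij, map_zero]
  anti u := by
    refine forall_of_image h (LinearMap.mulLeft A (pr Q' fun i => f (F.v i)) ∘ₗ ι Q')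
      (-(LinearMap.mulRight A (pr Q' fun i => f (F.v i)) ∘ₗ ι Q')) (fun u => ?_) u
    change (pr Q' fun i => f (F.v i)) * ι Q' (f u) = -(ι Q' (f u) * (pr Q' fun i => f (F.v i)))
    rw [← cmap_pr h.compat, ← cmap_ι h.compat, ← map_mul, F.anti, map_neg, map_mul]
  sq := by rw [← cmap_pr h.compat, ← map_mul, F.sq, map_one]
  even := by
    rw [← cmap_pr h.compat]
    exact cmap_mem_evenOdd h.compat 0 F.even

/-- base change of an odd family -/
noncomputable def OddFam.baseChange {n : ℕ} (F : OddFam Q n) (h : IsBC A Q Q' f) : OddFam Q' n where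
  v i := f (F.v i)
  ortho i j hij := by rw [h.compat.polar, F.ortho i j hij, map_zero]
  comm u := by
    refine forall_of_image h (LinearMap.mulLeft A (pr Q' fun i => f (F.v i)) ∘ₗ ι Q')
      (LinearMap.mulRight A (pr Q' fun i => f (F.v i)) ∘ₗ ι Q') (fun u => ?_) u
    change (pr Q' fun i => f (F.v i)) * ι Q' (f u) = ι Q' (f u) * (pr Q' fun i => f (F.v i))
    rw [← cmap_pr h.compat, ← cmap_ι h.compat, ← map_mul, F.comm, map_mul]
  sq := by rw [← cmap_pr h.compat, ← map_mul, F.sq, map_one]
  odd := by
    rw [← cmap_pr h.compat]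
    exact cmap_mem_evenOdd h.compat 1 F.odd

/-- `C(g)` is compatible with base change -/
theorem cmap_cg (h : Compat A Q Q' f) (g : M ≃ₗ[R] M) (hg : g ∈ QuadGrp.O Q) (g' : M' ≃ₗ[A] M') (hg' : g' ∈ QuadGrp.O Q')
    (hgg : ∀ v, g' (f v) = f (g v)) (x : CliffordAlgebra Q) : cmap h (cg g hg x) = cg g' hg' (cmap h x) := by
  have := ringHom_ext (Q := Q) (F := ((cmap h).comp (cg g hg)).toRingHom)
    (G := (cg g' hg').toRingHom.comp (cmap h).toRingHom)
    (fun v => by
      change cmap h (cg g hg (ι Q v)) = cg g' hg' (cmap h (ι Q v))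
      rw [cg_ι, cmap_ι, cmap_ι, cg_ι, hgg])
    (fun r => by
      change cmap h (cg g hg (algebraMap R _ r)) = cg g' hg' (cmap h (algebraMap R _ r))
      rw [AlgHom.commutes, cmap_algebraMap, AlgHom.commutes])
    x
  exact this

end General

section Split

variable (T : Type u) [CommRing T] (S : Type u') [CommRing S] [Algebra T S] (n : ℕ)

/-- the coordinatewise map `T^n → S^n` -/
noncomputable def coordMap : (Fin n → T) →ₗ[T] (Fin n → S) :=
  LinearMap.pi fun i => Algebra.linearMap T S ∘ₗ LinearMap.proj i

theorem coordMap_apply (x : Fin n → T) : coordMap T S n x = algebraMap T S ∘ x := rfl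

theorem isBaseChange_coordMap : IsBaseChange S (coordMap T S n) :=
  Desc.isBaseChange_pi S (IsBaseChange.linearMap T S)

theorem isBC_split : IsBC S (QuadGrp.splitForm T n) (QuadGrp.splitForm S n) (coordMap T S n) where
  isBaseChange := isBaseChange_coordMap T S n
  compat x := by rw [K917.Coef.map_splitForm, coordMap_apply]

end Split

end K916.FamBC
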