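import Groth.Agent.QuadGrp.K916.Parts
import Groth.Agent.QuadGrp.K916.DetW
import Groth.Agent.QuadGrp.K917.Central
import Mathlib.LinearAlgebra.Charpoly.BaseChange

/-!
# Splitting a non-degenerate form over a faithfully flat algebra: the induced data
-/

set_option autoImplicit false

universe u v w u'

open CliffordAlgebra TensorProduct

namespace K916.Glob

open BC Dickson

section Equiv

variable {R : Type u} [CommRing R] {M : Type v} [AddCommGroup M] [Module R M]
variable {A : Type u'} [CommRing A] [Algebra R A] {M' : Type w} [AddCommGroup M'] [Module R M'] [Module A M']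
  [IsScalarTower R A M']
variable {Q : QuadraticForm R M} {Q' : QuadraticForm A M'} {f : M →ₗ[R] M'}

/-- quadratic forms on a base change agree if they agree on the image -/
theorem form_ext (hf : IsBaseChange A f) {Q1 Q2 : QuadraticForm A M'} (h : ∀ v, Q1 (f v) = Q2 (f v)) : Q1 = Q2 := by
  have hp0 : ∀ v w, QuadraticMap.polar Q1 (f v) (f w) = QuadraticMap.polar Q2 (f v) (f w) := by
    intro v w
    rw [QuadraticMap.polar, QuadraticMap.polar, ← map_add, h, h, h]
  have hp : ∀ x y, QuadraticMap.polar Q1 x y = QuadraticMap.polar Q2 x y := by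
    intro x y
    induction x using hf.inductionOn with
    | zero => rw [QuadraticMap.polar_zero_left, QuadraticMap.polar_zero_left]
    | tmul v =>
      induction y using hf.inductionOn with
      | zero => rw [QuadraticMap.polar_zero_right, QuadraticMap.polar_zero_right]
      | tmul w => exact hp0 v w
      | smul a y hy => rw [QuadraticMap.polar_smul_right, QuadraticMap.polar_smul_right, hy]
      | add y z hy hz => rw [QuadraticMap.polar_add_right, QuadraticMap.polar_add_right, hy, hz]
    | smul a y hy => rw [QuadraticMap.polar_smul_left, QuadraticMap.polar_smul_left, hy]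
    | add y z hy hz => rw [QuadraticMap.polar_add_left, QuadraticMap.polar_add_left, hy, hz]
  ext x
  induction x using hf.inductionOn with
  | zero => rw [map_zero, map_zero]
  | tmul v => exact h v
  | smul a y hy => rw [QuadraticMap.map_smul, QuadraticMap.map_smul, hy]
  | add y z hy hz =>
    have h1 := hp y z
    rw [QuadraticMap.polar, QuadraticMap.polar] at h1
    linear_combination h1 + hy + hz

/-- base change of a linear automorphism -/
noncomputable def bcEquiv (hf : IsBaseChange A f) (g : M ≃ₗ[R] M) : M' ≃ₗ[A] M' :=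
  hf.equiv.symm ≪≫ₗ (g.baseChange R A M M) ≪≫ₗ hf.equiv

theorem bcEquiv_apply (hf : IsBaseChange A f) (g : M ≃ₗ[R] M) (v : M) : bcEquiv hf g (f v) = f (g v) := by
  rw [bcEquiv, LinearEquiv.trans_apply, LinearEquiv.trans_apply, hf.equiv_symm_apply]
  change hf.equiv (1 ⊗ₜ g v) = f (g v)
  rw [hf.equiv_tmul, one_smul]

theorem bcEquiv_mem (h : IsBC A Q Q' f) {g : M ≃ₗ[R] M} (hg : g ∈ QuadGrp.O Q) :
    bcEquiv h.isBaseChange g ∈ QuadGrp.O Q' := by
  have : Q'.comp (bcEquiv h.isBaseChange g).toLinearMap = Q' := by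
    refine form_ext h.isBaseChange fun v => ?_
    change Q' (bcEquiv h.isBaseChange g (f v)) = Q' (f v)
    rw [bcEquiv_apply, h.compat, h.compat, (QuadGrp.mem_O Q g).1 hg]
  intro x
  exact DFunLike.congr_fun this x

theorem det_bcEquiv [Module.Free R M] [Module.Finite R M] (hf : IsBaseChange A f) (g : M ≃ₗ[R] M) :
    LinearMap.det (bcEquiv hf g : M' →ₗ[A] M') = algebraMap R A (LinearMap.det (g : M →ₗ[R] M)) := by
  have h1 : (bcEquiv hf g : M' →ₗ[A] M') =
      (hf.equiv : A ⊗[R] M →ₗ[A] M') ∘ₗ ((g : M →ₗ[R] M).baseChange A) ∘ₗ (hf.equiv.symm : M' →ₗ[A] A ⊗[R] M) := by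
    ext x
    rfl
  rw [h1, LinearMap.det_conj, LinearMap.det_baseChange]

theorem cmap_cg_bc (h : IsBC A Q Q' f) {g : M ≃ₗ[R] M} (hg : g ∈ QuadGrp.O Q) (x : CliffordAlgebra Q) :
    cmap h.compat (cg g hg x) = cg _ (bcEquiv_mem h hg) (cmap h.compat x) :=
  FamBC.cmap_cg h.compat g hg _ _ (bcEquiv_apply h.isBaseChange g) x

end Equiv

section Exists

variable {R : Type u} [CommRing R] {M : Type v} [AddCommGroup M] [Module R M] [Module.Free R M]

/-- a non-degenerate form becomes the split form over a faithfully flat finitely presented algebra -/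
theorem exists_isBC {n : ℕ} (b : Module.Basis (Fin n) R M) (Q : QuadraticForm R M)
    (hQ : QuadGrp.IsNondeg b (LinearEquiv.refl R R) Q) :
    ∃ (A : Type u) (_ : CommRing A) (_ : Algebra R A), Module.FaithfullyFlat R A ∧ Algebra.FinitePresentation R A ∧
      ∃ f : M →ₗ[R] (Fin n → A), IsBC A Q (QuadGrp.splitForm A n) f := by
  obtain ⟨A, _, _, h1, h2, c, hc⟩ := K917.Cover.exists_split b Q hQ
  refine ⟨A, inferInstance, inferInstance, h1, h2, (c.equivFun.toLinearMap.restrictScalars R) ∘ₗ TensorProduct.mk R A M 1, ?_, ?_⟩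
  · exact IsBaseChange.of_equiv c.equivFun fun x => rfl
  · intro m
    change QuadGrp.splitForm A n (c.equivFun (1 ⊗ₜ m)) = _
    rw [← K917.Base.baseChangeForm_one_tmul A Q m, ← K917.Central.qval hc, LinearEquiv.symm_apply_apply]

end Exists

end K916.Glob
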