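import Groth.Agent.QuadGrp.K917.Coef
import Mathlib.RingTheory.MvPolynomial.Homogeneous

/-!
# Scaling of the half-discriminant
-/

set_option autoImplicit false

universe u v

open QuadGrp MvPolynomial

namespace K916.HDScale

theorem isHomogeneous_discUniv (n : ℕ) : (discUniv n).IsHomogeneous n := by
  rw [discUniv, Matrix.det_apply]
  refine IsHomogeneous.sum _ _ _ fun σ _ => ?_
  have h1 : (∏ i, univPolarMat n (σ i) i).IsHomogeneous n := by
    have := IsHomogeneous.prod Finset.univ (fun i => univPolarMat n (σ i) i) (fun _ => 1) fun i _ => by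
      rw [univPolarMat, Matrix.of_apply]
      split_ifs
      · rw [show (2 : MvPolynomial (Sym2 (Fin n)) ℤ) = C 2 from (map_ofNat C 2).symm]
        exact isHomogeneous_C_mul_X _ _
      · exact isHomogeneous_X _ _
    simpa using this
  rcases Int.units_eq_one_or (Equiv.Perm.sign σ) with h | h
  · rw [h, one_smul]; exact h1
  · rw [h, Units.smul_def, Units.val_neg, Units.val_one, neg_smul, one_smul]; exact h1.neg

theorem isHomogeneous_halfDiscUniv (n : ℕ) : (halfDiscUniv n).IsHomogeneous n := by
  intro d hd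
  rw [coeff_halfDiscUniv] at hd
  refine isHomogeneous_discUniv n (fun h => hd ?_)
  rw [h]
  decide

theorem eval₂_smul_of_isHomogeneous {σ : Type v} {A : Type u} [CommRing A] {m : ℕ} {p : MvPolynomial σ ℤ}
    (hp : p.IsHomogeneous m) (c : A) (g : σ → A) :
    eval₂ (Int.castRingHom A) (fun i => c * g i) p = c ^ m * eval₂ (Int.castRingHom A) g p := by
  rw [eval₂_eq, eval₂_eq, Finset.mul_sum]
  refine Finset.sum_congr rfl fun d hd => ?_
  have h1 : Finsupp.degree d = m := by
    by_contra h
    exact (mem_support_iff.1 hd) (hp.coeff_eq_zero h)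
  have h2 : ∏ i ∈ d.support, (c * g i) ^ d i = c ^ m * ∏ i ∈ d.support, g i ^ d i := by
    simp only [mul_pow]
    rw [Finset.prod_mul_distrib, Finset.prod_pow_eq_pow_sum]
    congr 2
  rw [h2]
  ring

variable {A : Type u} [CommRing A] {n : ℕ}

theorem halfDisc_qf (a : Sym2 (Fin n) → A) :
    halfDisc (Pi.basisFun A (Fin n)) (LinearEquiv.refl A A) (K917.Coef.qf a) =
      eval₂ (Int.castRingHom A) a (halfDiscUniv n) := by
  rw [halfDisc, show coeffs (Pi.basisFun A (Fin n)) (LinearEquiv.refl A A) (K917.Coef.qf a) = a from K917.Coef.cf_qf _]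

/-- `disc' (c Q) = c ^ n disc' Q` -/
theorem halfDisc_smul (c : A) (Q : QuadraticForm A (Fin n → A)) :
    halfDisc (Pi.basisFun A (Fin n)) (LinearEquiv.refl A A) (c • Q) =
      c ^ n * halfDisc (Pi.basisFun A (Fin n)) (LinearEquiv.refl A A) Q := by
  rw [← K917.Coef.qf_cf Q, ← K917.Coef.qf_smul, halfDisc_qf, halfDisc_qf]
  exact eval₂_smul_of_isHomogeneous (isHomogeneous_halfDiscUniv n) c _

end K916.HDScale
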