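import Groth.Agent.QuadGrp.K916.HDScale
import Groth.Agent.QuadGrp.K916.Bridge
import Groth.Agent.QuadGrp.K916.Desc
import Groth.Agent.QuadGrp.K917.Semireg
import Groth.Agent.QuadGrp.K918.HalfDisc

/-!
# The deformation property of non-degenerate forms; infinitesimal lifting of isometries of determinant one in odd rank
-/

set_option autoImplicit false

universe u v

open QuadGrp QuadraticMap Matrix

namespace K916.LiftOdd

open K917.Coef K917.Deform K917.Cover Coord Bridge

section Def

variable {A : Type u} [CommRing A] {n : ℕ}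

theorem pull_tw (a : Sym2 (Fin n) → A) (X X' H : Matrix (Fin n) (Fin n) A) (h : X * X' = 1) :
    pull (tw (pull a X) H) X' = tw a (X * H * X') := by
  rw [qf_ext_iff]
  intro x
  have hp : ∀ u v, polar (qf (pull a X)) u v = polar (qf a) (X *ᵥ u) (X *ᵥ v) := by
    intro u v
    rw [polar, polar, qf_pull, qf_pull, qf_pull, Matrix.mulVec_add]
  rw [qf_pull, qf_tw, qf_tw, hp, Matrix.mulVec_mulVec, h, Matrix.one_mulVec, Matrix.mulVec_mulVec, Matrix.mulVec_mulVec,
    Matrix.mul_assoc]

theorem DefProp.pull_back {a : Sym2 (Fin n) → A} {X : Matrix (Fin n) (Fin n) A} (hX : IsUnit X.det)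
    (h : DefProp (pull a X)) : DefProp a := by
  intro b
  have h1 : X * X⁻¹ = 1 := Matrix.mul_nonsing_inv _ hX
  obtain ⟨ε, H, hb⟩ := h (pull b X)
  refine ⟨ε, X * H * X⁻¹, ?_⟩
  have h2 := congrArg (fun c => pull c X⁻¹) hb
  simp only [pull_add, pull_smul] at h2
  rw [← pull_mul, h1, pull_one, pull_tw a X X⁻¹ H h1, ← pull_mul, h1, pull_one] at h2
  exact h2

end Def

variable {R : Type u} [CommRing R] {n : ℕ}

theorem isBaseChange_comp (A : Type v) [CommRing A] [Algebra R A] {ι : Type} [Finite ι] :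
    IsBaseChange A (LinearMap.pi (fun i : ι => Algebra.linearMap R A ∘ₗ LinearMap.proj i) : (ι → R) →ₗ[R] (ι → A)) :=
  Desc.isBaseChange_pi A (IsBaseChange.linearMap R A)

/-- the submodule of deformations -/
def defMod (a : Sym2 (Fin n) → R) : Submodule R (Sym2 (Fin n) → R) where
  carrier := {b | ∃ (ε : R) (H : Matrix (Fin n) (Fin n) R), b = ε • a + tw a H}
  zero_mem' := ⟨0, 0, by rw [zero_smul, tw_zero, add_zero]⟩
  add_mem' := by
    rintro _ _ ⟨ε, H, rfl⟩ ⟨ε', H', rfl⟩
    exact ⟨ε + ε', H + H', by rw [tw_add, add_smul]; abel⟩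
  smul_mem' := by
    rintro r _ ⟨ε, H, rfl⟩
    exact ⟨r * ε, r • H, by rw [tw_smul, smul_add, mul_smul]⟩

theorem tw_eq_sum (a : Sym2 (Fin n) → R) (H : Matrix (Fin n) (Fin n) R) :
    tw a H = ∑ i, ∑ j, H i j • tw a (Matrix.single i j 1) := by
  conv_lhs => rw [Matrix.matrix_eq_sum_single H]
  rw [tw_sum]
  refine Finset.sum_congr rfl fun i _ => ?_
  rw [tw_sum]
  refine Finset.sum_congr rfl fun j _ => ?_
  rw [← tw_smul, Matrix.smul_single, smul_eq_mul, mul_one]

/-- descent of the deformation property -/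
theorem defProp_of_faithfullyFlat {A : Type v} [CommRing A] [Algebra R A] [Module.FaithfullyFlat R A]
    (a : Sym2 (Fin n) → R) (h : DefProp (algebraMap R A ∘ a)) : DefProp a := by
  intro b
  change b ∈ defMod a
  refine Desc.mem_of_mem_span A (isBaseChange_comp A (ι := Sym2 (Fin n))) _ ?_
  change algebraMap R A ∘ b ∈ _
  obtain ⟨ε, H, hb⟩ := h (algebraMap R A ∘ b)
  rw [hb]
  refine Submodule.add_mem _ (Submodule.smul_mem _ _ (Submodule.subset_span ⟨a, ⟨1, 0, ?_⟩, rfl⟩)) ?_
  · rw [tw_zero, one_smul, add_zero]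
  · rw [tw_eq_sum]
    refine Submodule.sum_mem _ fun i _ => Submodule.sum_mem _ fun j _ => Submodule.smul_mem _ _
      (Submodule.subset_span ⟨tw a (Matrix.single i j 1), ⟨0, Matrix.single i j 1, ?_⟩, ?_⟩)
    · rw [zero_smul, zero_add]
    · change algebraMap R A ∘ tw a (Matrix.single i j 1) = _
      rw [map_tw]
      congr 1
      ext p q
      rw [Matrix.map_apply, Matrix.single_apply, Matrix.single_apply]
      split_ifs <;> simp

theorem defProp_of_geomRad (a : Sym2 (Fin n) → R) (ha : GeomRad a) : DefProp a := by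
  obtain ⟨A, _, _, _, -, X, hX, hXc⟩ := exists_cover a ha
  apply defProp_of_faithfullyFlat (A := A)
  apply DefProp.pull_back hX
  rw [hXc]
  exact defProp_sc

/-- infinitesimal lifting of isometries of determinant one, odd rank -/
theorem lifts_odd {m : ℕ} (a : Sym2 (Fin (2 * m + 1)) → R)
    (ha : IsUnit (halfDisc (Pi.basisFun R (Fin (2 * m + 1))) (LinearEquiv.refl R R) (qf a))) : Lifts (cm a) true := by
  intro B _ _ I hI g g' hg
  set aB := algebraMap R B ∘ a with haB
  have hdef : DefProp aB := (defProp_of_geomRad a (geomRad_of_semiregular a ha)).map (algebraMap R B)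
  have hhB : IsUnit (halfDisc (Pi.basisFun B (Fin (2 * m + 1))) (LinearEquiv.refl B B) (qf aB)) := by
    rw [haB, map_halfDisc]
    exact ha.map _
  rw [cm_map] at hg ⊢
  have hiso := hg.iso
  rw [cm_map, isIso_cm_iff] at hiso
  have h1 : ∀ s, ((1 : B) • pull aB g) s - aB s ∈ I := by
    have h2 : pull (Ideal.Quotient.mk I ∘ aB) (g.map (Ideal.Quotient.mk I)) = Ideal.Quotient.mk I ∘ aB := by
      rw [qf_ext_iff]
      intro x
      rw [qf_pull]
      exact hiso x
    rw [← map_pull] at h2
    intro s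
    rw [one_smul, ← Ideal.Quotient.eq]
    exact congrFun h2 s
  obtain ⟨Y, c, hY, hc, hYc⟩ := hdef.lift hI aB aB g 1 h1
  have hYm : Y.map (Ideal.Quotient.mk I) = g.map (Ideal.Quotient.mk I) := by
    ext i j
    exact Ideal.Quotient.eq.2 (hY i j)
  have hcm : Ideal.Quotient.mk I c = 1 := by
    rw [← map_one (Ideal.Quotient.mk I)]
    exact Ideal.Quotient.eq.2 hc
  have hdm : Ideal.Quotient.mk I Y.det = 1 := by
    have := hg.det rfl
    rw [← hYm] at this
    rw [RingHom.map_det]
    exact this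
  -- the relation between `c` and the determinant
  have hrel : c ^ (2 * m + 1) * Y.det ^ 2 = 1 := by
    have h2 : c • (qf aB).comp Y.mulVecLin = qf aB := by
      refine QuadraticMap.ext fun x => ?_
      have h3 := congrArg (fun b => qf b x) hYc
      simp only [qf_smul] at h3
      rw [QuadraticMap.smul_apply, qf_pull] at h3
      rw [QuadraticMap.smul_apply]
      exact h3
    have h3 := HDScale.halfDisc_smul c ((qf aB).comp Y.mulVecLin)
    rw [h2, K918.HalfDisc.halfDisc_comp ⟨m, rfl⟩] at h3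
    have h4 : LinearMap.det Y.mulVecLin = Y.det := by
      rw [← Matrix.toLin'_apply', LinearMap.det_toLin']
    rw [h4] at h3
    have h5 : (c ^ (2 * m + 1) * Y.det ^ 2 - 1) *
        halfDisc (Pi.basisFun B (Fin (2 * m + 1))) (LinearEquiv.refl B B) (qf aB) = 0 := by
      linear_combination -h3
    exact sub_eq_zero.1 ((hhB.mul_left_eq_zero).1 h5)
  have hcY : ∀ x, c * qf aB (Y *ᵥ x) = qf aB x := by
    intro x
    have h3 := congrArg (fun b => qf b x) hYc
    simp only [qf_smul] at h3
    rw [QuadraticMap.smul_apply, qf_pull] at h3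
    exact h3
  set l := c ^ m * Y.det with hl
  have hl2 : l * l * c = 1 := by rw [← hrel, hl]; ring
  have hdet : ((l * c) • Y).det = 1 := by
    rw [Matrix.det_smul, Fintype.card_fin]
    have e1 : (l * c) * (l * c) = c := by linear_combination c * hl2
    calc (l * c) ^ (2 * m + 1) * Y.det = ((l * c) * (l * c)) ^ m * (l * c) * Y.det := by ring
      _ = c ^ (2 * m + 1) * Y.det ^ 2 := by rw [e1, hl]; ring
      _ = 1 := hrel
  have hu : IsUnit ((l * c) • Y).det := by rw [hdet]; exact isUnit_one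
  refine ⟨(l * c) • Y, ((l * c) • Y)⁻¹, ⟨Matrix.mul_nonsing_inv _ hu, Matrix.nonsing_inv_mul _ hu, ?_, fun _ => hdet⟩, ?_⟩
  · rw [isIso_cm_iff]
    intro x
    rw [Matrix.smul_mulVec, QuadraticMap.map_smul, smul_eq_mul]
    linear_combination (c * qf aB (Y *ᵥ x)) * hl2 + hcY x
  · rw [← hYm]
    ext i j
    rw [Matrix.map_apply, Matrix.smul_apply, smul_eq_mul, map_mul, map_mul, hl, map_mul, map_pow, hcm, hdm, one_pow,
      one_mul, one_mul, one_mul, Matrix.map_apply]

end K916.LiftOdd
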