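import Groth.Agent.QuadGrp.K916.Basic
import Mathlib.LinearAlgebra.Matrix.Notation
import Mathlib.Data.Matrix.Composition
import Mathlib.LinearAlgebra.FreeModule.Finite.Matrix
import Mathlib.RingTheory.OrzechProperty
import Mathlib.RingTheory.Finiteness.Prod
import Mathlib.LinearAlgebra.QuadraticForm.Prod

/-!
# `C(Q ⊥ H) = M₂(C(Q))`
-/

set_option autoImplicit false

universe u v w u'

open CliffordAlgebra

namespace K916.Mat2

variable {R : Type u} [CommRing R] {M : Type v} [AddCommGroup M] [Module R M] (Q : QuadraticForm R M)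

/-- the orthogonal sum of `Q` with a hyperbolic plane: `(v, x, y) ↦ Q v + x y`. -/
def addH : QuadraticForm R (M × R × R) :=
  Q.prod (QuadraticMap.linMulLin (LinearMap.fst R R R) (LinearMap.snd R R R))

theorem addH_apply (v : M) (x y : R) : addH Q (v, x, y) = Q v + x * y := rfl

/-- the linear map `(v, x, y) ↦ !![v, x; y, -v]` -/
noncomputable def mat (Q : QuadraticForm R M) : M × R × R →ₗ[R] Matrix (Fin 2) (Fin 2) (CliffordAlgebra Q) where
  toFun p := !![ι Q p.1, algebraMap R _ p.2.1; algebraMap R _ p.2.2, - ι Q p.1]
  map_add' p q := by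
    ext i j
    fin_cases i <;> fin_cases j <;> simp [add_comm]
  map_smul' r p := by
    ext i j
    fin_cases i <;> fin_cases j <;> simp [Algebra.smul_def]

theorem mat_apply (p : M × R × R) :
    mat Q p = !![ι Q p.1, algebraMap R _ p.2.1; algebraMap R _ p.2.2, - ι Q p.1] := rfl

/-- the algebra map `C(Q ⊥ H) → M₂(C(Q))` -/
noncomputable def toMat : CliffordAlgebra (addH Q) →ₐ[R] Matrix (Fin 2) (Fin 2) (CliffordAlgebra Q) :=
  CliffordAlgebra.lift (addH Q) ⟨mat Q, fun p => by
    obtain ⟨v, x, y⟩ := p
    rw [mat_apply, addH_apply, Matrix.mul_fin_two]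
    ext i j
    fin_cases i <;> fin_cases j
    · simp [Matrix.algebraMap_matrix_apply]
    · simp only [Fin.mk_one, Fin.zero_eta, Matrix.of_apply, Matrix.cons_val', Matrix.cons_val_zero,
        Matrix.cons_val_one, Matrix.cons_val_fin_one, Matrix.algebraMap_matrix_apply, zero_ne_one, if_false]
      rw [mul_neg, Algebra.commutes, add_neg_cancel]
    · simp only [Fin.mk_one, Fin.zero_eta, Matrix.of_apply, Matrix.cons_val', Matrix.cons_val_zero,
        Matrix.cons_val_one, Matrix.cons_val_fin_one, Matrix.algebraMap_matrix_apply, one_ne_zero, if_false]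
      rw [neg_mul, Algebra.commutes, add_neg_cancel]
    · simp [Matrix.algebraMap_matrix_apply, ← map_mul, mul_comm, add_comm]⟩

theorem toMat_ι (p : M × R × R) : toMat Q (ι (addH Q) p) = mat Q p := by
  rw [toMat, lift_ι_apply]

theorem toMat_surjective : Function.Surjective (toMat Q) := by
  classical
  have hE : !![0, 1; 0, 0] ∈ (toMat Q).range := ⟨ι (addH Q) (0, 1, 0), by
    change toMat Q _ = _
    rw [toMat_ι, mat_apply]; simp⟩
  have hF : !![0, 0; 1, 0] ∈ (toMat Q).range := ⟨ι (addH Q) (0, 0, 1), by
    change toMat Q _ = _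
    rw [toMat_ι, mat_apply]; simp⟩
  have h11 : !![1, 0; 0, 0] ∈ (toMat Q).range := by
    have := (toMat Q).range.mul_mem hE hF
    simpa only [Matrix.mul_fin_two, mul_zero, zero_mul, add_zero, zero_add, mul_one, one_mul] using this
  -- the elements `a` with `a E₁₁` in the range
  have hA : ∀ a : CliffordAlgebra Q, !![a, 0; 0, 0] ∈ (toMat Q).range := by
    intro a
    induction a using CliffordAlgebra.induction with
    | algebraMap r =>
      have := (toMat Q).range.smul_mem h11 r
      convert this using 1
      ext i j
      fin_cases i <;> fin_cases j <;> simp [Algebra.algebraMap_eq_smul_one]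
    | ι v =>
      have h1 : !![ι Q v, 0; 0, -ι Q v] ∈ (toMat Q).range := ⟨ι (addH Q) (v, 0, 0), by
        change toMat Q _ = _
        rw [toMat_ι, mat_apply]; simp⟩
      have := (toMat Q).range.mul_mem h11 h1
      simpa only [Matrix.mul_fin_two, mul_zero, zero_mul, add_zero, zero_add, mul_one, one_mul] using this
    | mul a b ha hb =>
      have := (toMat Q).range.mul_mem ha hb
      simpa only [Matrix.mul_fin_two, mul_zero, zero_mul, add_zero, zero_add, mul_one, one_mul] using this
    | add a b ha hb =>
      have := (toMat Q).range.add_mem ha hb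
      convert this using 1
      ext i j
      fin_cases i <;> fin_cases j <;> simp
  intro X
  have h12 : ∀ a : CliffordAlgebra Q, !![0, a; 0, 0] ∈ (toMat Q).range := by
    intro a
    have := (toMat Q).range.mul_mem (hA a) hE
    simpa only [Matrix.mul_fin_two, mul_zero, zero_mul, add_zero, zero_add, mul_one, one_mul] using this
  have h21 : ∀ a : CliffordAlgebra Q, !![0, 0; a, 0] ∈ (toMat Q).range := by
    intro a
    have := (toMat Q).range.mul_mem hF (hA a)
    simpa only [Matrix.mul_fin_two, mul_zero, zero_mul, add_zero, zero_add, mul_one, one_mul] using this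
  have h22 : ∀ a : CliffordAlgebra Q, !![0, 0; 0, a] ∈ (toMat Q).range := by
    intro a
    have := (toMat Q).range.mul_mem hF (h12 a)
    simpa only [Matrix.mul_fin_two, mul_zero, zero_mul, add_zero, zero_add, mul_one, one_mul] using this
  have := (toMat Q).range.add_mem ((toMat Q).range.add_mem (hA (X 0 0)) (h12 (X 0 1)))
    ((toMat Q).range.add_mem (h21 (X 1 0)) (h22 (X 1 1)))
  have hX : X = !![X 0 0, 0; 0, 0] + !![0, X 0 1; 0, 0] + (!![0, 0; X 1 0, 0] + !![0, 0; 0, X 1 1]) := by
    ext i j
    fin_cases i <;> fin_cases j <;> simp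
  rw [← hX] at this
  exact this

/-- a surjection between finite free modules of the same rank is bijective -/
theorem bijective_of_surjective {N N' : Type*} [AddCommGroup N] [Module R N] [AddCommGroup N'] [Module R N']
    [Module.Free R N] [Module.Finite R N] [Module.Free R N'] [Module.Finite R N'] (f : N →ₗ[R] N')
    (hf : Function.Surjective f) (h : Module.finrank R N = Module.finrank R N') : Function.Bijective f := by
  cases subsingleton_or_nontrivial R
  · have : Subsingleton N := Module.subsingleton R N
    exact ⟨Function.injective_of_subsingleton _, hf⟩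
  let e : N' ≃ₗ[R] N := LinearEquiv.ofFinrankEq N' N h.symm
  have h1 : Function.Surjective (e.toLinearMap ∘ₗ f) := by
    intro y
    obtain ⟨x, hx⟩ := hf (e.symm y)
    exact ⟨x, by change e (f x) = y; rw [hx]; exact e.apply_symm_apply y⟩
  have h2 := OrzechProperty.injective_of_surjective_endomorphism _ h1
  refine ⟨fun x y hxy => h2 ?_, hf⟩
  change e (f x) = e (f y)
  rw [hxy]

theorem toMat_bijective [Module.Free R M] [Module.Finite R M] : Function.Bijective (toMat Q) := by
  cases subsingleton_or_nontrivial R
  · have : Subsingleton (CliffordAlgebra (addH Q)) := Module.subsingleton R _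
    exact ⟨Function.injective_of_subsingleton _, toMat_surjective Q⟩
  have := Basic.module_free Q
  have := Basic.module_finite Q
  have := Basic.module_free (addH Q)
  have := Basic.module_finite (addH Q)
  refine bijective_of_surjective (toMat Q).toLinearMap (toMat_surjective Q) ?_
  rw [Basic.finrank_eq, Module.finrank_matrix, Basic.finrank_eq, Module.finrank_prod, Module.finrank_prod,
    Module.finrank_self, Fintype.card_fin]
  ring

/-- `C(Q ⊥ H) ≃ M₂(C(Q))` -/
noncomputable def equivMat [Module.Free R M] [Module.Finite R M] :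
    CliffordAlgebra (addH Q) ≃ₐ[R] Matrix (Fin 2) (Fin 2) (CliffordAlgebra Q) :=
  AlgEquiv.ofBijective (toMat Q) (toMat_bijective Q)

theorem equivMat_ι [Module.Free R M] [Module.Finite R M] (p : M × R × R) :
    equivMat Q (ι (addH Q) p) = mat Q p := toMat_ι Q p

end K916.Mat2
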