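import Mathlib.LinearAlgebra.Matrix.NonsingularInverse
import Mathlib.LinearAlgebra.Matrix.ToLin
import Mathlib.RingTheory.LocalRing.MaximalIdeal.Basic
import Mathlib.RingTheory.Ideal.BigOperators

/-!
# The theorem of Skolem and Noether for matrix algebras over a local ring
-/

set_option autoImplicit false

universe u v

namespace K916.MatSN

variable {S : Type u} [CommRing S] {ι : Type v} [Fintype ι] [DecidableEq ι]

theorem sum_single_mul (i0 : ι) : (1 : Matrix ι ι S) = ∑ i, Matrix.single i i0 1 * Matrix.single i0 i0 1 * Matrix.single i0 i 1 := by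
  ext p q
  rw [Matrix.sum_apply, Matrix.one_apply]
  simp only [Matrix.single_mul_single_same, mul_one]
  rw [Finset.sum_eq_single p]
  · rw [Matrix.single_apply]
    simp
  · intro b _ hb
    rw [Matrix.single_apply, if_neg]
    rintro ⟨h, -⟩
    exact hb h
  · intro h; exact absurd (Finset.mem_univ p) h

/-- some entry of the image of a matrix unit is a unit -/
theorem exists_isUnit_entry [IsLocalRing S] [Nonempty ι] (θ : Matrix ι ι S →ₐ[S] Matrix ι ι S) (i0 : ι) :
    ∃ k j, IsUnit (θ (Matrix.single i0 i0 1) k j) := by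
  by_contra hc
  push Not at hc
  have h1 : ∀ k j, θ (Matrix.single i0 i0 1) k j ∈ IsLocalRing.maximalIdeal S := fun k j =>
    (IsLocalRing.mem_maximalIdeal _).2 (hc k j)
  obtain ⟨a⟩ := ‹Nonempty ι›
  have h2 : (1 : Matrix ι ι S) a a ∈ IsLocalRing.maximalIdeal S := by
    rw [← map_one θ, sum_single_mul i0, map_sum, Matrix.sum_apply]
    refine Ideal.sum_mem _ fun i _ => ?_
    rw [map_mul, map_mul, Matrix.mul_apply]
    refine Ideal.sum_mem _ fun j _ => Ideal.mul_mem_right _ _ ?_
    rw [Matrix.mul_apply]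
    exact Ideal.sum_mem _ fun k _ => Ideal.mul_mem_left _ _ (h1 k j)
  rw [Matrix.one_apply_eq] at h2
  exact (IsLocalRing.maximalIdeal.isMaximal S).ne_top ((Ideal.eq_top_iff_one _).2 h2)

/-- **Skolem–Noether** for matrices over a local ring. -/
theorem exists_unit [IsLocalRing S] [Nonempty ι] (θ : Matrix ι ι S →ₐ[S] Matrix ι ι S) :
    ∃ U : Matrix ι ι S, IsUnit U ∧ ∀ X, U * X = θ X * U := by
  obtain ⟨i0⟩ := ‹Nonempty ι›
  obtain ⟨k, j, hkj⟩ := exists_isUnit_entry θ i0
  obtain ⟨w, hw⟩ := hkj.exists_left_inv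
  let U : Matrix ι ι S := Matrix.of fun a i => θ (Matrix.single i i0 1) a j
  let V : Matrix ι ι S := Matrix.of fun i c => w * θ (Matrix.single i0 i 1) k c
  have hVU : V * U = 1 := by
    ext i d
    have h1 : (V * U) i d = w * (θ (Matrix.single i0 i 1) * θ (Matrix.single d i0 1)) k j := by
      rw [Matrix.mul_apply, Matrix.mul_apply, Finset.mul_sum]
      refine Finset.sum_congr rfl fun c _ => ?_
      change w * θ (Matrix.single i0 i 1) k c * θ (Matrix.single d i0 1) c j = _
      rw [mul_assoc]
    rw [h1, ← map_mul, Matrix.one_apply]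
    split_ifs with h
    · subst h
      rw [Matrix.single_mul_single_same, mul_one, hw]
    · rw [Matrix.single_mul_single_of_ne _ _ _ _ h, map_zero, Matrix.zero_apply, mul_zero]
  refine ⟨U, ⟨⟨U, V, mul_eq_one_comm.1 hVU, hVU⟩, rfl⟩, fun X => ?_⟩
  have key : ∀ a b, U * Matrix.single a b 1 = θ (Matrix.single a b 1) * U := by
    intro a b
    ext c d
    have h1 : (θ (Matrix.single a b 1) * U) c d = (θ (Matrix.single a b 1) * θ (Matrix.single d i0 1)) c j := by
      rw [Matrix.mul_apply, Matrix.mul_apply]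
      rfl
    rw [h1, ← map_mul]
    by_cases h : b = d
    · subst h
      rw [Matrix.single_mul_single_same, mul_one, Matrix.mul_single_apply_same, mul_one]
      rfl
    · rw [Matrix.single_mul_single_of_ne _ _ _ _ h, map_zero, Matrix.zero_apply,
        Matrix.mul_single_apply_of_ne _ _ _ _ _ (Ne.symm h)]
  rw [Matrix.matrix_eq_sum_single X, Finset.mul_sum, map_sum, Finset.sum_mul]
  refine Finset.sum_congr rfl fun a _ => ?_
  rw [Finset.mul_sum, map_sum, Finset.sum_mul]
  refine Finset.sum_congr rfl fun b _ => ?_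
  have h2 : (Matrix.single a b (X a b) : Matrix ι ι S) = X a b • Matrix.single a b 1 := by
    rw [Matrix.smul_single, smul_eq_mul, mul_one]
  rw [h2, mul_smul_comm, key, map_smul, smul_mul_assoc]

end K916.MatSN
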