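import Groth.Agent.QuadGrp.K916.LiftOdd
import Mathlib.RingTheory.Polynomial.Quotient

/-!
# In odd rank the isometries are not infinitesimally liftable unless two is a unit
-/

set_option autoImplicit false

universe u v

open QuadGrp QuadraticMap Matrix

namespace K916.NotSmooth

open K917.Coef K917.Cover Coord Bridge

variable {R : Type u} [CommRing R]

/-- a ring with an element `x`, `x ^ 3 = 0`, `x ^ 2 ≠ 0`, in which two vanishes, over a ring where two is not a unit -/
theorem exists_ring (h2 : ¬ IsUnit (2 : R)) : ∃ (A : Type u) (_ : CommRing A) (_ : Algebra R A) (x : A),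
    (2 : A) = 0 ∧ x ^ 3 = 0 ∧ x ^ 2 ≠ 0 := by
  let k := R ⧸ Ideal.span {(2 : R)}
  have hk : Nontrivial k := Ideal.Quotient.nontrivial_iff.2 fun h => h2 (Ideal.span_singleton_eq_top.1 h)
  have hk2 : (2 : k) = 0 := by
    have : Ideal.Quotient.mk (Ideal.span {(2 : R)}) 2 = 0 :=
      Ideal.Quotient.eq_zero_iff_mem.2 (Ideal.mem_span_singleton_self _)
    rwa [map_ofNat] at this
  let A := Polynomial k ⧸ Ideal.span {(Polynomial.X : Polynomial k) ^ 3}
  let x : A := Ideal.Quotient.mk _ Polynomial.X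
  refine ⟨A, inferInstance, inferInstance, x, ?_, ?_, ?_⟩
  · have h := congrArg ((Ideal.Quotient.mk (Ideal.span {(Polynomial.X : Polynomial k) ^ 3})).comp Polynomial.C) hk2
    rwa [map_ofNat, map_zero] at h
  · change Ideal.Quotient.mk _ Polynomial.X ^ 3 = 0
    rw [← map_pow]
    exact Ideal.Quotient.eq_zero_iff_mem.2 (Ideal.mem_span_singleton_self _)
  · intro h
    change Ideal.Quotient.mk _ Polynomial.X ^ 2 = 0 at h
    rw [← map_pow, Ideal.Quotient.eq_zero_iff_mem, Ideal.mem_span_singleton, Polynomial.X_pow_dvd_iff] at h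
    have := h 2 (by norm_num)
    rw [Polynomial.coeff_X_pow, if_pos rfl] at this
    exact one_ne_zero this

/-- **non-smoothness in odd rank** -/
theorem isUnit_two_of_smooth {m : ℕ} (a : Sym2 (Fin (2 * m + 1)) → R)
    (ha : IsUnit (halfDisc (Pi.basisFun R (Fin (2 * m + 1))) (LinearEquiv.refl R R) (qf a)))
    (h : Algebra.FormallySmooth R (Alg (cm a) false)) : IsUnit (2 : R) := by
  by_contra h2
  obtain ⟨A, _, _, x, hA2, hx3, hx2⟩ := exists_ring h2
  let I : Ideal A := Ideal.span {x ^ 2}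
  have hI : I ^ 2 = ⊥ := by
    rw [Ideal.span_singleton_pow, ← pow_mul, show 2 * 2 = 3 + 1 from rfl, pow_succ, hx3, zero_mul, Ideal.span_singleton_eq_bot]
  have hxI : x ^ 2 ∈ I := Ideal.mem_span_singleton_self _
  have hhA : IsUnit (halfDisc (Pi.basisFun A (Fin (2 * m + 1))) (LinearEquiv.refl A A) (qf (algebraMap R A ∘ a))) := by
    rw [map_halfDisc]
    exact ha.map _
  let y : A ⧸ I := Ideal.Quotient.mk I (1 + x)
  have hy : y * y = 1 := by
    have h1 : (1 + x) * (1 + x) - 1 ∈ I := by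
      have : (1 + x) * (1 + x) - 1 = x ^ 2 := by linear_combination x * hA2
      rw [this]; exact hxI
    rw [← map_one (Ideal.Quotient.mk I), ← map_mul]
    exact Ideal.Quotient.eq.2 h1
  have hmul : (y • (1 : Matrix (Fin (2 * m + 1)) (Fin (2 * m + 1)) (A ⧸ I))) * (y • 1) = 1 := by
    rw [Matrix.smul_mul, Matrix.one_mul, smul_smul, hy, one_smul]
  have hcond : Cond ((cm a).map (algebraMap R (A ⧸ I))) false
      (y • (1 : Matrix (Fin (2 * m + 1)) (Fin (2 * m + 1)) (A ⧸ I))) (y • 1) := by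
    refine ⟨hmul, hmul, ?_, fun h => absurd h (by decide)⟩
    rw [cm_map, isIso_cm_iff]
    intro v
    rw [Matrix.smul_mulVec, Matrix.one_mulVec, QuadraticMap.map_smul, hy, one_smul]
  obtain ⟨ψ, hψ⟩ := Algebra.FormallySmooth.comp_surjective R (Alg (cm a) false) I hI (lift hcond)
  have hc := (cond_gen (cm a) false).map ψ.toRingHom
  set g := (gen (cm a) false).map ψ with hg
  have hiso : ∀ v, qf (algebraMap R A ∘ a) (g *ᵥ v) = qf (algebraMap R A ∘ a) v := by
    have h1 := hc.iso
    have h3 : ((cm a).map (algebraMap R (Alg (cm a) false))).map ψ.toRingHom = cm (algebraMap R A ∘ a) := by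
      rw [cm_map, cm_map]
      congr 1
      funext s
      exact ψ.commutes _
    rw [h3, isIso_cm_iff] at h1
    exact h1
  have hdd : g.det ^ 2 = 1 := by
    have h1 := K918.HalfDisc.halfDisc_comp ⟨m, rfl⟩ (Pi.basisFun A (Fin (2 * m + 1))) (qf (algebraMap R A ∘ a)) g.mulVecLin
    have h3 : (qf (algebraMap R A ∘ a)).comp g.mulVecLin = qf (algebraMap R A ∘ a) := QuadraticMap.ext hiso
    rw [h3, ← Matrix.toLin'_apply', LinearMap.det_toLin'] at h1
    have h5 : (g.det ^ 2 - 1) *
        halfDisc (Pi.basisFun A (Fin (2 * m + 1))) (LinearEquiv.refl A A) (qf (algebraMap R A ∘ a)) = 0 := by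
      linear_combination -h1
    exact sub_eq_zero.1 ((hhA.mul_left_eq_zero).1 h5)
  have hgm : g.map (Ideal.Quotient.mk I) = y • 1 := by
    have h1 := gen_map_lift hcond
    rw [← hψ] at h1
    exact h1
  have hdet : Ideal.Quotient.mk I g.det = Ideal.Quotient.mk I ((1 + x) ^ (2 * m + 1)) := by
    have h1 : Ideal.Quotient.mk I g.det = (g.map (Ideal.Quotient.mk I)).det := RingHom.map_det _ _
    rw [h1, hgm, Matrix.det_smul, Matrix.det_one, mul_one, Fintype.card_fin, map_pow]
  rw [Ideal.Quotient.eq] at hdet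
  obtain ⟨t, ht⟩ := Ideal.mem_span_singleton'.1 hdet
  have hx4 : x ^ 4 = 0 := by rw [show 4 = 3 + 1 from rfl, pow_succ, hx3, zero_mul]
  have h6 : g.det = (1 + x) ^ (2 * m + 1) + t * x ^ 2 := by linear_combination -ht
  have h7 : (1 + x) ^ 2 = 1 + x ^ 2 := by linear_combination x * hA2
  have h8 : (1 + x ^ 2) ^ 2 = 1 := by linear_combination x ^ 2 * hA2 + hx4
  have h9 : g.det ^ 2 = 1 + x ^ 2 := by
    have e1 : ((1 + x) ^ (2 * m + 1)) ^ 2 = 1 + x ^ 2 := by
      rw [← pow_mul, mul_comm, pow_mul, h7, pow_succ, pow_mul, h8, one_pow, one_mul]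
    rw [h6]
    linear_combination e1 + t ^ 2 * hx4 + ((1 + x) ^ (2 * m + 1) * t * x ^ 2) * hA2
  rw [hdd] at h9
  exact hx2 (by linear_combination -h9)

end K916.NotSmooth
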