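import Groth.Agent.QuadGrp.K916.FamBC

/-!
# Projections to the homogeneous parts, twisted centralisers and their base change
-/

set_option autoImplicit false

universe u v w u'

open CliffordAlgebra TensorProduct

namespace K916.Parts

open BC Dickson

variable {R : Type u} [CommRing R] {M : Type v} [AddCommGroup M] [Module R M]

section Proj

variable (Q : QuadraticForm R M)

theorem isCompl_evenOdd (i : ZMod 2) : IsCompl (evenOdd Q i) (evenOdd Q (i + 1)) := by
  fin_cases i
  · exact evenOdd_isCompl Q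
  · exact (evenOdd_isCompl Q).symm

/-- projection to the part of degree `i` -/
noncomputable def pk (i : ZMod 2) : CliffordAlgebra Q →ₗ[R] CliffordAlgebra Q :=
  (evenOdd Q i).projection (evenOdd Q (i + 1)) (isCompl_evenOdd Q i)

theorem pk_mem (i : ZMod 2) (x : CliffordAlgebra Q) : pk Q i x ∈ evenOdd Q i := Submodule.projection_apply_mem _ _

theorem pk_of_mem {i : ZMod 2} {x : CliffordAlgebra Q} (hx : x ∈ evenOdd Q i) : pk Q i x = x :=
  Submodule.projection_apply_of_mem_left _ hx

theorem pk_eq_zero_iff {i : ZMod 2} {x : CliffordAlgebra Q} : pk Q i x = 0 ↔ x ∈ evenOdd Q (i + 1) :=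
  Submodule.projection_apply_eq_zero_iff _

theorem pk_add_pk (x : CliffordAlgebra Q) : pk Q 0 x + pk Q 1 x = x := by
  have h := (isCompl_evenOdd Q 0)
  have h1 := Submodule.projection_add_projection_eq_self (isCompl_evenOdd Q 0) x
  exact h1

theorem mem_iff_pk {x : CliffordAlgebra Q} : x ∈ evenOdd Q 0 ↔ pk Q 1 x = 0 := by
  rw [pk_eq_zero_iff, show (1 + 1 : ZMod 2) = 0 by decide]

end Proj

variable {A : Type u'} [CommRing A] [Algebra R A] {M' : Type w} [AddCommGroup M'] [Module R M'] [Module A M']
  [IsScalarTower R A M']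
variable {Q : QuadraticForm R M} {Q' : QuadraticForm A M'} {f : M →ₗ[R] M'}

theorem cmap_pk (h : Compat A Q Q' f) (i : ZMod 2) (x : CliffordAlgebra Q) : cmap h (pk Q i x) = pk Q' i (cmap h x) := by
  have h0 : x - pk Q i x ∈ evenOdd Q (i + 1) := by
    rw [← pk_eq_zero_iff, map_sub, pk_of_mem Q (pk_mem Q i x), sub_self]
  have h1 : cmap h x = cmap h (pk Q i x) + cmap h (x - pk Q i x) := by rw [← map_add]; congr 1; abel
  rw [h1, map_add, pk_of_mem Q' (cmap_mem_evenOdd h i (pk_mem Q i x)),
    (pk_eq_zero_iff Q').2 (cmap_mem_evenOdd h (i + 1) h0), add_zero]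

/-- the twisted centraliser of the even part, in the even part -/
def Tw (Q : QuadraticForm R M) (θ : CliffordAlgebra Q →ₗ[R] CliffordAlgebra Q) : Submodule R (CliffordAlgebra Q) where
  carrier := {u | u ∈ evenOdd Q 0 ∧ ∀ y ∈ evenOdd Q 0, u * y = θ y * u}
  zero_mem' := ⟨Submodule.zero_mem _, fun y _ => by rw [zero_mul, mul_zero]⟩
  add_mem' := fun {a b} ha hb => ⟨Submodule.add_mem _ ha.1 hb.1, fun y hy => by
    rw [add_mul, mul_add, ha.2 y hy, hb.2 y hy]⟩
  smul_mem' := fun r a ha => ⟨Submodule.smul_mem _ r ha.1, fun y hy => by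
    rw [smul_mul_assoc, mul_smul_comm, ha.2 y hy]⟩

theorem mem_Tw {θ : CliffordAlgebra Q →ₗ[R] CliffordAlgebra Q} {u : CliffordAlgebra Q} :
    u ∈ Tw Q θ ↔ u ∈ evenOdd Q 0 ∧ ∀ y ∈ evenOdd Q 0, u * y = θ y * u := Iff.rfl

/-- the finite family of linear maps cutting out the twisted centraliser -/
noncomputable def fam (Q : QuadraticForm R M) (θ : CliffordAlgebra Q →ₗ[R] CliffordAlgebra Q) {N : ℕ}
    (c : Fin N → CliffordAlgebra Q) : Option (Fin N) → CliffordAlgebra Q →ₗ[R] CliffordAlgebra Q
  | none => pk Q 1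
  | some j => LinearMap.mulRight R (pk Q 0 (c j)) - LinearMap.mulLeft R (θ (pk Q 0 (c j)))

theorem iInf_ker_fam (Q : QuadraticForm R M) (θ : CliffordAlgebra Q →ₗ[R] CliffordAlgebra Q) {N : ℕ}
    (c : Fin N → CliffordAlgebra Q) (hc : Submodule.span R (Set.range c) = ⊤) :
    (⨅ i, LinearMap.ker (fam Q θ c i)) = Tw Q θ := by
  ext u
  rw [Submodule.mem_iInf, mem_Tw]
  constructor
  · intro h
    have h0 : u ∈ evenOdd Q 0 := (mem_iff_pk Q).2 (h none)
    refine ⟨h0, fun y hy => ?_⟩
    have key : ∀ y : CliffordAlgebra Q, u * pk Q 0 y = θ (pk Q 0 y) * u := by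
      intro y
      have hy : y ∈ Submodule.span R (Set.range c) := by rw [hc]; trivial
      induction hy using Submodule.span_induction with
      | mem x hx =>
        obtain ⟨j, rfl⟩ := hx
        have := h (some j)
        rw [LinearMap.mem_ker, fam, LinearMap.sub_apply, LinearMap.mulRight_apply, LinearMap.mulLeft_apply,
          sub_eq_zero] at this
        exact this
      | zero => rw [map_zero, map_zero, mul_zero, zero_mul]
      | add a b _ _ ha hb => rw [map_add, map_add, mul_add, add_mul, ha, hb]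
      | smul r a _ ha => rw [map_smul, map_smul, mul_smul_comm, smul_mul_assoc, ha]
    have := key y
    rwa [pk_of_mem Q hy] at this
  · rintro ⟨h0, h1⟩ (_ | j)
    · exact (mem_iff_pk Q).1 h0
    · rw [LinearMap.mem_ker, fam, LinearMap.sub_apply, LinearMap.mulRight_apply, LinearMap.mulLeft_apply,
        h1 _ (pk_mem Q 0 _), sub_self]

/-- flat base change of twisted centralisers -/
theorem Tw_eq_span [Module.Flat R A] [Module.Finite R (CliffordAlgebra Q)] (h : IsBC A Q Q' f)
    (θ : CliffordAlgebra Q →ₗ[R] CliffordAlgebra Q) (θ' : CliffordAlgebra Q' →ₗ[A] CliffordAlgebra Q')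
    (hθ : ∀ x, θ' (cmap h.compat x) = cmap h.compat (θ x)) :
    Tw Q' θ' = Submodule.span A (cmap h.compat '' (Tw Q θ : Set (CliffordAlgebra Q))) := by
  obtain ⟨N, c, hc⟩ := Module.Finite.exists_fin (R := R) (M := CliffordAlgebra Q)
  have hc' : Submodule.span A (Set.range fun j => cmap h.compat (c j)) = ⊤ := by
    rw [eq_top_iff]
    rintro y -
    induction y using (isBaseChange_cmap h).inductionOn with
    | zero => exact Submodule.zero_mem _
    | tmul x =>
      have hx : x ∈ Submodule.span R (Set.range c) := by rw [hc]; trivial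
      change cmap h.compat x ∈ _
      induction hx using Submodule.span_induction with
      | mem x hx =>
        obtain ⟨j, rfl⟩ := hx
        exact Submodule.subset_span ⟨j, rfl⟩
      | zero => rw [map_zero]; exact Submodule.zero_mem _
      | add a b _ _ ha hb => rw [map_add]; exact Submodule.add_mem _ ha hb
      | smul r a _ ha =>
        rw [map_smul, ← algebraMap_smul A r]
        exact Submodule.smul_mem _ _ ha
    | smul a y hy => exact Submodule.smul_mem _ a hy
    | add y z hy hz => exact Submodule.add_mem _ hy hz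
  rw [← iInf_ker_fam Q θ c hc, ← iInf_ker_fam Q' θ' _ hc']
  refine Desc.iInf_ker_eq_span A (isBaseChange_cmap h) (isBaseChange_cmap h) (fam Q θ c) (fam Q' θ' _) ?_
  rintro (_ | j) x
  · exact (cmap_pk h.compat 1 x).symm
  · change cmap h.compat x * pk Q' 0 (cmap h.compat (c j)) - θ' (pk Q' 0 (cmap h.compat (c j))) * cmap h.compat x =
      cmap h.compat (x * pk Q 0 (c j) - θ (pk Q 0 (c j)) * x)
    rw [map_sub, map_mul, map_mul, ← hθ, cmap_pk]

end K916.Parts
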