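import Groth.Agent.QuadGrp.K916.WFam
import Groth.Agent.QuadGrp.K916.Parts

/-!
# The Clifford algebra of a split form of odd rank: the even part is a matrix algebra, the centre is `R + R z`
-/

set_option autoImplicit false

universe u v w u'

open CliffordAlgebra

namespace K916.OddCl

open WFam Split

variable {R : Type u} [CommRing R] {M : Type v} [AddCommGroup M] [Module R M]

/-- The even part of `C(Q)` is a matrix algebra and there is an odd central element `z` of square one. -/
structure OCl (Q : QuadraticForm R M) where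
  /-- index set -/
  idx : Type
  /-- finiteness of the index set -/
  fin : Fintype idx
  /-- decidability -/
  dec : DecidableEq idx
  ne : Nonempty idx
  /-- the matrix algebra -/
  η : Matrix idx idx R →ₐ[R] CliffordAlgebra Q
  inj : Function.Injective η
  mem_iff : ∀ x, x ∈ evenOdd Q 0 ↔ ∃ X, η X = x
  /-- the odd central element -/
  z : CliffordAlgebra Q
  comm : ∀ u, z * ι Q u = ι Q u * z
  sq : z * z = 1
  odd : z ∈ evenOdd Q 1

attribute [local instance] OCl.fin OCl.dec

namespace OCl

variable {Q : QuadraticForm R M} (E : OCl Q)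

theorem comm_all (x : CliffordAlgebra Q) : E.z * x = x * E.z := by
  induction x using CliffordAlgebra.induction with
  | algebraMap r => rw [Algebra.commutes]
  | ι v => exact E.comm v
  | mul a b ha hb => rw [← mul_assoc, ha, mul_assoc, hb, mul_assoc]
  | add a b ha hb => rw [mul_add, add_mul, ha, hb]

include E in
/-- the centre of the even part consists of the scalars -/
theorem exists_of_even_central {x : CliffordAlgebra Q} (hx : x ∈ evenOdd Q 0) (h : ∀ y ∈ evenOdd Q 0, x * y = y * x) :
    ∃ r : R, x = algebraMap R _ r := by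
  obtain ⟨X, rfl⟩ := (E.mem_iff x).1 hx
  obtain ⟨i0⟩ := E.ne
  have hX : ∀ i j p q, (X * (Matrix.single i j 1 : Matrix E.idx E.idx R)) p q =
      ((Matrix.single i j 1 : Matrix E.idx E.idx R) * X) p q := by
    intro i j p q
    have h1 := h (E.η (Matrix.single i j 1)) ((E.mem_iff _).2 ⟨_, rfl⟩)
    rw [← map_mul, ← map_mul] at h1
    rw [E.inj h1]
  refine ⟨X i0 i0, ?_⟩
  rw [← AlgHom.commutes E.η]
  congr 1
  ext p q
  rw [Matrix.algebraMap_matrix_apply]
  have h2 := hX q i0 p i0
  rw [Matrix.mul_single_apply_same, mul_one] at h2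
  rw [h2]
  split_ifs with hpq
  · subst hpq
    rw [Matrix.single_mul_apply_same, one_mul]
    rfl
  · rw [Matrix.single_mul_apply_of_ne _ _ _ _ _ (Ne.symm (Ne.symm hpq))]

/-- odd central elements are multiples of `z` -/
theorem exists_of_odd_central {x : CliffordAlgebra Q} (hx : x ∈ evenOdd Q 1) (h : ∀ y, x * y = y * x) :
    ∃ r : R, x = r • E.z := by
  have h1 : x * E.z ∈ evenOdd Q 0 := by
    have := SetLike.mul_mem_graded hx E.odd
    rwa [show (1 + 1 : ZMod 2) = 0 by decide] at this
  obtain ⟨r, hr⟩ := E.exists_of_even_central h1 fun y _ => by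
    rw [mul_assoc, E.comm_all, ← mul_assoc, h, mul_assoc]
  refine ⟨r, ?_⟩
  rw [Algebra.smul_def, ← hr, mul_assoc, E.sq, mul_one]

/-- transport along an isometry -/
noncomputable def congr {M' : Type w} [AddCommGroup M'] [Module R M'] {Q' : QuadraticForm R M'} (e : Q.IsometryEquiv Q') :
    OCl Q' where
  idx := E.idx
  fin := E.fin
  dec := E.dec
  ne := E.ne
  η := (CliffordAlgebra.equivOfIsometry e).toAlgHom.comp E.η
  inj := (CliffordAlgebra.equivOfIsometry e).injective.comp E.inj
  mem_iff x := by
    constructor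
    · intro hx
      obtain ⟨X, hX⟩ := (E.mem_iff ((CliffordAlgebra.equivOfIsometry e).symm x)).1 (by
        have := WFam.map_mem e.symm.toIsometry hx
        exact this)
      refine ⟨X, ?_⟩
      change CliffordAlgebra.equivOfIsometry e (E.η X) = x
      rw [hX, AlgEquiv.apply_symm_apply]
    · rintro ⟨X, rfl⟩
      exact WFam.map_mem e.toIsometry ((E.mem_iff _).2 ⟨X, rfl⟩)
  z := CliffordAlgebra.map e.toIsometry E.z
  comm u := by
    obtain ⟨u, rfl⟩ := e.toLinearEquiv.surjective u
    have h := congrArg (CliffordAlgebra.map e.toIsometry) (E.comm u)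
    rw [map_mul, map_mul, map_apply_ι] at h
    exact h
  sq := by rw [← map_mul, E.sq, map_one]
  odd := WFam.map_mem e.toIsometry E.odd

end OCl

section addOne

variable {Q : QuadraticForm R M} {n : ℕ} (F : EvenFam Q n)

/-- `C(Q) → C(Q ⊥ ⟨1⟩)`, `v ↦ v z` -/
noncomputable def eta : CliffordAlgebra Q →ₐ[R] CliffordAlgebra (addOne Q) :=
  CliffordAlgebra.lift Q ⟨LinearMap.mulRight R (pr (addOne Q) F.addOne.v) ∘ₗ ι (addOne Q) ∘ₗ LinearMap.inl R M R, fun v => by
    change (ι (addOne Q) (v, 0) * pr (addOne Q) F.addOne.v) * (ι (addOne Q) (v, 0) * pr (addOne Q) F.addOne.v) = _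
    rw [mul_assoc, ← mul_assoc (pr (addOne Q) F.addOne.v), F.addOne.comm, mul_assoc, F.addOne.sq, mul_one, ι_sq_scalar,
      addOne_apply, mul_zero, add_zero]⟩

theorem eta_ι (v : M) : eta F (ι Q v) = ι (addOne Q) (v, 0) * pr (addOne Q) F.addOne.v := by
  rw [eta, lift_ι_apply]
  rfl

theorem pr_addOne : pr (addOne Q) F.addOne.v = ι (addOne Q) (0, 1) * CliffordAlgebra.map (inclOne Q) (pr Q F.v) := by
  have : F.addOne.v = (Fin.cons (0, 1) fun i => (F.v i, 0) : Fin (n + 1) → M × R) := rfl
  rw [this, pr, List.ofFn_succ, List.prod_cons, map_pr]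
  rfl

theorem e_sq : ι (addOne Q) (0, 1) * ι (addOne Q) (0, 1) = 1 := by
  rw [ι_sq_scalar, addOne_apply, map_zero, mul_one, zero_add, map_one]

theorem comm_all (x : CliffordAlgebra (addOne Q)) :
    pr (addOne Q) F.addOne.v * x = x * pr (addOne Q) F.addOne.v := by
  induction x using CliffordAlgebra.induction with
  | algebraMap r => rw [Algebra.commutes]
  | ι v => exact F.addOne.comm v
  | mul a b ha hb => rw [← mul_assoc, ha, mul_assoc, hb, mul_assoc]
  | add a b ha hb => rw [mul_add, add_mul, ha, hb]

theorem eta_of_even {x : CliffordAlgebra Q} (hx : x ∈ evenOdd Q 0) : eta F x = CliffordAlgebra.map (inclOne Q) x := by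
  refine CliffordAlgebra.even_induction Q (motive := fun x _ => eta F x = CliffordAlgebra.map (inclOne Q) x) ?_ ?_ ?_ x hx
  · intro r
    rw [AlgHom.commutes, AlgHom.commutes]
  · intro x y _ _ hx hy
    rw [map_add, map_add, hx, hy]
  · intro a b x _ hx
    rw [map_mul, map_mul, map_mul, map_mul, hx, eta_ι, eta_ι, map_apply_ι, map_apply_ι]
    congr 1
    rw [mul_assoc, ← mul_assoc (pr (addOne Q) F.addOne.v), F.addOne.comm, mul_assoc, F.addOne.sq, mul_one]
    rfl

theorem eta_mem (x : CliffordAlgebra Q) : eta F x ∈ evenOdd (addOne Q) 0 := by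
  induction x using CliffordAlgebra.induction with
  | algebraMap r =>
    rw [AlgHom.commutes, Algebra.algebraMap_eq_smul_one]
    exact Submodule.smul_mem _ _ (SetLike.one_mem_graded _)
  | ι v =>
    rw [eta_ι]
    have := SetLike.mul_mem_graded (ι_mem_evenOdd_one (addOne Q) (v, 0)) F.addOne.odd
    rwa [show (1 + 1 : ZMod 2) = 0 by decide] at this
  | mul a b ha hb =>
    rw [map_mul]
    have := SetLike.mul_mem_graded ha hb
    rwa [add_zero] at this
  | add a b ha hb =>
    rw [map_add]
    exact Submodule.add_mem _ ha hb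

theorem mem_range_eta {x : CliffordAlgebra (addOne Q)} (hx : x ∈ evenOdd (addOne Q) 0) : ∃ y, eta F y = x := by
  have h1 : ∀ a : M × R, ι (addOne Q) a * pr (addOne Q) F.addOne.v ∈ (eta F).range := by
    rintro ⟨v, r⟩
    have h0 : ι (addOne Q) (v, r) = ι (addOne Q) (v, 0) + r • ι (addOne Q) (0, 1) := by
      rw [← map_smul, ← map_add]
      congr 1
      ext <;> simp
    rw [h0, add_mul, smul_mul_assoc]
    have h3 : ι (addOne Q) (0, 1) * pr (addOne Q) F.addOne.v ∈ (eta F).range := by
      refine ⟨pr Q F.v, ?_⟩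
      change eta F (pr Q F.v) = _
      rw [eta_of_even F F.even, pr_addOne, ← mul_assoc, e_sq, one_mul]
    exact Subalgebra.add_mem _ ⟨ι Q v, eta_ι F v⟩ (Subalgebra.smul_mem _ h3 r)
  refine CliffordAlgebra.even_induction (addOne Q) (motive := fun x _ => x ∈ (eta F).range) ?_ ?_ ?_ x hx
  · intro r
    exact Subalgebra.algebraMap_mem _ r
  · intro x y _ _ hx hy
    exact Subalgebra.add_mem _ hx hy
  · intro a b x _ hx
    have h2 : ι (addOne Q) a * ι (addOne Q) b * x =
        (ι (addOne Q) a * pr (addOne Q) F.addOne.v) * (ι (addOne Q) b * pr (addOne Q) F.addOne.v) * x := by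
      rw [mul_assoc (ι (addOne Q) a) (pr (addOne Q) F.addOne.v), ← mul_assoc (pr (addOne Q) F.addOne.v), F.addOne.comm,
        mul_assoc (ι (addOne Q) b), F.addOne.sq, mul_one]
    rw [h2]
    exact Subalgebra.mul_mem _ (Subalgebra.mul_mem _ (h1 a) (h1 b)) hx

/-- an algebra map from a matrix algebra is injective if the structure map of the target is -/
theorem injective_of_matrix {ι : Type} [Fintype ι] [DecidableEq ι] [Nonempty ι] {B : Type w} [Ring B] [Algebra R B]
    (hB : Function.Injective (algebraMap R B)) (φ : Matrix ι ι R →ₐ[R] B) : Function.Injective φ := by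
  rw [injective_iff_map_eq_zero]
  intro X hX
  ext i j
  rw [Matrix.zero_apply]
  apply hB
  rw [map_zero, ← AlgHom.commutes φ]
  have h1 : algebraMap R (Matrix ι ι R) (X i j) = ∑ k, Matrix.single k i 1 * X * Matrix.single j k 1 := by
    ext p q
    rw [Matrix.algebraMap_matrix_apply, Matrix.sum_apply]
    split_ifs with hpq
    · subst hpq
      rw [Finset.sum_eq_single p]
      · rw [Matrix.mul_single_apply_same, Matrix.single_mul_apply_same, one_mul, mul_one]
        rfl
      · intro k _ hk
        rw [Matrix.mul_single_apply_of_ne _ _ _ _ _ hk.symm]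
      · intro h; exact absurd (Finset.mem_univ p) h
    · symm
      refine Finset.sum_eq_zero fun k _ => ?_
      by_cases hk : k = q
      · subst hk
        rw [Matrix.mul_single_apply_same, Matrix.single_mul_apply_of_ne _ _ _ _ _ hpq, zero_mul]
      · rw [Matrix.mul_single_apply_of_ne _ _ _ _ _ (Ne.symm hk)]
  rw [h1, map_sum]
  refine Finset.sum_eq_zero fun k _ => ?_
  rw [map_mul, map_mul, hX, mul_zero, zero_mul]

attribute [local instance] MatCl.fin MatCl.dec

/-- the structure of `C(Q ⊥ ⟨1⟩)` -/
noncomputable def oclAddOne [Module.Free R M] {m : ℕ} (E : MatCl Q m) : OCl (addOne Q) where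
  idx := E.idx
  fin := E.fin
  dec := E.dec
  ne := Center.nonempty_idx E
  η := (eta F).comp E.Φ.symm.toAlgHom
  inj := by
    have := Center.nonempty_idx E
    exact injective_of_matrix (Basic.algebraMap_injective _) _
  mem_iff x := by
    constructor
    · intro hx
      obtain ⟨y, hy⟩ := mem_range_eta F hx
      refine ⟨E.Φ y, ?_⟩
      change eta F (E.Φ.symm (E.Φ y)) = x
      rw [AlgEquiv.symm_apply_apply, hy]
    · rintro ⟨X, rfl⟩
      exact eta_mem F _
  z := pr (addOne Q) F.addOne.v
  comm := F.addOne.comm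
  sq := F.addOne.sq
  odd := F.addOne.odd

end addOne

end K916.OddCl
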