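import Groth.Agent.QuadGrp.K916.OddSplit
import Groth.Agent.QuadGrp.K916.DicksonGlob
import Groth.Agent.QuadGrp.K916.MatSN
import Groth.Agent.QuadGrp.K918.Center

/-!
# Semiregular forms of odd rank over any ring: the centre, conjugations; over a local ring: lifting to the Clifford group
-/

set_option autoImplicit false

universe u v w u'

open CliffordAlgebra TensorProduct

namespace K916.OddGlob

open BC Dickson Glob Parts OddCl OddSplit DicksonGlob WFam DetW FamBC

section Descent

variable {R : Type u} [CommRing R] {M : Type v} [AddCommGroup M] [Module R M]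
variable {A : Type u'} [CommRing A] [Algebra R A] {M' : Type w} [AddCommGroup M'] [Module R M'] [Module A M']
  [IsScalarTower R A M']
variable {Q : QuadraticForm R M} {Q' : QuadraticForm A M'} {f : M →ₗ[R] M'}

theorem central_cmap (h : IsBC A Q Q' f) {x : CliffordAlgebra Q} (hx : ∀ y, x * y = y * x) (y : CliffordAlgebra Q') :
    cmap h.compat x * y = y * cmap h.compat x := by
  induction y using (isBaseChange_cmap h).inductionOn with
  | zero => rw [mul_zero, zero_mul]
  | tmul y =>
    change cmap h.compat x * cmap h.compat y = cmap h.compat y * cmap h.compat x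
    rw [← map_mul, hx, map_mul]
  | smul a y hy => rw [mul_smul_comm, smul_mul_assoc, hy]
  | add y z hy hz => rw [mul_add, add_mul, hy, hz]

/-- descent of units -/
theorem isUnit_of_cmap [Module.FaithfullyFlat R A] (h : IsBC A Q Q' f) {x : CliffordAlgebra Q}
    (hx : IsUnit (cmap h.compat x)) : IsUnit x := by
  have htop : ∀ y : CliffordAlgebra Q', y ∈ Submodule.span A (Set.range (cmap h.compat)) := by
    intro y
    induction y using (isBaseChange_cmap h).inductionOn with
    | zero => exact Submodule.zero_mem _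
    | tmul y => exact Submodule.subset_span ⟨y, rfl⟩
    | smul a y hy => exact Submodule.smul_mem _ a hy
    | add y z hy hz => exact Submodule.add_mem _ hy hz
  obtain ⟨y, hy1⟩ := hx.exists_right_inv
  obtain ⟨z, hz1⟩ := hx.exists_left_inv
  have h1 : (1 : CliffordAlgebra Q) ∈ LinearMap.range (LinearMap.mulLeft R x) := by
    refine Desc.mem_of_mem_span A (isBaseChange_cmap h) _ ?_
    change cmap h.compat 1 ∈ _
    rw [map_one, ← hy1]
    have key : ∀ y ∈ Submodule.span A (Set.range (cmap h.compat)), cmap h.compat x * y ∈ Submodule.span A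
        ((cmap h.compat).toLinearMap '' (LinearMap.range (LinearMap.mulLeft R x) : Set (CliffordAlgebra Q))) := by
      intro y hy
      induction hy using Submodule.span_induction with
      | mem y hy =>
        obtain ⟨y, rfl⟩ := hy
        exact Submodule.subset_span ⟨x * y, ⟨y, rfl⟩, map_mul (cmap h.compat) _ _⟩
      | zero => rw [mul_zero]; exact Submodule.zero_mem _
      | add a b _ _ ha hb => rw [mul_add]; exact Submodule.add_mem _ ha hb
      | smul r a _ ha => rw [mul_smul_comm]; exact Submodule.smul_mem _ _ ha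
    exact key y (htop y)
  have h2 : (1 : CliffordAlgebra Q) ∈ LinearMap.range (LinearMap.mulRight R x) := by
    refine Desc.mem_of_mem_span A (isBaseChange_cmap h) _ ?_
    change cmap h.compat 1 ∈ _
    rw [map_one, ← hz1]
    have key : ∀ y ∈ Submodule.span A (Set.range (cmap h.compat)), y * cmap h.compat x ∈ Submodule.span A
        ((cmap h.compat).toLinearMap '' (LinearMap.range (LinearMap.mulRight R x) : Set (CliffordAlgebra Q))) := by
      intro y hy
      induction hy using Submodule.span_induction with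
      | mem y hy =>
        obtain ⟨y, rfl⟩ := hy
        exact Submodule.subset_span ⟨y * x, ⟨y, rfl⟩, map_mul (cmap h.compat) _ _⟩
      | zero => rw [zero_mul]; exact Submodule.zero_mem _
      | add a b _ _ ha hb => rw [add_mul]; exact Submodule.add_mem _ ha hb
      | smul r a _ ha => rw [smul_mul_assoc]; exact Submodule.smul_mem _ _ ha
    exact key z (htop z)
  obtain ⟨a, ha⟩ := h1
  obtain ⟨b, hb⟩ := h2
  rw [LinearMap.mulLeft_apply] at ha
  rw [LinearMap.mulRight_apply] at hb
  have hab : b = a := by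
    calc b = b * (x * a) := by rw [ha, mul_one]
      _ = a := by rw [← mul_assoc, hb, one_mul]
  subst hab
  exact ⟨⟨x, b, ha, hb⟩, rfl⟩

/-- two ring maps on `C(Q')` over `A` agreeing on the image of vectors -/
theorem algHom_eq (h : IsBC A Q Q' f) {B : Type*} [Ring B] [Algebra A B] (F G : CliffordAlgebra Q' →ₐ[A] B)
    (hFG : ∀ v, F (ι Q' (f v)) = G (ι Q' (f v))) : F = G := by
  apply CliffordAlgebra.hom_ext
  refine LinearMap.ext fun u => ?_
  exact forall_of_image h (F.toLinearMap ∘ₗ ι Q') (G.toLinearMap ∘ₗ ι Q') hFG u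

/-- conjugation by a unit as an algebra map -/
noncomputable def conj {B : Type w} [Ring B] [Algebra R B] (u : Bˣ) : B →ₐ[R] B where
  toFun x := u * x * ↑u⁻¹
  map_one' := by rw [mul_one, Units.mul_inv]
  map_mul' x y := by
    rw [mul_assoc (↑u * x), ← mul_assoc (↑u⁻¹ : B), ← mul_assoc (↑u⁻¹ : B), Units.inv_mul, one_mul, ← mul_assoc, ← mul_assoc]
  map_zero' := by rw [mul_zero, zero_mul]
  map_add' x y := by rw [mul_add, add_mul]
  commutes' r := by rw [← Algebra.commutes, mul_assoc, Units.mul_inv, mul_one]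

theorem conj_apply {B : Type w} [Ring B] [Algebra R B] (u : Bˣ) (x : B) : conj (R := R) u x = u * x * ↑u⁻¹ := rfl

end Descent

section Normaliser

variable {R : Type u} [CommRing R] {M : Type v} [AddCommGroup M] [Module R M] [Module.Free R M] {Q : QuadraticForm R M}

/-- a unit normalising the module induces an isometry by conjugation -/
theorem exists_isometry (u : (CliffordAlgebra Q)ˣ) (hu : u ∈ QuadGrp.GPin' Q) :
    ∃ g ∈ QuadGrp.O Q, ∀ v : M, (u : CliffordAlgebra Q) * ι Q v * ↑u⁻¹ = ι Q (g v) := by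
  obtain ⟨h1, h2⟩ := (K918.Cliff.mem_GPin'_iff u).1 hu
  obtain ⟨-, p, -, -, -, hp⟩ := Basic.exists_retractions Q
  let a : M →ₗ[R] M := p ∘ₗ (conj (R := R) u).toLinearMap ∘ₗ ι Q
  let b : M →ₗ[R] M := p ∘ₗ (conj (R := R) u⁻¹).toLinearMap ∘ₗ ι Q
  have ha : ∀ v, (u : CliffordAlgebra Q) * ι Q v * ↑u⁻¹ = ι Q (a v) := by
    intro v
    obtain ⟨w, hw⟩ := h1 v
    have h3 : (u : CliffordAlgebra Q) * ι Q v * ↑u⁻¹ = ι Q w := by rw [hw, mul_assoc, Units.mul_inv, mul_one]
    have h4 : a v = w := by
      change p ((u : CliffordAlgebra Q) * ι Q v * ↑u⁻¹) = w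
      rw [h3, hp]
    rw [h3, h4]
  have hb : ∀ w, (↑u⁻¹ : CliffordAlgebra Q) * ι Q w * u = ι Q (b w) := by
    intro w
    obtain ⟨v, hv⟩ := h2 w
    have h3 : (↑u⁻¹ : CliffordAlgebra Q) * ι Q w * u = ι Q v := by
      rw [mul_assoc, ← hv, ← mul_assoc, Units.inv_mul, one_mul]
    have h4 : b w = v := by
      change p ((↑u⁻¹ : CliffordAlgebra Q) * ι Q w * ↑u⁻¹⁻¹) = v
      rw [inv_inv, h3, hp]
    rw [h3, h4]
  have hab : ∀ v, a (b v) = v := by
    intro v
    apply Basic.ι_injective Q
    rw [← ha, ← hb]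
    simp only [mul_assoc, Units.mul_inv, mul_one]
    rw [← mul_assoc, Units.mul_inv, one_mul]
  have hba : ∀ v, b (a v) = v := by
    intro v
    apply Basic.ι_injective Q
    rw [← hb, ← ha]
    simp only [mul_assoc, Units.inv_mul, mul_one]
    rw [← mul_assoc, Units.inv_mul, one_mul]
  let g : M ≃ₗ[R] M := LinearEquiv.ofLinearMap a b (LinearMap.ext hab) (LinearMap.ext hba)
  refine ⟨g, ?_, ha⟩
  intro v
  apply Basic.algebraMap_injective Q
  change algebraMap R _ (Q (a v)) = _
  rw [← ι_sq_scalar, ← ha]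
  have : (u : CliffordAlgebra Q) * ι Q v * ↑u⁻¹ * (↑u * ι Q v * ↑u⁻¹) = u * (ι Q v * ι Q v) * ↑u⁻¹ := by
    simp only [mul_assoc]
    rw [← mul_assoc (↑u⁻¹ : CliffordAlgebra Q) (u : CliffordAlgebra Q), Units.inv_mul, one_mul]
  rw [this, ι_sq_scalar, ← Algebra.commutes, mul_assoc, Units.mul_inv, mul_one]

end Normaliser

section Odd

variable {R : Type u} [CommRing R] {M : Type v} [AddCommGroup M] [Module R M] [Module.Free R M]
variable {m : ℕ} (b : Module.Basis (Fin (2 * m + 1)) R M) {Q : QuadraticForm R M}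
  (hQ : QuadGrp.IsSemiregular b (LinearEquiv.refl R R) Q)

include b hQ

/-- splitting in odd rank -/
theorem exists_isBC_odd : ∃ (A : Type u) (_ : CommRing A) (_ : Algebra R A), Module.FaithfullyFlat R A ∧
      ∃ f : M →ₗ[R] (Fin (2 * m + 1) → A), IsBC A Q (QuadGrp.splitForm A (2 * m + 1)) f := by
  obtain ⟨A, h1, h2, h3, -, h4⟩ := exists_isBC b Q ⟨fun h => absurd h (by
    rw [Nat.not_even_iff_odd]; exact ⟨m, rfl⟩), fun _ => hQ⟩
  exact ⟨A, h1, h2, h3, h4⟩

/-- even central elements are scalars -/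
theorem exists_of_even_central {x : CliffordAlgebra Q} (hx0 : x ∈ evenOdd Q 0) (hx : ∀ y, x * y = y * x) :
    ∃ r : R, x = algebraMap R _ r := by
  obtain ⟨A, _, _, _, f, h⟩ := exists_isBC_odd b hQ
  obtain ⟨a, ha⟩ := (oclSplit A m).exists_of_even_central (cmap_mem_evenOdd h.compat 0 hx0)
    fun y _ => central_cmap h hx y
  exact mem_range_of_cmap h ha

/-- the star of an odd central element -/
theorem star_of_odd_central {x : CliffordAlgebra Q} (hx1 : x ∈ evenOdd Q 1) (hx : ∀ y, x * y = y * x) :
    star x = (-1 : R) ^ (m + 1) • x := by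
  obtain ⟨A, _, _, _, f, h⟩ := exists_isBC_odd b hQ
  obtain ⟨a, ha⟩ := (oclSplit A m).exists_of_odd_central (cmap_mem_evenOdd h.compat 1 hx1)
    fun y => central_cmap h hx y
  apply cmap_injective h
  rw [cmap_star, map_smul, ha, oclSplit_z]
  have h1 : star (a • pr (QuadGrp.splitForm A (2 * m + 1)) (oddFam A m).v) =
      a • star (pr (QuadGrp.splitForm A (2 * m + 1)) (oddFam A m).v) := by
    rw [Algebra.smul_def, star_mul, Algebra.smul_def, star_algebraMap, Algebra.commutes]
  rw [h1, star_oddFam, smul_comm, ← algebraMap_smul A ((-1 : R) ^ (m + 1)), map_pow, map_neg, map_one]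

/-- the isometry induced by conjugation by a unit has determinant one -/
theorem det_eq_one_of_conj [Module.Finite R M] (u : (CliffordAlgebra Q)ˣ) (g : M ≃ₗ[R] M) (hg : g ∈ QuadGrp.O Q)
    (hu : ∀ v : M, (u : CliffordAlgebra Q) * ι Q v * ↑u⁻¹ = ι Q (g v)) :
    LinearMap.det (g : M →ₗ[R] M) = 1 := by
  obtain ⟨A, _, _, _, f, h⟩ := exists_isBC_odd b hQ
  have h1 : cg _ (bcEquiv_mem h hg) = conj (R := A) (Units.map (cmap h.compat).toMonoidHom u) := by
    refine algHom_eq h _ _ fun v => ?_
    rw [cg_ι, bcEquiv_apply, ← cmap_ι h.compat, ← hu, map_mul, map_mul, cmap_ι]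
    rfl
  have h2 := cg_oddFam A m _ (bcEquiv_mem h hg)
  rw [h1, conj_apply, ← oclSplit_z, ← (oclSplit A m).comm_all, mul_assoc, Units.mul_inv, mul_one, det_bcEquiv] at h2
  have h3 : algebraMap A (CliffordAlgebra (QuadGrp.splitForm A (2 * m + 1))) 1 =
      algebraMap A _ (algebraMap R A (LinearMap.det (g : M →ₗ[R] M))) := by
    have h4 := congrArg (· * (oclSplit A m).z) h2
    simp only [smul_mul_assoc, (oclSplit A m).sq] at h4
    rw [map_one]
    refine h4.trans ?_
    exact (Algebra.algebraMap_eq_smul_one _).symm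
  have h5 := Basic.algebraMap_injective _ h3
  apply FaithfulSMul.algebraMap_injective R A
  rw [← h5, map_one]

end Odd

end K916.OddGlob
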