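import Groth.Agent.QuadGrp.K916.OddGlob
import Mathlib.RingTheory.LocalProperties.Basic

/-!
# Semiregular forms of odd rank over a local ring: isometries of determinant one lift to even units
-/

set_option autoImplicit false

universe u v w u'

open CliffordAlgebra TensorProduct

namespace K916.OddLocal

open BC Dickson Glob Parts OddCl OddSplit DicksonGlob WFam DetW FamBC OddGlob

section Local

variable {R : Type u} [CommRing R]

/-- a faithfully flat algebra over a local ring has a faithfully flat local algebra over it -/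
theorem exists_local_of_faithfullyFlat [IsLocalRing R] (A : Type u) [CommRing A] [Algebra R A] [Module.FaithfullyFlat R A] :
    ∃ (B : Type u) (_ : CommRing B) (_ : Algebra R B) (_ : Algebra A B) (_ : IsScalarTower R A B), IsLocalRing B ∧
      Module.FaithfullyFlat R B := by
  obtain ⟨q, hq⟩ := PrimeSpectrum.comap_surjective_of_faithfullyFlat (A := R) (B := A) (IsLocalRing.closedPoint R)
  have hq' : Ideal.comap (algebraMap R A) q.asIdeal = IsLocalRing.maximalIdeal R := congrArg PrimeSpectrum.asIdeal hq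
  let B := Localization.AtPrime q.asIdeal
  have : Module.Flat A B := inferInstance
  have : Module.Flat R B := Module.Flat.trans R A B
  have : IsLocalHom (algebraMap R B) := by
    refine ⟨fun a ha => ?_⟩
    by_contra hn
    have h1 : a ∈ IsLocalRing.maximalIdeal R := (IsLocalRing.mem_maximalIdeal _).2 hn
    rw [← hq', Ideal.mem_comap] at h1
    rw [IsScalarTower.algebraMap_apply R A B] at ha
    exact (IsLocalization.AtPrime.isUnit_to_map_iff B q.asIdeal _).1 ha h1
  exact ⟨B, inferInstance, inferInstance, inferInstance, inferInstance, inferInstance,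
    Module.FaithfullyFlat.of_flat_of_isLocalHom⟩

variable {M : Type v} [AddCommGroup M] [Module R M]

/-- composition of base changes of forms -/
theorem IsBC.comp {A : Type u'} [CommRing A] [Algebra R A] {B : Type w} [CommRing B] [Algebra R B] [Algebra A B]
    [IsScalarTower R A B] {n : ℕ} {Q : QuadraticForm R M} {f : M →ₗ[R] (Fin n → A)}
    (h : BC.IsBC A Q (QuadGrp.splitForm A n) f) :
    BC.IsBC B Q (QuadGrp.splitForm B n) (((coordMap A B n).restrictScalars R).comp f) where
  isBaseChange := IsBaseChange.comp h.isBaseChange (isBaseChange_coordMap A B n)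
  compat m := by
    change QuadGrp.splitForm B n (coordMap A B n (f m)) = _
    rw [(isBC_split A B n).compat, h.compat, ← IsScalarTower.algebraMap_apply]

end Local

section Odd

variable {R : Type u} [CommRing R] [IsLocalRing R] {M : Type v} [AddCommGroup M] [Module R M] [Module.Free R M]
variable {m : ℕ} (b : Module.Basis (Fin (2 * m + 1)) R M) {Q : QuadraticForm R M}
  (hQ : QuadGrp.IsSemiregular b (LinearEquiv.refl R R) Q)

include b hQ in
/-- splitting in odd rank over a local ring, by a local faithfully flat algebra -/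
theorem exists_isBC_local : ∃ (A : Type u) (_ : CommRing A) (_ : Algebra R A), IsLocalRing A ∧ Module.FaithfullyFlat R A ∧
      ∃ f : M →ₗ[R] (Fin (2 * m + 1) → A), BC.IsBC A Q (QuadGrp.splitForm A (2 * m + 1)) f := by
  obtain ⟨A, _, _, _, f, h⟩ := exists_isBC_odd b hQ
  obtain ⟨B, _, _, _, _, h1, h2⟩ := exists_local_of_faithfullyFlat (R := R) A
  exact ⟨B, inferInstance, inferInstance, h1, h2, _, IsBC.comp h⟩

end Odd

section Split

attribute [local instance] OCl.fin OCl.dec

variable {A : Type u} [CommRing A] [IsLocalRing A] {M' : Type v} [AddCommGroup M'] [Module A M'] {Q' : QuadraticForm A M'}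

/-- over a local ring, with the even part a matrix algebra, `C(g)` is inner on the even part -/
theorem exists_unit_Tw (E : OCl Q') (g : M' ≃ₗ[A] M') (hg : g ∈ QuadGrp.O Q') :
    ∃ w : CliffordAlgebra Q', IsUnit w ∧ w ∈ Tw Q' (cg g hg).toLinearMap := by
  have := E.ne
  have hmem : ∀ X, cg g hg (E.η X) ∈ E.η.range := by
    intro X
    obtain ⟨Y, hY⟩ := (E.mem_iff _).1 (cg_mem g hg ((E.mem_iff _).2 ⟨X, rfl⟩))
    exact ⟨Y, hY⟩
  let ε : Matrix E.idx E.idx A ≃ₐ[A] E.η.range := AlgEquiv.ofInjective E.η E.inj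
  let θ : Matrix E.idx E.idx A →ₐ[A] Matrix E.idx E.idx A :=
    ε.symm.toAlgHom.comp (AlgHom.codRestrict ((cg g hg).comp E.η) E.η.range hmem)
  have hθ : ∀ X, E.η (θ X) = cg g hg (E.η X) := by
    intro X
    have h1 : ε (θ X) = ⟨cg g hg (E.η X), hmem X⟩ := AlgEquiv.apply_symm_apply ε _
    exact congrArg Subtype.val h1
  obtain ⟨U, hU, hUX⟩ := MatSN.exists_unit θ
  refine ⟨E.η U, hU.map E.η, (E.mem_iff _).2 ⟨U, rfl⟩, fun y hy => ?_⟩
  obtain ⟨X, rfl⟩ := (E.mem_iff _).1 hy
  change E.η U * E.η X = cg g hg (E.η X) * E.η U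
  rw [← map_mul, hUX, map_mul, hθ]

end Split

section Main

variable {R : Type u} [CommRing R] [IsLocalRing R] {M : Type v} [AddCommGroup M] [Module R M] [Module.Free R M]
  [Module.Finite R M]
variable {m : ℕ} (b : Module.Basis (Fin (2 * m + 1)) R M) {Q : QuadraticForm R M}
  (hQ : QuadGrp.IsSemiregular b (LinearEquiv.refl R R) Q)

include b hQ in
/-- **over a local ring, an isometry of determinant one is conjugation by an even unit** -/
theorem exists_even_unit (g : M ≃ₗ[R] M) (hg : g ∈ QuadGrp.O Q) (hdet : LinearMap.det (g : M →ₗ[R] M) = 1) :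
    ∃ u : (CliffordAlgebra Q)ˣ, (u : CliffordAlgebra Q) ∈ evenOdd Q 0 ∧
      ∀ v : M, (u : CliffordAlgebra Q) * ι Q v = ι Q (g v) * u := by
  obtain ⟨A, _, _, _, _, f, h⟩ := exists_isBC_local b hQ
  have hfin : Module.Finite R (CliffordAlgebra Q) := Basic.module_finite Q
  set g' := bcEquiv h.isBaseChange g with hg'
  have hg'O : g' ∈ QuadGrp.O (QuadGrp.splitForm A (2 * m + 1)) := bcEquiv_mem h hg
  obtain ⟨w, hw, hwT⟩ := exists_unit_Tw (oclSplit A m) g' hg'O
  have hspan := Tw_eq_span h (cg g hg).toLinearMap (cg g' hg'O).toLinearMap fun x =>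
    (FamBC.cmap_cg h.compat g hg g' hg'O (bcEquiv_apply h.isBaseChange g) x).symm
  have hwT' := hwT
  rw [hspan] at hwT'
  obtain ⟨k, a, x, hx⟩ := Submodule.mem_span_set'.1 hwT'
  choose y hyT hy using fun i => (x i).2
  obtain ⟨w', hw'1⟩ := hw.exists_left_inv
  obtain ⟨uw, rfl⟩ := hw
  -- every element of the twisted centraliser is a multiple of `w`
  have hmul : ∀ t ∈ Tw (QuadGrp.splitForm A (2 * m + 1)) (cg g' hg'O).toLinearMap,
      ∃ c : A, t = c • (uw : CliffordAlgebra (QuadGrp.splitForm A (2 * m + 1))) := by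
    intro t ht
    have h0 : (↑uw⁻¹ : CliffordAlgebra (QuadGrp.splitForm A (2 * m + 1))) ∈ evenOdd _ 0 :=
      (QuadGrp.evenUnits (QuadGrp.splitForm A (2 * m + 1))).inv_mem (x := uw) hwT.1
    have h1 : (↑uw⁻¹ * t : CliffordAlgebra (QuadGrp.splitForm A (2 * m + 1))) ∈ evenOdd _ 0 := by
      have := SetLike.mul_mem_graded h0 ht.1
      rwa [add_zero] at this
    obtain ⟨c, hc⟩ := (oclSplit A m).exists_of_even_central h1 fun y hy => by
      have h2 := hwT.2 y hy
      have h3 := ht.2 y hy
      have h4 : (y * ↑uw⁻¹ : CliffordAlgebra (QuadGrp.splitForm A (2 * m + 1))) = ↑uw⁻¹ * (cg g' hg'O).toLinearMap y := by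
        calc (y * ↑uw⁻¹ : CliffordAlgebra (QuadGrp.splitForm A (2 * m + 1)))
            = ↑uw⁻¹ * (uw * y) * ↑uw⁻¹ := by rw [← mul_assoc, Units.inv_mul, one_mul]
          _ = ↑uw⁻¹ * ((cg g' hg'O).toLinearMap y * uw) * ↑uw⁻¹ := by rw [h2]
          _ = ↑uw⁻¹ * (cg g' hg'O).toLinearMap y := by
            rw [← mul_assoc, Units.mul_inv_cancel_right]
      rw [mul_assoc, h3, ← mul_assoc, ← h4, mul_assoc]
    refine ⟨c, ?_⟩
    rw [Algebra.smul_def, Algebra.commutes, ← hc, ← mul_assoc, Units.mul_inv, one_mul]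
  have hyT' : ∀ i, cmap h.compat (y i) ∈ Tw (QuadGrp.splitForm A (2 * m + 1)) (cg g' hg'O).toLinearMap := by
    intro i
    rw [hspan]
    exact Submodule.subset_span ⟨y i, hyT i, rfl⟩
  choose c hc using fun i => hmul _ (hyT' i)
  have hsum : ∑ i, a i * c i = 1 := by
    have h1 : (∑ i, a i * c i) • (uw : CliffordAlgebra (QuadGrp.splitForm A (2 * m + 1))) = uw := by
      conv_rhs => rw [← hx]
      rw [Finset.sum_smul]
      refine Finset.sum_congr rfl fun i _ => ?_
      rw [← hy i, hc i, smul_smul]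
    have h2 : (∑ i, a i * c i) • (1 : CliffordAlgebra (QuadGrp.splitForm A (2 * m + 1))) = 1 := by
      have h3 := congrArg (· * (↑uw⁻¹ : CliffordAlgebra (QuadGrp.splitForm A (2 * m + 1)))) h1
      simpa only [smul_mul_assoc, Units.mul_inv] using h3
    apply Basic.algebraMap_injective (QuadGrp.splitForm A (2 * m + 1))
    rw [Algebra.algebraMap_eq_smul_one, h2, map_one]
  obtain ⟨i, hi⟩ : ∃ i, IsUnit (c i) := by
    by_contra hn
    push Not at hn
    have h1 : (1 : A) ∈ IsLocalRing.maximalIdeal A := by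
      rw [← hsum]
      exact Ideal.sum_mem _ fun i _ => Ideal.mul_mem_left _ _ ((IsLocalRing.mem_maximalIdeal _).2 (hn i))
    exact (IsLocalRing.maximalIdeal.isMaximal A).ne_top ((Ideal.eq_top_iff_one _).2 h1)
  have hyu : IsUnit (cmap h.compat (y i)) := by
    rw [hc i, Algebra.smul_def]
    exact (hi.map _).mul uw.isUnit
  obtain ⟨u, hu⟩ := isUnit_of_cmap h hyu
  refine ⟨u, by rw [hu]; exact (hyT i).1, fun v => ?_⟩
  rw [hu]
  apply cmap_injective h
  rw [map_mul, map_mul, cmap_ι, cmap_ι, ← bcEquiv_apply h.isBaseChange g, ← hg']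
  -- multiply by the central element
  have hz : cg g' hg'O (oclSplit A m).z = (oclSplit A m).z := by
    rw [oclSplit_z, cg_oddFam, hg', det_bcEquiv, hdet, map_one, one_smul]
  have hvz : ι (QuadGrp.splitForm A (2 * m + 1)) (f v) * (oclSplit A m).z ∈ evenOdd _ 0 := by
    have := SetLike.mul_mem_graded (ι_mem_evenOdd_one (QuadGrp.splitForm A (2 * m + 1)) (f v)) (oclSplit A m).odd
    rwa [show (1 + 1 : ZMod 2) = 0 by decide] at this
  have h5 := (hyT' i).2 _ hvz
  change _ = cg g' hg'O (ι (QuadGrp.splitForm A (2 * m + 1)) (f v) * (oclSplit A m).z) * _ at h5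
  rw [map_mul, hz, cg_ι, mul_assoc (ι _ (g' (f v))), (oclSplit A m).comm_all, ← mul_assoc, ← mul_assoc] at h5
  have h6 := congrArg (· * (oclSplit A m).z) h5
  simpa only [mul_assoc, (oclSplit A m).sq, mul_one] using h6

end Main

end K916.OddLocal
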