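import Groth.Agent.QuadGrp.K916.OddLocal

/-!
# Odd rank: points of the even Clifford group, factorisation of the naive Clifford group, `Pin = Pin'`
-/

set_option autoImplicit false

universe u v w u'

open CliffordAlgebra QuadGrp

namespace K916.OddPin

open OddGlob OddLocal Parts

variable {R : Type u} [CommRing R] {M : Type v} [AddCommGroup M] [Module R M] [Module.Free R M]
  [Module.Finite R M]
variable {m : ℕ} (b : Module.Basis (Fin (2 * m + 1)) R M) {Q : QuadraticForm R M}
  (hQ : QuadGrp.IsSemiregular b (LinearEquiv.refl R R) Q)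

include b hQ in
/-- over a local ring, an isometry of determinant one is conjugation by a point of `GSpin` -/
theorem exists_GSpin [IsLocalRing R] (g : M ≃ₗ[R] M) (hg : g ∈ QuadGrp.O Q) (hdet : LinearMap.det (g : M →ₗ[R] M) = 1) :
    ∃ u ∈ GSpin Q, ∀ v : M, (u : CliffordAlgebra Q) * ι Q v * ↑u⁻¹ = ι Q (g v) := by
  obtain ⟨u, hu0, hu⟩ := exists_even_unit b hQ g hg hdet
  refine ⟨u, ⟨⟨?_, ?_⟩, hu0⟩, fun v => ?_⟩
  · refine (K918.Cliff.mem_GPin'_iff u).2 ⟨fun v => ⟨g v, hu v⟩, fun w => ⟨g.symm w, ?_⟩⟩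
    rw [hu, LinearEquiv.apply_symm_apply]
  · refine ⟨1, IsIdempotentElem.one, ?_, ?_⟩
    · rw [one_smul]; exact hu0
    · rw [sub_self, zero_smul]; exact Submodule.zero_mem _
  · rw [hu, mul_assoc, Units.mul_inv, mul_one]

/-- an element commuting with vectors is central -/
theorem central_of_ι {x : CliffordAlgebra Q} (h : ∀ v, x * ι Q v = ι Q v * x) (y : CliffordAlgebra Q) : x * y = y * x := by
  induction y using CliffordAlgebra.induction with
  | algebraMap r => rw [Algebra.commutes]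
  | ι v => exact h v
  | mul a b ha hb => rw [← mul_assoc, ha, mul_assoc, hb, mul_assoc]
  | add a b ha hb => rw [mul_add, add_mul, ha, hb]

include b hQ in
/-- over a local ring, a unit normalising the module is a central unit times a point of `GSpin` -/
theorem exists_factor [IsLocalRing R] (u' : (CliffordAlgebra Q)ˣ) (hu' : u' ∈ GPin' Q) :
    ∃ z : CliffordAlgebra Q, z ∈ Subalgebra.center R (CliffordAlgebra Q) ∧ IsUnit z ∧
      ∃ u ∈ GSpin Q, (u' : CliffordAlgebra Q) = z * u := by
  obtain ⟨g, hg, hgu⟩ := exists_isometry u' hu'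
  obtain ⟨u, hu, hgu2⟩ := exists_GSpin b hQ g hg (det_eq_one_of_conj b hQ u' g hg hgu)
  refine ⟨u' * ↑u⁻¹, ?_, (u' * u⁻¹).isUnit, u, hu, by rw [mul_assoc, Units.inv_mul, mul_one]⟩
  rw [Subalgebra.mem_center_iff]
  intro y
  refine (central_of_ι (fun v => ?_) y).symm
  obtain ⟨v, rfl⟩ := g.surjective v
  have h1 : (↑u⁻¹ : CliffordAlgebra Q) * ι Q (g v) = ι Q v * ↑u⁻¹ := by
    rw [← hgu2, ← mul_assoc, ← mul_assoc, Units.inv_mul, one_mul]
  have h2 : (u' : CliffordAlgebra Q) * ι Q v = ι Q (g v) * u' := by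
    rw [← hgu, mul_assoc, Units.inv_mul, mul_one]
  rw [mul_assoc, h1, ← mul_assoc, h2, mul_assoc]

include b hQ in
/-- when two is invertible and the rank is `3` modulo `4`, `Pin = Pin'` -/
theorem pin_eq (h2 : IsUnit (2 : R)) (hm : Odd m) : Pin Q = Pin' Q := by
  apply le_antisymm
  · rintro u ⟨⟨h1, -⟩, h3⟩
    exact ⟨h1, h3⟩
  · rintro u ⟨h1, h3⟩
    refine ⟨⟨h1, ?_⟩, h3⟩
    obtain ⟨g, hg, hgu⟩ := exists_isometry u h1
    have hgu' : ∀ v, (u : CliffordAlgebra Q) * ι Q v = ι Q (g v) * u := fun v => by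
      rw [← hgu, mul_assoc, Units.inv_mul, mul_one]
    set x0 := pk Q 0 (u : CliffordAlgebra Q) with hx0
    set x1 := pk Q 1 (u : CliffordAlgebra Q) with hx1
    have hx0m : x0 ∈ evenOdd Q 0 := pk_mem Q 0 _
    have hx1m : x1 ∈ evenOdd Q 1 := pk_mem Q 1 _
    have hsum : x0 + x1 = u := pk_add_pk Q _
    have huniq : ∀ {a a' b b' : CliffordAlgebra Q}, a ∈ evenOdd Q 0 → a' ∈ evenOdd Q 0 → b ∈ evenOdd Q 1 →
        b' ∈ evenOdd Q 1 → a + b = a' + b' → a = a' ∧ b = b' := by
      intro a a' b b' ha ha' hb hb' h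
      have h0 := congrArg (pk Q 0) h
      have h1 := congrArg (pk Q 1) h
      have z1 : ∀ {c : CliffordAlgebra Q}, c ∈ evenOdd Q 1 → pk Q 0 c = 0 := fun hc =>
        (pk_eq_zero_iff Q).2 (by rwa [zero_add])
      have z0 : ∀ {c : CliffordAlgebra Q}, c ∈ evenOdd Q 0 → pk Q 1 c = 0 := fun hc => (mem_iff_pk Q).1 hc
      rw [map_add, map_add, pk_of_mem Q ha, pk_of_mem Q ha', z1 hb, z1 hb', add_zero, add_zero] at h0
      rw [map_add, map_add, pk_of_mem Q hb, pk_of_mem Q hb', z0 ha, z0 ha', zero_add, zero_add] at h1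
      exact ⟨h0, h1⟩
    have e11 : (1 + 1 : ZMod 2) = 0 := by decide
    have m00 : ∀ {a b : CliffordAlgebra Q}, a ∈ evenOdd Q 0 → b ∈ evenOdd Q 0 → a * b ∈ evenOdd Q 0 := fun ha hb => by
      have := SetLike.mul_mem_graded ha hb; rwa [add_zero] at this
    have m01 : ∀ {a b : CliffordAlgebra Q}, a ∈ evenOdd Q 0 → b ∈ evenOdd Q 1 → a * b ∈ evenOdd Q 1 := fun ha hb => by
      have := SetLike.mul_mem_graded ha hb; rwa [zero_add] at this
    have m10 : ∀ {a b : CliffordAlgebra Q}, a ∈ evenOdd Q 1 → b ∈ evenOdd Q 0 → a * b ∈ evenOdd Q 1 := fun ha hb => by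
      have := SetLike.mul_mem_graded ha hb; rwa [add_zero] at this
    have m11 : ∀ {a b : CliffordAlgebra Q}, a ∈ evenOdd Q 1 → b ∈ evenOdd Q 1 → a * b ∈ evenOdd Q 0 := fun ha hb => by
      have := SetLike.mul_mem_graded ha hb; rwa [e11] at this
    have hs : ∀ {k : ZMod 2} {a : CliffordAlgebra Q}, a ∈ evenOdd Q k → star a ∈ evenOdd Q k := by
      intro k a ha
      rw [star_def]
      exact (reverse_mem_evenOdd_iff Q).2 ((involute_mem_evenOdd_iff Q).2 ha)
    -- both parts intertwine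
    have hint : ∀ v, x0 * ι Q v = ι Q (g v) * x0 ∧ x1 * ι Q v = ι Q (g v) * x1 := by
      intro v
      have h4 := hgu' v
      rw [← hsum, add_mul, mul_add, add_comm (x0 * _), add_comm (ι Q (g v) * x0)] at h4
      have h5 := huniq (m11 hx1m (ι_mem_evenOdd_one Q v)) (m11 (ι_mem_evenOdd_one Q (g v)) hx1m)
        (m01 hx0m (ι_mem_evenOdd_one Q v)) (m10 (ι_mem_evenOdd_one Q (g v)) hx0m) h4
      exact ⟨h5.2, h5.1⟩
    have hst : ∀ {x : CliffordAlgebra Q}, (∀ v, x * ι Q v = ι Q (g v) * x) → ∀ v, star x * ι Q (g v) = ι Q v * star x := by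
      intro x hx v
      have h4 := congrArg star (hx v)
      rw [star_mul, star_mul, star_ι, star_ι, neg_mul, mul_neg, neg_inj] at h4
      exact h4.symm
    -- products of `star x` and `y` are central
    have hcent : ∀ {x y : CliffordAlgebra Q}, (∀ v, x * ι Q v = ι Q (g v) * x) → (∀ v, y * ι Q v = ι Q (g v) * y) →
        ∀ t, star x * y * t = t * (star x * y) := by
      intro x y hx hy t
      refine central_of_ι (fun v => ?_) t
      rw [mul_assoc, hy, ← mul_assoc, hst hx, mul_assoc]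
    have hcent' : ∀ {x y : CliffordAlgebra Q}, (∀ v, x * ι Q v = ι Q (g v) * x) → (∀ v, y * ι Q v = ι Q (g v) * y) →
        ∀ t, x * star y * t = t * (x * star y) := by
      intro x y hx hy t
      refine central_of_ι (fun v => ?_) t
      obtain ⟨v, rfl⟩ := g.surjective v
      rw [mul_assoc, hst hy, ← mul_assoc, hx, mul_assoc]
    have k0 : ∀ v, x0 * ι Q v = ι Q (g v) * x0 := fun v => (hint v).1
    have k1 : ∀ v, x1 * ι Q v = ι Q (g v) * x1 := fun v => (hint v).2
    -- the odd central element `star x0 * x1` vanishes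
    have hy0 : star x0 * x1 = 0 ∧ star x1 * x0 = 0 := by
      have h4 : star x1 * x0 = star x0 * x1 := by
        have h5 := star_of_odd_central b hQ (m01 (hs hx0m) hx1m) (hcent k0 k1)
        rw [star_mul, star_star, Even.neg_one_pow hm.add_one, one_smul] at h5
        exact h5
      have h5 : star (u : CliffordAlgebra Q) * u = 1 := h3
      rw [← hsum, star_add, add_mul, mul_add, mul_add] at h5
      have h6 : (star x0 * x0 + star x1 * x1) + (star x0 * x1 + star x1 * x0) = 1 + 0 := by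
        rw [add_zero, ← h5]; abel
      have h7 := (huniq (Submodule.add_mem _ (m00 (hs hx0m) hx0m) (m11 (hs hx1m) hx1m))
        (SetLike.one_mem_graded _) (Submodule.add_mem _ (m01 (hs hx0m) hx1m) (m10 (hs hx1m) hx0m))
        (Submodule.zero_mem _) h6).2
      rw [h4, ← two_smul R, h2.smul_eq_zero] at h7
      exact ⟨h7, by rw [h4, h7]⟩
    have hstu : star (u : CliffordAlgebra Q) = ↑u⁻¹ := (Units.inv_eq_of_mul_eq_one_left h3).symm
    -- `x0 * star x0` is a scalar
    obtain ⟨e, he⟩ := exists_of_even_central b hQ (m00 hx0m (hs hx0m)) (hcent' k0 k0)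
    obtain ⟨e', he'⟩ := exists_of_even_central b hQ (m11 hx1m (hs hx1m)) (hcent' k1 k1)
    have hee : e + e' = 1 := by
      have h5 : (u : CliffordAlgebra Q) * star (u : CliffordAlgebra Q) = 1 := by rw [hstu, Units.mul_inv]
      rw [← hsum, star_add, add_mul, mul_add, mul_add] at h5
      have h6 : (x0 * star x0 + x1 * star x1) + (x0 * star x1 + x1 * star x0) = 1 + 0 := by
        rw [add_zero, ← h5]; abel
      have h7 := (huniq (Submodule.add_mem _ (m00 hx0m (hs hx0m)) (m11 hx1m (hs hx1m)))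
        (SetLike.one_mem_graded _) (Submodule.add_mem _ (m01 hx0m (hs hx1m)) (m10 hx1m (hs hx0m)))
        (Submodule.zero_mem _) h6).1
      rw [he, he', ← map_add] at h7
      exact Basic.algebraMap_injective Q (by rw [h7, map_one])
    have h8 : e • x1 = 0 := by
      rw [Algebra.smul_def, ← he, mul_assoc, hy0.1, mul_zero]
    have h9 : e' • x0 = 0 := by
      rw [Algebra.smul_def, ← he', mul_assoc, hy0.2, mul_zero]
    have h10 : e * e = e := by
      have h11 : e' * e = 0 := by
        apply Basic.algebraMap_injective Q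
        rw [map_mul, ← he, ← mul_assoc, ← Algebra.smul_def, h9, zero_mul, map_zero]
      linear_combination hee * e - h11
    refine ⟨e, h10, ?_, ?_⟩
    · rw [← hsum, smul_add, h8, add_zero]
      exact Submodule.smul_mem _ _ hx0m
    · have h12 : 1 - e = e' := by linear_combination -hee
      rw [h12, ← hsum, smul_add, h9, zero_add]
      exact Submodule.smul_mem _ _ hx1m

end K916.OddPin
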