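import Groth.Agent.QuadGrp.K916.OddCl
import Groth.Agent.QuadGrp.K916.DetW
import Groth.Agent.QuadGrp.K917.Cover
import Groth.Agent.QuadGrp.K917.Semireg
import Groth.Agent.QuadGrp.K917.Central
import Groth.Agent.QuadGrp.K918.HalfDisc

/-!
# The split form of odd rank: semiregularity, the generic isometry of determinant one, `C(g) z = det(g) z`
-/

set_option autoImplicit false

universe u v w u'

open CliffordAlgebra QuadraticMap

namespace K916.OddSplit

open WFam DetW FamBC Dickson

section Semireg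

/-- the discriminant of the split form of odd rank over `ℤ` divides two -/
theorem exists_mul_disc (m : ℕ) : ∃ t : ℤ,
    QuadGrp.disc (Pi.basisFun ℤ (Fin (2 * m + 1))) (LinearEquiv.refl ℤ ℤ) (QuadGrp.splitForm ℤ (2 * m + 1)) * t = 2 := by
  obtain ⟨T, hT⟩ := K917.Split.exists_dual ℤ (2 * m + 1)
  have h0 : (2 * m + 1) % 2 = 1 := by omega
  rw [K917.Base.disc_eq_det]
  set P : Matrix (Fin (2 * m + 1)) (Fin (2 * m + 1)) ℤ := Matrix.of fun i j =>
    polar (QuadGrp.splitForm ℤ (2 * m + 1)) (Pi.basisFun ℤ (Fin (2 * m + 1)) i) (Pi.basisFun ℤ (Fin (2 * m + 1)) j) with hP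
  -- the modified dual operator
  let w : Fin (2 * m + 1) → (Fin (2 * m + 1) → ℤ) := fun j => if j = 0 then Pi.single 0 1 else T (Pi.single j 1)
  let U : Matrix (Fin (2 * m + 1)) (Fin (2 * m + 1)) ℤ := Matrix.of fun i j => w j i
  refine ⟨U.det, ?_⟩
  rw [← Matrix.det_mul]
  have h1 : P * U = Matrix.diagonal fun j => if j = 0 then 2 else 1 := by
    ext i j
    have h4 : (P * U) i j = polar (QuadGrp.splitForm ℤ (2 * m + 1)) (Pi.single i 1) (w j) := by
      rw [Matrix.mul_apply]
      have h3 : w j = ∑ k, w j k • (Pi.single k 1 : Fin (2 * m + 1) → ℤ) := by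
        funext l
        rw [Finset.sum_apply, Finset.sum_eq_single l]
        · simp
        · intro b _ hb
          simp [hb.symm]
        · intro h; exact absurd (Finset.mem_univ l) h
      have h5 := map_sum (QuadraticMap.polarBilin (QuadGrp.splitForm ℤ (2 * m + 1)) (Pi.single i 1))
        (fun k => w j k • (Pi.single k 1 : Fin (2 * m + 1) → ℤ)) Finset.univ
      simp only [QuadraticMap.polarBilin_apply_apply] at h5
      rw [← h3] at h5
      rw [h5]
      refine Finset.sum_congr rfl fun k _ => ?_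
      rw [polar_smul_right, smul_eq_mul, mul_comm, hP, Matrix.of_apply, Pi.basisFun_apply, Pi.basisFun_apply]
      rfl
    rw [h4, Matrix.diagonal_apply]
    have hlt : 0 < 2 * m + 1 := by omega
    by_cases hj : j = 0
    · subst hj
      simp only [w, if_pos]
      rw [K917.Central.polar_splitForm, if_pos h0]
      simp only [K917.Central.ext0_single, h0]
      rw [Finset.sum_eq_zero]
      · by_cases hi : i = 0
        · subst hi
          simp
        · have : ¬ (0 = (i : ℕ)) := fun h => hi (Fin.ext h.symm)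
          simp [this, hi]
      · intro a _
        have h1 : ¬ (2 * a + 1 + 1 = ((0 : Fin (2 * m + 1)) : ℕ)) := by simp
        have h2 : ¬ (2 * a + 1 = ((0 : Fin (2 * m + 1)) : ℕ)) := by simp
        rw [if_neg h1, if_neg h2, mul_zero, zero_mul, add_zero]
    · simp only [w, if_neg hj]
      rw [hT, if_pos h0, K917.Split.ext0_of_lt _ 0 hlt, K917.Split.ext0_of_lt _ 0 hlt]
      have h6 : (Pi.single j 1 : Fin (2 * m + 1) → ℤ) ⟨0, hlt⟩ = 0 := by
        rw [Pi.single_apply, if_neg (fun h : (⟨0, hlt⟩ : Fin (2 * m + 1)) = j => hj (h.symm.trans rfl))]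
      rw [h6, mul_zero, sub_zero, Finset.sum_eq_single j]
      · rw [Pi.single_eq_same, mul_one, Pi.single_apply]
        by_cases hij : i = j
        · subst hij
          rw [if_pos rfl, if_pos rfl, if_neg hj]
        · rw [if_neg hij, if_neg (Ne.symm hij)]
      · intro b _ hb
        rw [Pi.single_eq_of_ne hb, mul_zero]
      · intro h; exact absurd (Finset.mem_univ j) h
  rw [h1, Matrix.det_diagonal, Fin.prod_univ_succ]
  simp

/-- the split form of odd rank is semiregular -/
theorem isSemiregular_splitForm_odd (A : Type u) [CommRing A] (m : ℕ) :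
    QuadGrp.IsSemiregular (Pi.basisFun A (Fin (2 * m + 1))) (LinearEquiv.refl A A) (QuadGrp.splitForm A (2 * m + 1)) := by
  have h1 : IsUnit (QuadGrp.halfDisc (Pi.basisFun ℤ (Fin (2 * m + 1))) (LinearEquiv.refl ℤ ℤ)
      (QuadGrp.splitForm ℤ (2 * m + 1))) := by
    obtain ⟨t, ht⟩ := exists_mul_disc m
    have h2 : QuadGrp.disc (Pi.basisFun ℤ (Fin (2 * m + 1))) (LinearEquiv.refl ℤ ℤ) (QuadGrp.splitForm ℤ (2 * m + 1)) =
        2 * QuadGrp.halfDisc (Pi.basisFun ℤ (Fin (2 * m + 1))) (LinearEquiv.refl ℤ ℤ) (QuadGrp.splitForm ℤ (2 * m + 1)) := by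
      rw [QuadGrp.disc, QuadGrp.halfDisc, ← K918.HalfDisc.two_mul_halfDiscUniv ⟨m, rfl⟩, MvPolynomial.eval₂_mul]
      congr 1
      rw [show (2 : MvPolynomial (Sym2 (Fin (2 * m + 1))) ℤ) = MvPolynomial.C 2 from (map_ofNat MvPolynomial.C 2).symm,
        MvPolynomial.eval₂_C]
      simp
    rw [h2, mul_assoc] at ht
    exact IsUnit.of_mul_eq_one t (mul_left_cancel₀ two_ne_zero (by rw [ht, mul_one]))
  have h2 := K917.Cover.map_halfDisc (Int.castRingHom A) (K917.Coef.sc ℤ (2 * m + 1))
  rw [K917.Coef.map_sc, K917.Coef.qf_sc, K917.Coef.qf_sc] at h2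
  rw [QuadGrp.IsSemiregular, h2]
  exact h1.map _

end Semireg

section Generic

theorem det_sim {T : Type u} [CommRing T] (m : ℕ) (X : Matrix (Fin (2 * m + 1)) (Fin (2 * m + 1)) T) (c : T)
    (h : ∀ v, QuadGrp.splitForm T (2 * m + 1) v = c * QuadGrp.splitForm T (2 * m + 1) (X.mulVec v)) :
    (2 : T) * (c ^ (2 * m + 1) * X.det ^ 2) = 2 := by
  set Q := QuadGrp.splitForm T (2 * m + 1) with hQ
  have hB : polarBilin Q = c • (polarBilin Q).compl₁₂ (Matrix.toLin' X) (Matrix.toLin' X) := by
    refine LinearMap.ext fun x => LinearMap.ext fun y => ?_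
    rw [LinearMap.smul_apply, LinearMap.smul_apply, LinearMap.compl₁₂_apply, polarBilin_apply_apply, polarBilin_apply_apply,
      Matrix.toLin'_apply, Matrix.toLin'_apply, polar, polar, h (x + y), h x, h y, Matrix.mulVec_add, smul_eq_mul]
    ring
  have hM := congrArg (LinearMap.toMatrix₂' T) hB
  rw [map_smul, LinearMap.toMatrix₂'_compl₁₂, LinearMap.toMatrix'_toLin'] at hM
  have hD := congrArg Matrix.det hM
  rw [Matrix.det_smul, Matrix.det_mul, Matrix.det_mul, Matrix.det_transpose, Fintype.card_fin] at hD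
  have hdisc : (LinearMap.toMatrix₂' T (polarBilin Q)).det =
      QuadGrp.disc (Pi.basisFun T (Fin (2 * m + 1))) (LinearEquiv.refl T T) Q := by
    rw [K917.Base.disc_eq_det]
    congr 1
    ext i j
    rw [LinearMap.toMatrix₂'_apply, Matrix.of_apply, Pi.basisFun_apply, Pi.basisFun_apply]
    rfl
  have hZ := K917.Cover.map_disc (Int.castRingHom T) (K917.Coef.sc ℤ (2 * m + 1))
  rw [K917.Coef.map_sc, K917.Coef.qf_sc, K917.Coef.qf_sc] at hZ
  obtain ⟨t, ht⟩ := exists_mul_disc m
  have h2 : (LinearMap.toMatrix₂' T (polarBilin Q)).det * (t : T) = 2 := by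
    rw [hdisc, hZ]
    have := congrArg (Int.castRingHom T) ht
    rw [map_mul] at this
    rw [← eq_intCast (Int.castRingHom T) t, this]
    simp
  linear_combination (c ^ (2 * m + 1) * X.det ^ 2 - 1) * (-1) * h2 - (t : T) * hD

theorem mt_mulVec_eq {S : Type u} [CommRing S] {n : ℕ} (g : (Fin n → S) ≃ₗ[S] (Fin n → S)) (v : Fin n → S) :
    (Bridge.mt g).mulVec v = g v := Bridge.mt_mulVec g v

/-- the generic isometry of determinant one of the split form of odd rank -/
theorem exists_generic_odd (m : ℕ) : Nonempty (Generic.{u} (2 * m + 1)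
    fun S _ g => LinearMap.det (g : (Fin (2 * m + 1) → S) →ₗ[S] (Fin (2 * m + 1) → S)) = 1) := by
  let f := K917.Cover.simEq (K917.Coef.sc ℤ (2 * m + 1)) (K917.Coef.sc ℤ (2 * m + 1))
  have hsm : Algebra.Smooth ℤ (K917.PolySys.Alg f) := K917.Cover.smooth _ _ K917.Deform.defProp_sc
  have hfl : Module.Flat ℤ (K917.PolySys.Alg f) := inferInstance
  let x := K917.PolySys.pt f
  let X : Matrix (Fin (2 * m + 1)) (Fin (2 * m + 1)) (K917.PolySys.Alg f) := K917.Cover.matOf x
  let c := x (Sum.inr false)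
  let e := x (Sum.inr true)
  have h1 : c • K917.Coef.pull (K917.Coef.sc _ (2 * m + 1)) X = K917.Coef.sc _ (2 * m + 1) := by
    funext s
    have := K917.PolySys.pt_spec f (Sum.inl s)
    rw [K917.Cover.aeval_simEq_inl, K917.Coef.map_sc, sub_eq_zero] at this
    exact this
  have h2 : e * (c * X.det) = 1 := by
    have := K917.PolySys.pt_spec f (Sum.inr ())
    rw [K917.Cover.aeval_simEq_inr, sub_eq_zero] at this
    exact this
  have h3 : ∀ v, QuadGrp.splitForm _ (2 * m + 1) v = c * QuadGrp.splitForm _ (2 * m + 1) (X.mulVec v) := by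
    intro v
    rw [← K917.Coef.qf_sc, ← K917.Coef.qf_pull]
    conv_lhs => rw [← h1, K917.Coef.qf_smul, QuadraticMap.smul_apply, smul_eq_mul]
  have h4 : c ^ (2 * m + 1) * X.det ^ 2 = 1 := by
    have := det_sim m X c h3
    refine eq_of_natCast_zsmul (T := K917.PolySys.Alg f) (k := 2) two_ne_zero ?_
    rw [zsmul_eq_mul, zsmul_eq_mul]
    push_cast
    rw [this, mul_one]
  let l := c ^ m * X.det
  have h5 : l * l * c = 1 := by
    rw [← h4]; ring
  have hiso : Coord.IsIso (Bridge.cm (K917.Coef.cf (QuadGrp.splitForm (K917.PolySys.Alg f) (2 * m + 1)))) ((l * c) • X) := by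
    rw [Bridge.isIso_cm_iff, K917.Coef.qf_cf]
    intro v
    rw [h3 v, Matrix.smul_mulVec, QuadraticMap.map_smul, smul_eq_mul]
    linear_combination (c * QuadGrp.splitForm (K917.PolySys.Alg f) (2 * m + 1) (X.mulVec v)) * h5
  have hu : IsUnit ((l * c) • X).det := by
    rw [Matrix.det_smul]
    refine IsUnit.mul (IsUnit.pow _ (IsUnit.of_mul_eq_one l ?_)) (IsUnit.of_mul_eq_one (e * c) ?_)
    · rw [← h5]; ring
    · rw [← h2]; ring
  refine generic_of (2 * m + 1) _ hfl ((l * c) • X) ((l * c) • X)⁻¹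
    ⟨Matrix.mul_nonsing_inv _ hu, Matrix.nonsing_inv_mul _ hu, hiso, fun h => absurd h (by decide)⟩
    fun S _ g hg hdet => ?_
  let y : K917.Cover.Var (2 * m + 1) → S := Sum.elim (fun p => Bridge.mt g p.1 p.2) fun _ => 1
  have hy : K917.Cover.matOf y = Bridge.mt g := by ext i j; rfl
  have hsol : ∀ i, MvPolynomial.aeval y (f i) = 0 := by
    rintro (s | t)
    · rw [K917.Cover.aeval_simEq_inl, K917.Coef.map_sc, hy, sub_eq_zero]
      change ((1 : S) • K917.Coef.pull (K917.Coef.sc S (2 * m + 1)) (Bridge.mt g)) s = _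
      rw [one_smul]
      refine congrFun (K917.Coef.qf_ext_iff.2 fun v => ?_) s
      rw [K917.Coef.qf_pull, K917.Coef.qf_sc, Bridge.mt_mulVec]
      exact hg v
    · rw [K917.Cover.aeval_simEq_inr, hy, Bridge.det_mt, hdet]
      change (1 : S) * (1 * 1) - 1 = 0
      ring
  have hpt : ∀ s, K917.PolySys.lift f y hsol (x s) = y s := K917.PolySys.lift_pt f y hsol
  refine ⟨(K917.PolySys.lift f y hsol).toRingHom, ?_⟩
  have hX : X.map (K917.PolySys.lift f y hsol) = Bridge.mt g := by
    ext i j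
    exact hpt (Sum.inl (i, j))
  have hXd : K917.PolySys.lift f y hsol X.det = 1 := by
    rw [AlgHom.map_det, AlgHom.mapMatrix_apply, hX, Bridge.det_mt, hdet]
  have hc : K917.PolySys.lift f y hsol c = 1 := hpt _
  have hl : K917.PolySys.lift f y hsol (l * c) = 1 := by
    rw [map_mul, map_mul, map_pow, hXd, hc, one_pow, mul_one, mul_one]
  ext i j
  change K917.PolySys.lift f y hsol ((l * c) * X i j) = _
  rw [map_mul, hl, one_mul]
  exact hpt (Sum.inl (i, j))

/-- **the determinant formula in odd rank, for determinant one**: `C(g) z = z`. -/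
theorem cg_oddFam_of_det (S : Type u) [CommRing S] (m : ℕ) (g : (Fin (2 * m + 1) → S) ≃ₗ[S] (Fin (2 * m + 1) → S))
    (hg : g ∈ QuadGrp.O (QuadGrp.splitForm S (2 * m + 1)))
    (hdet : LinearMap.det (g : (Fin (2 * m + 1) → S) →ₗ[S] (Fin (2 * m + 1) → S)) = 1) :
    cg g hg (pr _ (oddFam S m).v) = pr _ (oddFam S m).v := by
  obtain ⟨X⟩ := exists_generic_odd.{u} m
  have := X.cg_pr (oddFamSplit ℤ m).v (oddFamSplit ℤ m).ortho S g hg hdet
  rw [hdet, one_smul] at this
  exact this

end Generic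

section Formula

variable {R : Type u} [CommRing R] {M : Type v} [AddCommGroup M] [Module R M] {Q : QuadraticForm R M}

theorem pr_succ {n : ℕ} (v : Fin (n + 1) → M) : pr Q v = ι Q (v 0) * pr Q (fun i => v i.succ) := by
  rw [pr, List.ofFn_succ, List.prod_cons]
  rfl

theorem pr_smul (d : R) : ∀ {n : ℕ} (v : Fin n → M), pr Q (fun i => d • v i) = d ^ n • pr Q v := by
  intro n
  induction n with
  | zero => intro v; rw [pow_zero, one_smul, pr, pr, List.ofFn_zero, List.ofFn_zero]
  | succ n ih =>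
    intro v
    rw [pr_succ, pr_succ, ih, map_smul, smul_mul_smul_comm, pow_succ, mul_comm]

theorem cg_pr (g : M ≃ₗ[R] M) (hg : g ∈ QuadGrp.O Q) {n : ℕ} (v : Fin n → M) :
    cg g hg (pr Q v) = pr Q (fun i => g (v i)) := map_pr _ v

theorem mul_pr_of_ortho {n : ℕ} (a : M) (v : Fin n → M) (h : ∀ i, polar Q a (v i) = 0) :
    pr Q v * ι Q a = (-1 : R) ^ n • (ι Q a * pr Q v) := by
  induction n with
  | zero => rw [pr, List.ofFn_zero, List.prod_nil, one_mul, mul_one, pow_zero, one_smul]
  | succ n ih =>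
    rw [pr_succ, mul_assoc, ih (fun i => v i.succ) (fun i => h i.succ), mul_smul_comm, ← mul_assoc, ← mul_assoc,
      ← neg_eq_iff_eq_neg.2 (Alt.anticomm_of_ortho Q (h 0)), pow_succ, mul_smul, neg_smul, one_smul, neg_mul]

theorem star_pr {n : ℕ} (v : Fin n → M) (h : ∀ i j, i ≠ j → polar Q (v i) (v j) = 0) :
    star (pr Q v) = (-1 : R) ^ ((n + 1).choose 2) • pr Q v := by
  induction n with
  | zero => rw [pr, List.ofFn_zero, List.prod_nil, star_one]; simp
  | succ n ih =>
    rw [pr_succ, star_mul, ih (fun i => v i.succ) fun i j hij => h _ _ fun h' => hij (Fin.succ_injective _ h'),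
      star_ι, mul_neg, smul_mul_assoc,
      mul_pr_of_ortho (v 0) (fun i => v i.succ) (fun i => h _ _ (Fin.succ_ne_zero i).symm), smul_smul, ← neg_smul]
    congr 1
    rw [show (n + 1 + 1).choose 2 = (n + 1).choose 2 + (n + 1) by
      rw [Nat.choose_succ_succ' (n + 1) 1, Nat.choose_one_right]; ring]
    ring

/-- the star of the canonical central element -/
theorem star_oddFam (S : Type u) [CommRing S] (m : ℕ) :
    star (pr (QuadGrp.splitForm S (2 * m + 1)) (oddFam S m).v) =
      (-1 : S) ^ (m + 1) • pr (QuadGrp.splitForm S (2 * m + 1)) (oddFam S m).v := by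
  rw [star_pr _ (oddFam S m).ortho]
  congr 1
  have : (2 * m + 1 + 1).choose 2 = (m + 1) * (2 * m + 1) := by
    rw [Nat.choose_two_right, show 2 * m + 1 + 1 - 1 = 2 * m + 1 from rfl,
      show (2 * m + 1 + 1) * (2 * m + 1) = (m + 1) * (2 * m + 1) * 2 by ring, Nat.mul_div_cancel _ two_pos]
  rw [this, pow_mul, ← pow_mul, mul_comm, pow_mul]
  congr 1
  exact Odd.neg_one_pow ⟨m, rfl⟩

/-- **the determinant formula in odd rank**: `C(g) z = det(g) z`. -/
theorem cg_oddFam (S : Type u) [CommRing S] (m : ℕ) (g : (Fin (2 * m + 1) → S) ≃ₗ[S] (Fin (2 * m + 1) → S))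
    (hg : g ∈ QuadGrp.O (QuadGrp.splitForm S (2 * m + 1))) :
    cg g hg (pr _ (oddFam S m).v) =
      LinearMap.det (g : (Fin (2 * m + 1) → S) →ₗ[S] (Fin (2 * m + 1) → S)) • pr _ (oddFam S m).v := by
  rcases subsingleton_or_nontrivial S with hS | hS
  · have : Subsingleton (CliffordAlgebra (QuadGrp.splitForm S (2 * m + 1))) := Module.subsingleton S _
    exact Subsingleton.elim _ _
  set d := LinearMap.det (g : (Fin (2 * m + 1) → S) →ₗ[S] (Fin (2 * m + 1) → S)) with hd
  have hdd : d * d = 1 := by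
    have h := K918.HalfDisc.halfDisc_comp ⟨m, rfl⟩ (Pi.basisFun S (Fin (2 * m + 1)))
      (QuadGrp.splitForm S (2 * m + 1)) g.toLinearMap
    have h1 : (QuadGrp.splitForm S (2 * m + 1)).comp g.toLinearMap = QuadGrp.splitForm S (2 * m + 1) := by
      ext v
      exact hg v
    rw [h1] at h
    have h3 : (1 - d * d) * QuadGrp.halfDisc (Pi.basisFun S (Fin (2 * m + 1))) (LinearEquiv.refl S S)
        (QuadGrp.splitForm S (2 * m + 1)) = 0 := by
      linear_combination h
    have h4 := ((isSemiregular_splitForm_odd S m).mul_left_eq_zero).1 h3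
    linear_combination -h4
  let u : Sˣ := ⟨d, d, hdd, hdd⟩
  let k : (Fin (2 * m + 1) → S) ≃ₗ[S] (Fin (2 * m + 1) → S) := g.trans (LinearEquiv.smulOfUnit u)
  have hk : ∀ v, k v = d • g v := fun v => rfl
  have hkO : k ∈ QuadGrp.O (QuadGrp.splitForm S (2 * m + 1)) := by
    intro v
    rw [hk, QuadraticMap.map_smul, hdd, one_smul]
    exact hg v
  have hkd : LinearMap.det (k : (Fin (2 * m + 1) → S) →ₗ[S] (Fin (2 * m + 1) → S)) = 1 := by
    have : (k : (Fin (2 * m + 1) → S) →ₗ[S] (Fin (2 * m + 1) → S)) =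
        d • (g : (Fin (2 * m + 1) → S) →ₗ[S] (Fin (2 * m + 1) → S)) := rfl
    rw [this, LinearMap.det_smul, Module.finrank_fin_fun, ← hd, pow_succ, pow_mul, pow_two, hdd, one_pow, one_mul, hdd]
  have h1 := cg_oddFam_of_det S m k hkO hkd
  rw [cg_pr] at h1
  simp only [hk] at h1
  rw [pr_smul d (fun i => g ((oddFam S m).v i)), ← cg_pr g hg] at h1
  have h2 : d ^ (2 * m + 1) = d := by
    rw [pow_succ, pow_mul, pow_two, hdd, one_pow, one_mul]
  rw [h2] at h1
  calc cg g hg (pr _ (oddFam S m).v) = d • (d • cg g hg (pr _ (oddFam S m).v)) := by rw [smul_smul, hdd, one_smul]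
    _ = d • pr _ (oddFam S m).v := by rw [h1]

end Formula

section Ocl

open OddCl

theorem oddFam_v (S : Type u) [CommRing S] (m : ℕ) :
    (oddFam S m).v = ((evenFam S m).addOne.congr (isometryFirst S m).symm).v := by
  funext i
  change coordMap ℤ S (2 * m + 1) ((splitFirst ℤ m).symm ((Fin.cons (0, 1) fun i => ((evenFamSplit ℤ m).v i, 0) :
      Fin (2 * m + 1) → (Fin (2 * m) → ℤ) × ℤ) i)) =
    (splitFirst S m).symm ((Fin.cons (0, 1) fun i => ((evenFam S m).v i, 0) : Fin (2 * m + 1) → (Fin (2 * m) → S) × S) i)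
  refine Fin.cases ?_ (fun i => ?_) i
  · funext j
    refine Fin.cases ?_ (fun j => ?_) j
    · exact map_one (algebraMap ℤ S)
    · exact map_zero (algebraMap ℤ S)
  · funext j
    refine Fin.cases ?_ (fun j => ?_) j
    · exact map_zero (algebraMap ℤ S)
    · rfl

/-- the structure of the Clifford algebra of the split form of odd rank -/
noncomputable def oclSplit (S : Type u) [CommRing S] (m : ℕ) : OCl (QuadGrp.splitForm S (2 * m + 1)) :=
  (oclAddOne (evenFam S m) (SplitForm.matClSplit S m)).congr (isometryFirst S m).symm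

theorem oclSplit_z (S : Type u) [CommRing S] (m : ℕ) : (oclSplit S m).z = pr _ (oddFam S m).v := by
  rw [oddFam_v]
  exact map_pr _ _

end Ocl

end K916.OddSplit
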