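import Groth.Agent.QuadGrp.K916.Mat2
import Mathlib.LinearAlgebra.Matrix.Unique

/-!
# Graded matrix structure on Clifford algebras of hyperbolic forms
-/

set_option autoImplicit false

universe u v w u'

open CliffordAlgebra

namespace K916.Split

section gmat

variable (R : Type u) [CommRing R] {ι : Type w}

/-- matrices homogeneous of degree `k` for the grading `s` of the index set -/
def gmat (s : ι → ZMod 2) (k : ZMod 2) : Submodule R (Matrix ι ι R) where
  carrier := {X | ∀ i j, s i ≠ s j + k → X i j = 0}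
  add_mem' {X Y} hX hY i j h := by rw [Matrix.add_apply, hX i j h, hY i j h, add_zero]
  zero_mem' _ _ _ := rfl
  smul_mem' r X hX i j h := by rw [Matrix.smul_apply, hX i j h, smul_zero]

variable {R}

theorem mem_gmat {s : ι → ZMod 2} {k : ZMod 2} {X : Matrix ι ι R} :
    X ∈ gmat R s k ↔ ∀ i j, s i ≠ s j + k → X i j = 0 := Iff.rfl

theorem gmat_mul [Fintype ι] {s : ι → ZMod 2} {k l : ZMod 2} {X Y : Matrix ι ι R} (hX : X ∈ gmat R s k)
    (hY : Y ∈ gmat R s l) : X * Y ∈ gmat R s (k + l) := by
  intro i j h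
  rw [Matrix.mul_apply]
  refine Finset.sum_eq_zero fun p _ => ?_
  by_cases h1 : s i = s p + k
  · have h2 : s p ≠ s j + l := by
      intro h2
      apply h
      rw [h1, h2]
      ring
    rw [hY p j h2, mul_zero]
  · rw [hX i p h1, zero_mul]

theorem gmat_one [DecidableEq ι] (s : ι → ZMod 2) : (1 : Matrix ι ι R) ∈ gmat R s 0 := by
  intro i j h
  rw [Matrix.one_apply_ne]
  rintro rfl
  simp at h

theorem gmat_disjoint {s : ι → ZMod 2} {k l : ZMod 2} (h : k ≠ l) {X : Matrix ι ι R} (hX : X ∈ gmat R s k)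
    (hY : X ∈ gmat R s l) : X = 0 := by
  ext i j
  by_cases h1 : s i = s j + k
  · have h2 : s i ≠ s j + l := by
      intro h2
      rw [h1] at h2
      exact h (add_left_cancel h2)
    exact hY i j h2
  · exact hX i j h1

theorem single_mem_gmat [DecidableEq ι] {s : ι → ZMod 2} {k : ZMod 2} {i j : ι} (h : s i = s j + k) (r : R) :
    Matrix.single i j r ∈ gmat R s k := by
  intro a b hab
  rw [Matrix.single_apply_of_ne]
  rintro ⟨rfl, rfl⟩
  exact hab h

end gmat

variable {R : Type u} [CommRing R] {M : Type v} [AddCommGroup M] [Module R M]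

/-- an algebra map sending vectors to the degree one part of a graded target is graded -/
theorem map_mem_of_mem_evenOdd {Q : QuadraticForm R M} {B : Type w} [Ring B] [Algebra R B] (F : CliffordAlgebra Q →ₐ[R] B)
    (G : ZMod 2 → Submodule R B) (h1 : (1 : B) ∈ G 0) (hmul : ∀ k l x y, x ∈ G k → y ∈ G l → x * y ∈ G (k + l))
    (hι : ∀ v, F (ι Q v) ∈ G 1) (k : ZMod 2) {x : CliffordAlgebra Q} (hx : x ∈ evenOdd Q k) : F x ∈ G k := by
  have hpow : ∀ (n : ℕ) (x : CliffordAlgebra Q), x ∈ LinearMap.range (ι Q) ^ n → F x ∈ G (n : ZMod 2) := by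
    intro n
    induction n with
    | zero =>
      intro x hx
      rw [pow_zero, Submodule.mem_one] at hx
      obtain ⟨r, rfl⟩ := hx
      rw [AlgHom.commutes, Algebra.algebraMap_eq_smul_one, Nat.cast_zero]
      exact Submodule.smul_mem _ _ h1
    | succ n ih =>
      intro x hx
      rw [pow_succ] at hx
      refine Submodule.mul_induction_on hx ?_ ?_
      · rintro y hy _ ⟨m, rfl⟩
        rw [map_mul, Nat.cast_succ]
        exact hmul _ _ _ _ (ih y hy) (hι m)
      · intro y z hy hz
        rw [map_add]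
        exact Submodule.add_mem _ hy hz
  refine evenOdd_induction Q k (motive := fun x _ => F x ∈ G k) ?_ ?_ ?_ x hx
  · intro x hx
    have := hpow _ x hx
    rwa [ZMod.natCast_zmod_val] at this
  · intro x y hx hy hx' hy'
    rw [map_add]
    exact Submodule.add_mem _ hx' hy'
  · intro m₁ m₂ x hx hx'
    rw [map_mul, map_mul]
    have h2 := hmul _ _ _ _ (hmul _ _ _ _ (hι m₁) (hι m₂)) hx'
    rwa [show (1 + 1 + k : ZMod 2) = k by
      rw [show (1 : ZMod 2) + 1 = 0 from rfl, zero_add]] at h2

/-- `C(Q)` is a graded matrix algebra of size `2 ^ m`. -/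
structure MatCl (Q : QuadraticForm R M) (m : ℕ) where
  /-- index set -/
  idx : Type
  /-- finiteness of the index set -/
  fin : Fintype idx
  /-- decidability -/
  dec : DecidableEq idx
  /-- the parity of the indices -/
  s : idx → ZMod 2
  /-- the isomorphism with the matrix algebra -/
  Φ : CliffordAlgebra Q ≃ₐ[R] Matrix idx idx R
  card_eq : Fintype.card idx = 2 ^ m
  card_fib : m ≠ 0 → ∀ k, Fintype.card {i // s i = k} = 2 ^ (m - 1)
  odd : ∀ v, Φ (ι Q v) ∈ gmat R s 1

attribute [local instance] MatCl.fin MatCl.dec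

namespace MatCl

variable {Q : QuadraticForm R M} {m : ℕ} (E : MatCl Q m)

include E in
theorem exists_idx (hm : m ≠ 0) (k : ZMod 2) : ∃ i : E.idx, E.s i = k := by
  have h := E.card_fib hm k
  have h1 : 0 < Fintype.card {i // E.s i = k} := by rw [h]; positivity
  obtain ⟨i, hi⟩ := Fintype.card_pos_iff.1 h1
  exact ⟨i, hi⟩

theorem map_mem {k : ZMod 2} {x : CliffordAlgebra Q} (hx : x ∈ evenOdd Q k) : E.Φ x ∈ gmat R E.s k :=
  map_mem_of_mem_evenOdd E.Φ.toAlgHom (gmat R E.s) (gmat_one _) (fun _ _ _ _ => gmat_mul) E.odd k hx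

theorem mem_iff {k : ZMod 2} {x : CliffordAlgebra Q} : x ∈ evenOdd Q k ↔ E.Φ x ∈ gmat R E.s k := by
  refine ⟨E.map_mem, fun h => ?_⟩
  have hx : x ∈ evenOdd Q k ⊔ evenOdd Q (k + 1) := by
    have h1 : evenOdd Q k ⊔ evenOdd Q (k + 1) = ⊤ := by
      fin_cases k
      · exact (evenOdd_isCompl Q).sup_eq_top
      · rw [sup_comm]; exact (evenOdd_isCompl Q).sup_eq_top
    rw [h1]; trivial
  obtain ⟨x0, h0, x1, h1, rfl⟩ := Submodule.mem_sup.1 hx
  have h2 : E.Φ x1 ∈ gmat R E.s k := by
    have := Submodule.sub_mem _ h (E.map_mem h0)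
    rwa [← map_sub, add_sub_cancel_left] at this
  have h3 : E.Φ x1 = 0 := gmat_disjoint (k := k) (l := k + 1) (by
    intro h; simp at h) h2 (E.map_mem h1)
  rw [(map_eq_zero_iff E.Φ E.Φ.injective).1 h3, add_zero]
  exact h0

/-- transport along an isometry -/
noncomputable def congr {M' : Type v} [AddCommGroup M'] [Module R M'] {Q' : QuadraticForm R M'}
    (e : Q.IsometryEquiv Q') : MatCl Q' m where
  idx := E.idx
  fin := E.fin
  dec := E.dec
  s := E.s
  Φ := (equivOfIsometry e).symm.trans E.Φ
  card_eq := E.card_eq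
  card_fib := E.card_fib
  odd v := by
    have : (equivOfIsometry e).symm (ι Q' v) = ι Q (e.symm v) := by
      rw [AlgEquiv.symm_apply_eq, equivOfIsometry_apply]
      change _ = CliffordAlgebra.map _ _
      rw [map_apply_ι]
      congr 1
      exact (e.toLinearEquiv.apply_symm_apply v).symm
    rw [AlgEquiv.trans_apply, this]
    exact E.odd _

end MatCl

theorem bijective_algebraMap_of_subsingleton [Subsingleton M] (Q : QuadraticForm R M) :
    Function.Bijective (algebraMap R (CliffordAlgebra Q)) := by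
  have : Module.Free R M := Module.Free.of_subsingleton R M
  refine ⟨Basic.algebraMap_injective Q, fun x => ?_⟩
  induction x using CliffordAlgebra.induction with
  | algebraMap r => exact ⟨r, rfl⟩
  | ι m => exact ⟨0, by rw [Subsingleton.elim m 0, map_zero, map_zero]⟩
  | mul a b ha hb =>
    obtain ⟨a, rfl⟩ := ha
    obtain ⟨b, rfl⟩ := hb
    exact ⟨a * b, map_mul _ _ _⟩
  | add a b ha hb =>
    obtain ⟨a, rfl⟩ := ha
    obtain ⟨b, rfl⟩ := hb
    exact ⟨a + b, map_add _ _ _⟩

/-- the Clifford algebra of the zero module -/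
noncomputable def equivBase [Subsingleton M] (Q : QuadraticForm R M) :
    CliffordAlgebra Q ≃ₐ[R] Matrix Unit Unit R :=
  (AlgEquiv.ofBijective (Algebra.ofId R (CliffordAlgebra Q)) (bijective_algebraMap_of_subsingleton Q)).symm.trans
    (Matrix.uniqueAlgEquiv (m := Unit) (R := R) (A := R)).symm

/-- the zero module -/
noncomputable def matClZero [Subsingleton M] (Q : QuadraticForm R M) : MatCl Q 0 where
  idx := Unit
  fin := inferInstance
  dec := inferInstance
  s _ := 0
  Φ := equivBase Q
  card_eq := by simp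
  card_fib h := absurd rfl h
  odd v := by
    rw [Subsingleton.elim v 0, map_zero, map_zero]
    exact Submodule.zero_mem _

/-- the parity of an index in `Fin 2` -/
def dg (a : Fin 2) : ZMod 2 := a

/-- the inductive step `C(Q ⊥ H) = M₂(C(Q))` -/
noncomputable def matClAddH [Module.Free R M] [Module.Finite R M] {Q : QuadraticForm R M} {m : ℕ} (E : MatCl Q m) :
    MatCl (Mat2.addH Q) (m + 1) where
  idx := Fin 2 × E.idx
  fin := inferInstance
  dec := inferInstance
  s p := dg p.1 + E.s p.2
  Φ := ((Mat2.equivMat Q).trans E.Φ.mapMatrix).trans (Matrix.compAlgEquiv (Fin 2) E.idx R R)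
  card_eq := by
    rw [Fintype.card_prod, E.card_eq, Fintype.card_fin, pow_succ, mul_comm]
  card_fib _ k := by
    have e : {p : Fin 2 × E.idx // dg p.1 + E.s p.2 = k} ≃ E.idx :=
      { toFun := fun p => p.1.2
        invFun := fun i => ⟨((k + E.s i : ZMod 2), i), by
          change (k + E.s i : ZMod 2) + E.s i = k
          rw [add_assoc, CharTwo.add_self_eq_zero, add_zero]⟩
        left_inv := by
          rintro ⟨⟨a, i⟩, h⟩
          apply Subtype.ext
          apply Prod.ext
          · change (k + E.s i : ZMod 2) = dg a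
            change dg a + E.s i = k at h
            rw [← h, add_assoc, CharTwo.add_self_eq_zero, add_zero]
          · rfl
        right_inv := fun i => rfl }
    rw [Fintype.card_congr e, E.card_eq, Nat.add_sub_cancel]
  odd v := by
    obtain ⟨v, x, y⟩ := v
    rintro ⟨a, i⟩ ⟨b, j⟩ h
    change (E.Φ (Mat2.equivMat Q (ι _ (v, x, y)) a b)) i j = 0
    rw [Mat2.equivMat_ι, Mat2.mat_apply]
    fin_cases a <;> fin_cases b
    · change E.Φ (ι Q v) i j = 0
      refine E.odd v i j fun h' => h ?_
      change (0 : ZMod 2) + E.s i = 0 + E.s j + 1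
      rw [zero_add, zero_add, h']
    · change E.Φ (algebraMap R _ x) i j = 0
      rw [AlgEquiv.commutes, Matrix.algebraMap_matrix_apply, if_neg]
      rintro rfl
      apply h
      change (0 : ZMod 2) + E.s i = 1 + E.s i + 1
      rw [zero_add, add_comm 1, add_assoc, CharTwo.add_self_eq_zero, add_zero]
    · change E.Φ (algebraMap R _ y) i j = 0
      rw [AlgEquiv.commutes, Matrix.algebraMap_matrix_apply, if_neg]
      rintro rfl
      apply h
      change (1 : ZMod 2) + E.s i = 0 + E.s i + 1
      rw [zero_add, add_comm 1]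
    · change E.Φ (-ι Q v) i j = 0
      rw [map_neg, Matrix.neg_apply, neg_eq_zero]
      refine E.odd v i j fun h' => h ?_
      change (1 : ZMod 2) + E.s i = 1 + E.s j + 1
      rw [h', ← add_assoc]

end K916.Split
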